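import Mathlib

/-!
# Normalizers of `p`-subgroups modulo a central three-group
-/

set_option autoImplicit false

namespace H09.LpF
open Subgroup

universe u

theorem eq_one_of_pow {R : Type u} [Group R] {p : ℕ} (hp : p.Coprime 3) {z : R} (h1 : z ^ p = 1) (h3 : z ^ 3 = 1) : z = 1 := by
  have h : orderOf z ∣ Nat.gcd p 3 := Nat.dvd_gcd (orderOf_dvd_of_pow_eq_one h1) (orderOf_dvd_of_pow_eq_one h3)
  rw [hp] at h
  exact orderOf_eq_one_iff.mp (Nat.dvd_one.mp h)

theorem conj_mem {R X : Type u} [Group R] [Group X] (π : R →* X)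
    (hz : ∀ z, π z = 1 → z ∈ center R ∧ z ^ 3 = 1) (P : Subgroup R) (p : ℕ) (hp : p.Coprime 3) (hP : ∀ x ∈ P, x ^ p = 1)
    (g : R) (hg : π g ∈ normalizer ((P.map π : Subgroup X) : Set X)) (x : R) (hx : x ∈ P) : g * x * g⁻¹ ∈ P := by
  have h1 : π g * π x * (π g)⁻¹ ∈ P.map π := (mem_normalizer_iff.mp hg (π x)).mp (mem_map_of_mem π hx)
  obtain ⟨x', hx', he⟩ := h1
  have hz1 : π (x'⁻¹ * (g * x * g⁻¹)) = 1 := by
    simp only [map_mul, map_inv, he]; group
  obtain ⟨hc, h3⟩ := hz _ hz1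
  set z := x'⁻¹ * (g * x * g⁻¹) with hzdef
  have e : g * x * g⁻¹ = x' * z := by rw [hzdef]; group
  have hcomm : Commute x' z := (mem_center_iff.mp hc x')
  have hpw : (g * x * g⁻¹) ^ p = 1 := by rw [conj_pow, hP x hx]; group
  rw [e, hcomm.mul_pow, hP x' hx', one_mul] at hpw
  rw [e, eq_one_of_pow hp hpw h3, mul_one]
  exact hx'

theorem mem_norm {R X : Type u} [Group R] [Group X] (π : R →* X)
    (hz : ∀ z, π z = 1 → z ∈ center R ∧ z ^ 3 = 1) (P : Subgroup R) (p : ℕ) (hp : p.Coprime 3) (hP : ∀ x ∈ P, x ^ p = 1)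
    (g : R) (hg : π g ∈ normalizer ((P.map π : Subgroup X) : Set X)) : g ∈ normalizer (P : Set R) := by
  rw [mem_normalizer_iff]
  intro h
  refine ⟨conj_mem π hz P p hp hP g hg h, fun hh => ?_⟩
  have hg' : π g⁻¹ ∈ normalizer ((P.map π : Subgroup X) : Set X) := by rw [map_inv]; exact inv_mem hg
  have := conj_mem π hz P p hp hP g⁻¹ hg' _ hh
  simpa [mul_assoc] using this

/-- part F of the cluster on the local subgroups of `²E₆(2)` -/
theorem f : ∀ (R X : Type u) [Group R] [Group X] [IsSimpleGroup X] (π : R →* X), Function.Surjective π →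
    (∀ z, π z = 1 → z ∈ center R ∧ z ^ 3 = 1) → ∀ (P Y : Subgroup R) (p : ℕ), p.Coprime 3 → (∀ x ∈ P, x ^ p = 1) → P ≠ ⊥ → P ≤ Y →
      normalizer (P : Set R) ≤ normalizer (Y : Set R) → Y.map π ≠ ⊤ → ¬ Y ≤ normalizer (P : Set R) →
        ¬ IsCoatom (normalizer ((P.map π : Subgroup X) : Set X)) := by
  intro R X _ _ _ π hs hz P Y p hp hP hne hPY hN hY hYN hco
  have hle : normalizer ((P.map π : Subgroup X) : Set X) ≤ normalizer ((Y.map π : Subgroup X) : Set X) := by
    intro y hy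
    obtain ⟨g, rfl⟩ := hs y
    exact le_normalizer_map π (mem_map_of_mem π (hN (mem_norm π hz P p hp hP g hy)))
  have hlt : normalizer ((P.map π : Subgroup X) : Set X) < normalizer ((Y.map π : Subgroup X) : Set X) := by
    refine lt_of_le_of_ne hle fun he => hYN fun y hy => ?_
    apply mem_norm π hz P p hp hP y
    rw [he]
    exact le_normalizer (mem_map_of_mem π hy)
  have htop := hco.2 _ hlt
  have hnorm : (Y.map π).Normal := normalizer_eq_top_iff.mp htop
  rcases hnorm.eq_bot_or_eq_top with hb | ht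
  · apply hne
    rw [eq_bot_iff]
    intro x hx
    have h1 : π x ∈ Y.map π := mem_map_of_mem π (hPY hx)
    rw [hb, mem_bot] at h1
    exact mem_bot.mpr (eq_one_of_pow hp (hP x hx) (hz x h1).2)
  · exact hY ht

end H09.LpF
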