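import Mathlib
import Cfsg.Agent.H09.Phan6
import Cfsg.Agent.H09.UFacts
/-! Phan amalgams VII: identification of weak Phan systems. -/
namespace H09
open Matrix Cfsg H10
open scoped MatrixGroups
variable {F : Type*} [Field F] {q n m : ℕ} {G : Type*} [Group G] [Finite F] [hF : Fact (Nat.card F = q ^ 2)]

/-- upper block -/
abbrev p01 : SU 2 F q →* SU 3 F q := suPad (shift 0 (by omega))
/-- lower block -/
abbrev p12 : SU 2 F q →* SU 3 F q := suPad (shift 1 (by omega))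
theorem p01_val (x : SU 2 F q) : (p01 x).1.1 = !![x.1.1 0 0, x.1.1 0 1, 0; x.1.1 1 0, x.1.1 1 1, 0; 0, 0, 1] :=
  padM_ext _ (fun i j => by fin_cases i <;> fin_cases j <;> rfl) fun k h l => by
    rw [range_shift] at h; fin_cases k <;> fin_cases l <;> simp at h ⊢
theorem p12_val (x : SU 2 F q) : (p12 x).1.1 = !![1, 0, 0; 0, x.1.1 0 0, x.1.1 0 1; 0, x.1.1 1 0, x.1.1 1 1] :=
  padM_ext _ (fun i j => by fin_cases i <;> fin_cases j <;> rfl) fun k h l => by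
    rw [range_shift] at h; fin_cases k <;> fin_cases l <;> simp at h ⊢
/-- Weyl element -/
def uw : SU 2 F q := ⟨⟨!![0, -1; 1, 0], by simp⟩, mem_SU_iff.2 (by
  ext i j; fin_cases i <;> fin_cases j <;> simp [Matrix.mul_apply])⟩
theorem uw_val : (uw : SU 2 F q).1.1 = !![0, -1; 1, 0] := rfl
/-- diagonal element of `SU₂` -/
def udg (θ : F) (h : θ ^ q * θ = 1) : SU 2 F q :=
  suDiag ![θ, θ ^ q] (fun i => by fin_cases i <;> simp [cq_cq, h, mul_comm θ]) (by simp [h, mul_comm θ])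
theorem udg_val (θ : F) (h : θ ^ q * θ = 1) : (udg θ h).1.1 = !![θ, 0; 0, θ ^ q] := by
  ext i j; fin_cases i <;> fin_cases j <;> simp [udg, suDiag_val]
theorem diag_of (x : SU 2 F q) (h : x.1.1 0 1 = 0) : x.1.1.IsDiag := fun i j e => by
  fin_cases i <;> fin_cases j <;> simp [h, (su2_form x).2, cq_zero] at e ⊢
theorem p12_diag {x : SU 2 F q} (h : x.1.1 0 1 = 0) : (p12 x).1.1.IsDiag := fun i j e => by
  fin_cases i <;> fin_cases j <;> simp [p12_val, h, (su2_form x).2, cq_zero] at e ⊢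
theorem p01_diag {x : SU 2 F q} (h : x.1.1 0 1 = 0) : (p01 x).1.1.IsDiag := fun i j e => by
  fin_cases i <;> fin_cases j <;> simp [p01_val, h, (su2_form x).2, cq_zero] at e ⊢
theorem center_val (hn : 2 ≤ n) {z : SU n F q} (h : z ∈ Subgroup.center (SU n F q)) : ∃ c : F, z.1.1 = c • 1 := by
  obtain ⟨c, hc⟩ := center_SU hn h
  exact ⟨c, Matrix.ext fun i j => by rw [← uac_ev, hc]; simp [one_apply, Pi.single_apply]⟩
theorem inj_pad {a : SU n F q →* G} (hn : 2 ≤ n) (ha : a.ker ≤ Subgroup.center _) (e : Fin m ↪ Fin n) {k} (hk : k ∉ Set.range e) :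
    Function.Injective (a.comp (suPad e)) := (injective_iff_map_eq_one _).2 fun x h => by
  obtain ⟨c, hc⟩ := center_val hn (ha h)
  have h1 := congrFun (congrFun hc k) k
  rw [suPad_val, padM_row e _ hk] at h1
  exact suPad_inj e (by rw [map_one]; exact Subtype.ext (Subtype.ext (hc.trans (by rw [show c = 1 by simpa using h1.symm, one_smul]; rfl))))
theorem p12_comm {a : SU 3 F q →* G} (ha : a.ker ≤ Subgroup.center _) {z} (h : Commute (a (p12 z)) (a (p01 uw))) : z = 1 := by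
  obtain ⟨c, hc⟩ := center_val (by omega) (ha (show p12 z * p01 uw * (p01 uw * p12 z)⁻¹ ∈ a.ker by simp [MonoidHom.mem_ker, h.eq]))
  replace hc : (p12 z * p01 uw).1.1 = c • (p01 uw * p12 z).1.1 :=
    calc _ = (p12 z * p01 uw * (p01 uw * p12 z)⁻¹ * (p01 uw * p12 z)).1.1 := by rw [inv_mul_cancel_right]
      _ = _ := by rw [SU_mul_val, hc, smul_mul_assoc, Matrix.one_mul]
  rw [SU_mul_val, SU_mul_val, p12_val, p01_val, uw_val] at hc
  have h1 := congrFun (congrFun hc 0) 1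
  have h2 := congrFun (congrFun hc 1) 2
  have h3 := congrFun (congrFun hc 2) 2
  have h4 := congrFun (congrFun hc 1) 0
  have d := SL2.det_eq z.1
  have f := su2_form z
  simp [Matrix.mul_apply, Fin.sum_univ_three] at h1 h2 h3 h4
  have c1 : c = 1 := by rw [h2] at d; linear_combination (-c) * d - z.1.1 0 0 * h3 + d
  refine SU_ext' fun i j => ?_
  fin_cases i <;> fin_cases j <;> simp [f.1, f.2, h4, c1, h2, cq_zero]

theorem aut_ext (α : SU 2 F q ≃* SU 2 F q) (h : ∀ t, t.1.1 0 1 = 0 → (α t).1.1 0 1 = 0) :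
    ∃ Φ : SU 3 F q ≃* SU 3 F q, (∀ A g, Φ g ∈ ubl q F A ↔ g ∈ ubl q F A) ∧ ∀ x, Φ (p01 x) = p01 (α x) := by
  obtain ⟨σ, g, hg, g1, g2⟩ : ∃ (σ : RingAut F) (g : GL (Fin 2) F), (∀ x, (α x).1.1 * g.1 = g.1 * x.1.1.map σ) ∧ g.1 0 1 = 0 ∧ g.1 1 0 = 0 := by
    obtain ⟨σ, g, hg⟩ := su2_aut α
    obtain ⟨θ, t1, t2⟩ := ex_theta (F := F) (q := q)
    have e := hg (suField σ⁻¹ (udg θ t1))
    have d := diag_of _ (h (suField σ⁻¹ (udg θ t1)) (by simp [suField_val, udg_val]))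
    have d' := SL2.det_eq (α (suField σ⁻¹ (udg θ t1))).1
    rw [show (suField σ⁻¹ (udg θ t1)).1.1.map σ = !![θ, 0; 0, θ ^ q] by rw [← udg_val θ t1]; ext; simp [suField_val]] at e
    have e1 := congrFun (congrFun e 0) 0
    have e2 := congrFun (congrFun e 0) 1
    have e3 := congrFun (congrFun e 1) 0
    have e4 := congrFun (congrFun e 1) 1
    simp only [Matrix.mul_apply, Fin.sum_univ_two, d zero_ne_one, d one_ne_zero] at e1 e2 e3 e4 d'
    simp at e1 e2 e3 e4 d'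
    generalize (α _).1.1 0 0 = a at *
    generalize (α _).1.1 1 1 = b at *
    by_cases ha : a = θ
    · exact ⟨σ, g, hg, mul_left_cancel₀ (sub_ne_zero.2 t2) (by rw [ha] at e2; linear_combination θ * e2 + g.1 0 1 * t1),
        mul_left_cancel₀ (sub_ne_zero.2 t2) (by rw [ha] at d'; linear_combination (-θ) * e3 + g.1 1 0 * d')⟩
    have g0 : g.1 0 0 = 0 := mul_left_cancel₀ (sub_ne_zero.2 ha) (by linear_combination e1)
    have g1 : g.1 1 1 = 0 := mul_left_cancel₀ (sub_ne_zero.2 ha) (by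
      linear_combination (-a * θ) * e4 + θ * g.1 1 1 * d' - a * g.1 1 1 * t1)
    refine ⟨σ * barAut hF.1, g * SpecialLinearGroup.toGL (uw : SU 2 F q).1, fun x => ?_, ?_, ?_⟩
    · rw [Units.val_mul, ← Matrix.mul_assoc, hg, Matrix.mul_assoc, Matrix.mul_assoc]; congr 1
      have f := su2_form x
      ext i j; fin_cases i <;> fin_cases j <;> simp [uw_val, Matrix.mul_apply, barAut_apply, f.1, f.2, cq_cq, cq_neg]
    · simp [uw_val, Matrix.mul_apply, g0]
    · simp [uw_val, Matrix.mul_apply, g1]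
  have d : g.1 0 0 * g.1 1 1 ≠ 0 := by simpa [det_fin_two, g1] using g.det_ne_zero
  have k : ∀ x i j, (α x).1.1 i j * g.1 j j = g.1 i i * σ (x.1.1 i j) := fun x i j => by
    have := congrFun (congrFun (hg x) i) j
    fin_cases i <;> fin_cases j <;> simpa [Matrix.mul_apply, g1, g2] using this
  obtain ⟨μ, hμ⟩ : ∃ μ, g.1 0 0 = μ * g.1 1 1 := ⟨_, (div_mul_cancel₀ _ (right_ne_zero_of_mul d)).symm⟩
  have k1 : ∀ x, (α x).1.1 0 1 = μ * σ (x.1.1 0 1) := fun x => mul_right_cancel₀ (right_ne_zero_of_mul d) (by rw [k, hμ]; ring)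
  have k0 : ∀ x, (α x).1.1 0 0 = σ (x.1.1 0 0) := fun x => mul_right_cancel₀ (left_ne_zero_of_mul d) (by rw [k]; ring)
  have m1 : μ ^ q * μ = 1 := by
    have := SL2.det_eq (α uw).1
    rw [(su2_form _).2, k0, k1] at this
    simpa [uw_val, cq_neg, mul_comm] using this
  obtain ⟨δ, hδ⟩ : ∃ δ : SU 3 F q, δ.1.1 = diagonal ![μ, 1, μ ^ q] :=
    ⟨suDiag _ (fun i => by fin_cases i <;> simp [cq_cq, m1, mul_comm μ]) (by simp [Fin.prod_univ_three, m1, mul_comm μ]), rfl⟩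
  refine ⟨(suField σ).trans (MulAut.conj δ), fun A x => (diag_conj_iff (hδ ▸ isDiag_diagonal _)).trans (suField_mem σ), fun x => ?_⟩
  refine mul_inv_eq_iff_eq_mul.2 (SU_ext' fun i j => ?_)
  rw [SU_mul_val, SU_mul_val, hδ, diagonal_mul, mul_diagonal]
  change _ * σ ((p01 x).1.1 i j) = _
  rw [p01_val, p01_val]
  fin_cases i <;> fin_cases j <;> simp [k0, k1, (su2_form (α x)).1, (su2_form (α x)).2, (su2_form x).1, (su2_form x).2, mul_pow, mul_comm]
  linear_combination (-σ (x.1.1 0 1) ^ q) * m1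

theorem weak_step {a b : SU 3 F q →* G} (ha : a.ker ≤ Subgroup.center _) (hb : b.ker ≤ Subgroup.center _)
    (h : (a.comp p12).range = (b.comp p01).range) (hc : ∀ x y, Commute (a (p01 x)) (b (p12 y))) :
    ∃ Φ : SU 3 F q ≃* SU 3 F q, (∀ A g, Φ g ∈ ubl q F A ↔ g ∈ ubl q F A) ∧ ∀ x, a (p12 x) = b (Φ (p01 x)) := by
  have ia : Function.Injective (a.comp p12) := inj_pad (by omega) ha _ (k := 0) (by simp [range_shift])
  have ib : Function.Injective (b.comp p01) := inj_pad (by omega) hb _ (k := 2) (by simp [range_shift])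
  obtain ⟨α, hα⟩ : ∃ α : SU 2 F q ≃* SU 2 F q, ∀ x, b (p01 (α x)) = a (p12 x) :=
    ⟨((MonoidHom.ofInjective ia).trans (MulEquiv.subgroupCongr h)).trans (MonoidHom.ofInjective ib).symm, fun x =>
      MonoidHom.apply_ofInjective_symm ib _⟩
  obtain ⟨Φ, h1, h2⟩ := aut_ext α fun t ht => by
    obtain ⟨θ, t1, t2⟩ := ex_theta (F := F) (q := q)
    obtain ⟨y, hy⟩ := (sbl_iff (k := 0) (m := 2) (n := 3) (by omega)).1 (mul_mem (suPad_sbl _ (α t))
      ((diag_conj_iff (p12_diag (x := udg θ t1) (by simp [udg_val]))).2 (inv_mem (suPad_sbl _ (α t)))))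
    obtain ⟨w, hw⟩ := (sbl_iff (k := 0) (m := 2) (n := 3) (by omega)).1 ((diag_conj_iff (k := (p12 t)⁻¹) (by
      rw [← map_inv]; exact p12_diag (by simp [SpecialLinearGroup.SL2_inv_expl, ht]))).2 (suPad_sbl _ uw))
    have c1 : Commute (b (p01 (α t) * p12 (udg θ t1) * (p01 (α t))⁻¹)) (a (p01 uw)) := by
      have := ((hc w (udg θ t1)).symm.map (MulAut.conj (a (p12 t))))
      simpa [hw, hα, mul_assoc] using this
    have : α.symm y = 1 := p12_comm ha (by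
      rw [← hα, α.apply_symm_apply, hy, ← mul_assoc, ← mul_assoc, map_mul, map_inv]; exact c1.mul_left (hc _ _).symm.inv_left)
    rw [α.symm.map_eq_one_iff.1 this, map_one, eq_comm, ← mul_assoc, ← mul_assoc, mul_inv_eq_one, mul_inv_eq_iff_eq_mul] at hy
    have e := congrFun (congrFun (congrArg (·.1.1) hy) 0) 1
    simp [p01_val, p12_val, udg_val, Matrix.mul_apply, Fin.sum_univ_three] at e
    exact mul_right_cancel₀ (b := θ - 1) (sub_ne_zero.2 (by rintro rfl; simp at t2)) (by linear_combination e)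
  exact ⟨Φ, h1, fun x => by rw [h2, hα]⟩

theorem ex_seq {α : Type*} (P : ℕ → α → Prop) (R : ℕ → α → α → Prop) {a} (h0 : P 0 a) (h : ∀ i a, P i a → ∃ b, P (i + 1) b ∧ R i a b) :
    ∃ f : ℕ → α, (∀ i, P i (f i)) ∧ ∀ i, R i (f i) (f (i + 1)) := by
  choose g g1 g2 using h
  let f : ∀ i, {a // P i a} := fun i => Nat.rec ⟨a, h0⟩ (fun i a => ⟨g i a.1 a.2, g1 i a.1 a.2⟩) i
  exact ⟨fun i => (f i).1, fun i => (f i).2, fun i => g2 i _ (f i).2⟩

theorem homOn_inv {Γ H : Type*} [Group Γ] [Group H] {e : H →* Γ} (he : Function.Injective e) (φ : H →* G) :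
    HomOn e.range fun g => φ (Function.invFun e g) := by
  rintro _ ⟨a, rfl⟩ _ ⟨b, rfl⟩
  simp only [← map_mul, Function.leftInverse_invFun he _]

theorem phan3' (hq : 4 ≤ q) (hn : 3 ≤ n) (φ : ℕ → SU 3 F q →* G) (u : ℕ → SU 2 F q →* G) (h1 : ∀ i, i + 3 ≤ n → ∀ x, φ i (p01 x) = u i x)
    (h2 : ∀ i, i + 3 ≤ n → ∀ x, φ i (p12 x) = u (i + 1) x) (hc : ∀ i j, i + 2 ≤ j → j + 2 ≤ n → ∀ x y, Commute (u i x) (u j y)) :
    ∃ f : SU n F q →* G, ∀ i (h : i + 3 ≤ n) x, f (suPad (shift i h) x) = φ i x := by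
  obtain ⟨f, hf⟩ := phan3 hq hn (fun i g => if h : i + 2 ≤ n then u i (Function.invFun (suPad (shift i h)) g) else 1)
    (fun i g => if h : i + 3 ≤ n then φ i (Function.invFun (suPad (shift i h)) g) else 1)
    (fun i h => by simp only [dif_pos h]; rw [sbl, ← range_shift h, ← suPad_range]; exact homOn_inv (suPad_inj _) _)
    (fun i h g hg => by
      obtain ⟨x, rfl⟩ := (sbl_iff (by omega)).1 hg
      rw [dif_pos h, dif_pos (by omega), Function.leftInverse_invFun (suPad_inj _), ← h1 i h, ← Function.leftInverse_invFun (suPad_inj (shift i h)) (p01 x),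
        suPad_shift]; rfl)
    (fun i h g hg => by
      obtain ⟨x, rfl⟩ := (sbl_iff (k := i + 1) (m := 2) h).1 hg
      rw [dif_pos h, dif_pos h, Function.leftInverse_invFun (suPad_inj _), ← h2 i h, ← Function.leftInverse_invFun (suPad_inj (shift i h)) (p12 x),
        suPad_shift])
    fun i j e e' x _ y _ => by rw [dif_pos e', dif_pos (by omega)]; exact hc i j e e' _ _
  exact ⟨f, fun i h x => by rw [hf i h _ (suPad_sbl h x), dif_pos h, Function.leftInverse_invFun (suPad_inj _)]⟩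

theorem range_aut {a : SU n F q →* G} {Φ : SU n F q ≃* SU n F q} (h : ∀ A g, Φ g ∈ ubl q F A ↔ g ∈ ubl q F A) (e : Fin m ↪ Fin n) :
    ((a.comp Φ.toMonoidHom).comp (suPad e)).range = (a.comp (suPad e)).range := by
  rw [MonoidHom.range_comp, MonoidHom.range_comp, suPad_range, ← Subgroup.map_map]; congr 1
  ext g; rw [Subgroup.mem_map_equiv, ← h, Φ.apply_symm_apply]

theorem weak_seq (ψ : ℕ → SU 3 F q →* G) (U : ℕ → Subgroup G) (hk : ∀ i, i + 3 ≤ n → (ψ i).ker ≤ Subgroup.center _)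
    (h1 : ∀ i, i + 3 ≤ n → ((ψ i).comp p01).range = U i) (h2 : ∀ i, i + 3 ≤ n → ((ψ i).comp p12).range = U (i + 1))
    (hc : ∀ i j, i + 2 ≤ j → j + 2 ≤ n → ∀ x ∈ U i, ∀ y ∈ U j, Commute x y) :
    ∃ φ : ℕ → SU 3 F q →* G, (∀ i, ∃ Φ : SU 3 F q ≃* SU 3 F q, (∀ A g, Φ g ∈ ubl q F A ↔ g ∈ ubl q F A) ∧ φ i = (ψ i).comp Φ.toMonoidHom) ∧
      ∀ i, i + 4 ≤ n → ∀ x, φ i (p12 x) = φ (i + 1) (p01 x) :=
  ex_seq (fun i a => ∃ Φ : SU 3 F q ≃* SU 3 F q, (∀ A g, Φ g ∈ ubl q F A ↔ g ∈ ubl q F A) ∧ a = (ψ i).comp Φ.toMonoidHom) (fun i a b => i + 4 ≤ n → ∀ x, a (p12 x) = b (p01 x)) (a := ψ 0) ⟨MulEquiv.refl _, by simp, rfl⟩ fun i a ⟨Φ, p1, p2⟩ => by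
    by_cases e : i + 4 ≤ n; swap
    · exact ⟨_, ⟨MulEquiv.refl _, by simp, rfl⟩, fun h => (e h).elim⟩
    obtain ⟨Ψ, q1, q2⟩ := weak_step (a := a) (b := ψ (i + 1)) (fun x hx => by
        have := hk i (by omega) (show Φ x ∈ _ from (p2 ▸ hx :))
        exact Subgroup.mem_center_iff.2 fun g => Φ.injective (by rw [map_mul, map_mul, Subgroup.mem_center_iff.1 this])) (hk _ e) (by rw [p2, range_aut p1, h2 i (by omega), h1 _ e])
      fun x y => hc i (i + 2) le_rfl e _ (by rw [← h1 i (by omega), ← range_aut p1, ← p2]; exact ⟨x, rfl⟩) _ (h2 _ e ▸ ⟨y, rfl⟩)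
    exact ⟨_, ⟨Ψ, q1, rfl⟩, fun _ => q2⟩

theorem phan_weak (hq : 4 ≤ q) (hn : 3 ≤ n) (ψ : ℕ → SU 3 F q →* G) (U : ℕ → Subgroup G) (hk : ∀ i, i + 3 ≤ n → (ψ i).ker ≤ Subgroup.center _)
    (h1 : ∀ i, i + 3 ≤ n → ((ψ i).comp p01).range = U i) (h2 : ∀ i, i + 3 ≤ n → ((ψ i).comp p12).range = U (i + 1))
    (hc : ∀ i j, i + 2 ≤ j → j + 2 ≤ n → ∀ x ∈ U i, ∀ y ∈ U j, Commute x y) :
    ∃ f : SU n F q →* G, ∀ i, i + 3 ≤ n → (ψ i).range ≤ f.range := by
  obtain ⟨φ, p, h⟩ := weak_seq ψ U hk h1 h2 hc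
  choose Φ p1 p2 using p
  have k : ∀ i, i + 2 ≤ n → (if i = 0 then (φ 0).comp p01 else (φ (i - 1)).comp p12).range = U i := fun i e => by
    split_ifs with h
    · rw [p2, range_aut (p1 _), h1 _ hn, h]
    · rw [p2, range_aut (p1 _), h2 _ (by omega), Nat.sub_add_cancel (by omega)]
  obtain ⟨f, hf⟩ := phan3' hq hn φ (fun i => if i = 0 then (φ 0).comp p01 else (φ (i - 1)).comp p12) (fun i e x => by
      rcases i with _ | i
      · rfl
      · exact (h i e x).symm) (fun i e x => rfl)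
    fun i j e e' x y => hc i j e e' _ (k i (by omega) ▸ ⟨x, rfl⟩) _ (k j e' ▸ ⟨y, rfl⟩)
  exact ⟨f, fun i e _ ⟨x, hx⟩ => ⟨_, by rw [hf i e ((Φ i).symm x), p2, ← hx]; simp⟩⟩

theorem std_pair {V A A' : Subgroup G} (h : IsStandardUnitaryPair V A A' F q) :
    ∃ ψ : SU 3 F q →* G, ψ.ker ≤ Subgroup.center _ ∧ ψ.range = V ∧ (ψ.comp p01).range = A ∧ (ψ.comp p12).range = A' := by
  have e1 : suBlock 3 F q {0, 1} = p01.range := by rw [suBlock_eq, suPad_range, range_shift]; congr; ext i; fin_cases i <;> simp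
  have e2 : suBlock 3 F q {1, 2} = p12.range := by rw [suBlock_eq, suPad_range, range_shift]; congr; ext i; fin_cases i <;> simp
  rw [IsStandardUnitaryPair, e1, e2] at h
  obtain ⟨ψ, h1, h2⟩ | ⟨ψ, h1, h2⟩ := h
  · exact ⟨_, fun x hx => by rw [show x = 1 by simpa using hx]; exact one_mem _, by
      rw [MonoidHom.range_comp, MonoidHom.range_eq_top.2 ψ.surjective, ← MonoidHom.range_eq_map, V.range_subtype],
      (MonoidHom.range_comp _ _).trans h1, (MonoidHom.range_comp _ _).trans h2⟩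
  · exact ⟨_, fun x hx => by simpa using hx, by
      rw [MonoidHom.range_comp, MonoidHom.range_eq_top.2 (ψ.surjective.comp (QuotientGroup.mk'_surjective _)), ← MonoidHom.range_eq_map, V.range_subtype],
      (MonoidHom.range_comp _ _).trans h1, (MonoidHom.range_comp _ _).trans h2⟩

theorem std_seq (U : Fin n → Subgroup G) (V : Fin n → Fin n → Subgroup G)
    (h2 : ∀ i j : Fin n, (i : ℕ) + 1 = j → IsStandardUnitaryPair (V i j) (U i) (U j) F q) :
    ∃ (ψ : ℕ → SU 3 F q →* G) (U' : ℕ → Subgroup G), (∀ i : Fin n, U' i = U i) ∧ ∀ i (h : i + 3 ≤ n + 1), (ψ i).ker ≤ Subgroup.center _ ∧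
      (ψ i).range = V ⟨i, by omega⟩ ⟨i + 1, by omega⟩ ∧ ((ψ i).comp p01).range = U' i ∧ ((ψ i).comp p12).range = U' (i + 1) := by
  have : ∀ i, ∃ ψ : SU 3 F q →* G, ∀ h : i + 3 ≤ n + 1, ψ.ker ≤ Subgroup.center _ ∧ ψ.range = V ⟨i, by omega⟩ ⟨i + 1, by omega⟩ ∧
      (ψ.comp p01).range = U ⟨i, by omega⟩ ∧ (ψ.comp p12).range = U ⟨i + 1, by omega⟩ := fun i => by
    by_cases h : i + 3 ≤ n + 1
    · exact (std_pair (h2 ⟨i, by omega⟩ ⟨i + 1, by omega⟩ rfl)).imp fun _ e _ => e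
    · exact ⟨1, fun e => (h e).elim⟩
  choose ψ h using this
  exact ⟨ψ, fun i => if h : i < n then U ⟨i, h⟩ else ⊥, fun i => dif_pos i.2, fun i e => by
    beta_reduce; rw [dif_pos (by omega), dif_pos (by omega)]; exact h i e⟩

theorem phan_std (hq : 4 ≤ q) (hn : 2 ≤ n) (U : Fin n → Subgroup G) (V : Fin n → Fin n → Subgroup G)
    (h1 : ∀ i j : Fin n, (i : ℕ) + 2 ≤ j → ∀ x ∈ U i, ∀ y ∈ U j, x * y = y * x)
    (h2 : ∀ i j : Fin n, (i : ℕ) + 1 = j → IsStandardUnitaryPair (V i j) (U i) (U j) F q)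
    (hgen : (⨆ i, U i) ⊔ (⨆ (i : Fin n) (j : Fin n) (_ : (i : ℕ) + 1 = j), V i j) = ⊤) :
    ∃ f : SU (n + 1) F q →* G, Function.Surjective f := by
  obtain ⟨ψ, U', e, h⟩ := std_seq U V h2
  obtain ⟨f, hf⟩ := phan_weak hq (n := n + 1) (by omega) ψ U' (fun i e => (h i e).1) (fun i e => (h i e).2.2.1) (fun i e => (h i e).2.2.2)
    fun i j a b x hx y hy => h1 ⟨i, by omega⟩ ⟨j, by omega⟩ a x ((e ⟨i, _⟩).le hx) y ((e ⟨j, _⟩).le hy)
  refine ⟨f, MonoidHom.range_eq_top.1 (top_le_iff.1 (hgen ▸ sup_le (iSup_le fun i => ?_) (iSup₂_le fun i j => iSup_le fun a => ?_)))⟩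
  · rw [← e]
    rcases i with ⟨_ | i, hi⟩
    · exact (h 0 (by omega)).2.2.1.ge.trans fun _ ⟨x, hx⟩ => hf 0 (by omega) ⟨_, hx⟩
    · exact (h i (by omega)).2.2.2.ge.trans fun _ ⟨x, hx⟩ => hf i (by omega) ⟨_, hx⟩
  · obtain ⟨j, hj⟩ := j
    obtain rfl : i + 1 = j := a
    exact (h i (by omega)).2.1.ge.trans (hf i (by omega))
end H09
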