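import Mathlib
import Cfsg.Agent.H09.Phan7
/-! Phan amalgams VIII: subgroups `SU₂(q)` of `SU₃(q)` and Phan's theorem. -/
namespace H09
open Matrix Cfsg H10
open scoped MatrixGroups commutatorElement
variable {F : Type*} [Field F] {q n m : ℕ} {G : Type*} [Group G] [Finite F] [hF : Fact (Nat.card F = q ^ 2)]
local notation "B" => hermForm _ F q
local notation "tv" => Matrix.SpecialLinearGroup.transvection

theorem on_univ (v : Fin n → F) : On Set.univ v := fun _ e => (e trivial).elim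
theorem ex_to {i j : Fin n} (e : i ≠ j) {x : Fin n → F} (h : B x x = 1) : ∃ s : SU n F q, uac s x = ev i :=
  (ubl_trans (A := Set.univ) trivial trivial e (on_univ _) (on_univ _) (by simp [h]) (by simp [h])).imp fun _ h => h.2
theorem fix_p01 {g : SU 3 F q} (h : uac g (ev 2) = ev 2) : ∃ x, p01 x = g := (sbl_iff _).1 fun i e => by
  fin_cases i <;> simp at e; exact h
theorem fix_p12 {g : SU 3 F q} (h : uac g (ev 0) = ev 0) : ∃ x, p12 x = g := (sbl_iff _).1 fun i e => by
  fin_cases i <;> simp at e; exact h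
theorem hB_nondeg {v : Fin n → F} (h : ∀ u, B u v = 0) : v = 0 := funext fun i => by simpa [q_ne F] using h (ev i)
theorem hB_polar {a b : Fin n → F} (ha : B a a = 0) (hb : B b b = 0) (h : ∀ t : F, B (a + t • b) (a + t • b) = 0) : B b a = 0 := by
  by_contra e
  obtain ⟨t, ht⟩ := ex_tr (q := q) e
  have := h t
  simp only [hB_add, hB_add', hB_smul, hB_smul', ha, hb] at this
  exact ht (by rw [mul_pow, hB_cq]; linear_combination this)
omit [Finite F] hF in
theorem hB_invol {z : SU n F q} (h : z * z = 1) (u v) : B (uac z u) v = B u (uac z v) := by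
  rw [← hB_uac z, ← uac_mul, h, uac_one]

theorem inv_odd (h2 : (2 : F) ≠ 0) {z : SU 3 F q} (h : z * z = 1) (h1 : z ≠ 1) :
    ∃ x, B x x = 1 ∧ ∀ g, Commute g z → ∃ c : F, uac g x = c • x := by
  have fx : ∀ v, uac z (v + uac z v) = v + uac z v := fun v => by rw [uac_add, ← uac_mul, h, uac_one, add_comm]
  obtain ⟨v, hv⟩ : ∃ v, B (v + uac z v) (v + uac z v) ≠ 0 := by
    by_contra! H
    have : z.1.1 = -1 := Matrix.ext fun i j => by
      have : ev j + uac z (ev j) = 0 := hB_nondeg (q := q) fun u => mul_left_cancel₀ h2 (by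
        have := hB_polar (H (ev j)) (H u) fun t => by
          have := H (ev j + t • u); rwa [uac_add, uac_smul, add_add_add_comm, ← smul_add] at this
        rw [hB_add, hB_invol h, fx] at this; linear_combination this)
      simpa [← uac_ev, one_apply, Pi.single_apply, eq_neg_iff_add_eq_zero, add_comm] using congrFun this i
    have d := z.1.2
    rw [this, det_neg] at d
    exact h2 (by simp at d; linear_combination -d)
  obtain ⟨c, -, hc⟩ := ex_unit hv
  obtain ⟨s, hs⟩ := ex_to (i := 2) (j := 0) (by simp) hc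
  obtain ⟨y, hy⟩ := fix_p01 (g := s * z * s⁻¹) (by rw [uac_mul, uac_mul, uac_inv_eq hs, uac_smul, fx, hs])
  have y1 : y.1 = -1 := SL2.eq_neg_one_of_mul_self h2 (fun e => h1 (by simpa [show y = 1 from Subtype.ext e] using hy.symm))
    (congrArg Subtype.val (suPad_inj _ (show p01 (y * y) = p01 1 by simp [hy, mul_assoc, ← mul_assoc z, h])))
  refine ⟨_, hc, fun g hg => ⟨uac (s * g * s⁻¹) (ev 2) 2, uac_inj s ?_⟩⟩
  have e : uac (p01 y) (uac (s * g * s⁻¹) (ev 2)) = uac (s * g * s⁻¹) (ev 2) := by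
    rw [← uac_mul, hy, show s * z * s⁻¹ * (s * g * s⁻¹) = s * g * s⁻¹ * (s * z * s⁻¹) by simp [mul_assoc, ← mul_assoc z, ← hg.eq], uac_mul, ← hy,
      suPad_sbl _ y 2 (by simp)]
  rw [uac_smul s _ (c • _), hs, ← uac_inv_eq hs, ← uac_mul, ← uac_mul]
  generalize uac (s * g * s⁻¹) (ev 2) = w at e
  have e0 := congrFun e 0
  have e1 := congrFun e 1
  simp [uac, p01_val, y1, mulVec, dotProduct, Fin.sum_univ_three] at e0 e1
  ext i; fin_cases i <;> simp
  exacts [mul_left_cancel₀ h2 (by linear_combination -e0), mul_left_cancel₀ h2 (by linear_combination -e1)]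

theorem sing_prop {r r' : Fin 3 → F} (h0 : r ≠ 0) (h : B r r = 0) (h' : B r' r' = 0) (o : B r' r = 0) : ∃ c : F, r' = c • r := by
  obtain ⟨c, hc⟩ := ex_norm (q := q) (c := (-1 : F)) (by rw [cq_neg, one_pow])
  obtain ⟨s, -, hs⟩ := ubl_trans0 (q := q) (A := Set.univ) (i := 0) (j := 1) (k := 2) trivial trivial trivial (by simp) (by simp) (by simp) (on_univ r)
    (on_univ (ev 0 + c • ev 1)) h0 (fun h => by simpa using congrFun h 0) (by simp [h, hB_add, hB_add', hB_smul, hB_smul', cq_zero]; linear_combination -hc)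
  refine ⟨uac s r' 0, uac_inj s ?_⟩
  rw [← hB_uac s] at h' o
  rw [hs] at o
  rw [uac_smul, hs]
  generalize uac s r' = w at *
  simp [hermForm, Fin.sum_univ_three, cq_zero] at h' o
  have e1 : w 1 = w 0 * c := by linear_combination (-c) * o + w 1 * hc
  rw [e1, mul_pow] at h'
  have e2 : w 2 * w 2 ^ q = 0 := by linear_combination h' - w 0 * w 0 ^ q * hc
  ext i; fin_cases i <;> simp [e1]
  simpa [q_ne F] using e2

theorem inv_even (h2 : (2 : F) = 0) {z : SU 3 F q} (h : z * z = 1) (h1 : z ≠ 1) :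
    ∃ r, r ≠ 0 ∧ B r r = 0 ∧ ∀ g, g * g = 1 → Commute g z → (∀ u, ∃ c : F, uac g u = u + c • r) ∧ ∀ v, B v r = 0 → uac g v = v := by
  have iso : ∀ {g : SU 3 F q}, g * g = 1 → ∀ u v, B (uac g u - u) (uac g v - v) = 0 := fun h u v => by
    simp only [hB_sub, hB_sub', hB_uac]; rw [hB_invol h]; linear_combination (B u v - B u (uac _ v)) * h2
  obtain ⟨u, hu⟩ : ∃ u, uac z u - u ≠ 0 := by
    by_contra! H; exact h1 (SU_ext fun i => by rw [uac_one]; exact sub_eq_zero.1 (H _))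
  refine ⟨_, hu, iso h _ _, fun g hg c => ?_⟩
  have k : ∀ v, ∃ c : F, uac g v = v + c • (uac z u - u) := fun v => by
    refine (sing_prop hu (iso h _ _) (iso hg v v) ?_).imp fun _ e => sub_eq_iff_eq_add'.1 e
    by_contra e
    obtain ⟨d, hd⟩ := sing_prop hu (iso h _ _) (iso h (uac g v - v) _) (iso h _ _)
    have h3 : B (uac g v - v) (uac z (uac g v - v) - (uac g v - v)) = 0 := by
      rw [show uac z (uac g v - v) - (uac g v - v) = uac g (uac z v - v) - (uac z v - v) by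
        rw [uac_sub, uac_sub, ← uac_mul, ← uac_mul, c.eq]; abel, iso hg]
    rw [hd, hB_smul'] at h3
    have d0 : d = 0 := by simpa [e, q_ne F] using h3
    rw [d0, zero_smul, sub_eq_zero] at hd
    exact e (by rw [hB_sub', ← hB_invol h, hd, sub_self])
  refine ⟨k, fun v hv => sub_eq_zero.1 (hB_nondeg (q := q) fun w => ?_)⟩
  obtain ⟨d, hd⟩ := k w
  rw [hB_sub', ← hB_invol hg, hd, hB_add, hB_smul, hB_symm hv]; ring

theorem ex_ufix (hq : 4 ≤ q) : ∃ a : ufix F q, a ≠ 0 ∧ a ^ 2 ≠ 1 := by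
  obtain ⟨t, t1, t2, t3, h⟩ := pigeon hq (-1 : F) (-1) (-1)
  exact ⟨⟨t, t1⟩, fun e => t2 (congrArg Subtype.val e), fun e => by
    rcases sq_eq_one_iff.1 e with e | e
    exacts [t3 (congrArg Subtype.val e), by have : t = -1 := congrArg Subtype.val e; tauto]⟩

theorem fix_of_hom (hq : 4 ≤ q) {a : SU 2 F q →* SU 3 F q} (ha : Function.Injective a) : ∃ x, B x x = 1 ∧ ∀ g, uac (a g) x = x := by
  obtain ⟨-, j, -⟩ := su2_sl2 (F := F) (q := q)
  let b := a.comp j.toMonoidHom
  have hb : Function.Injective b := ha.comp j.injective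
  let S : (Fin 3 → F) → Subgroup SL(2, ufix F q) := fun x =>
    { carrier := {g | uac (b g) x = x}, one_mem' := by simp, inv_mem' := fun h => by rw [Set.mem_setOf, map_inv]; exact uac_inv_eq h
      mul_mem' := fun h h' => by rw [Set.mem_setOf, map_mul, uac_mul, h', h] }
  suffices ∃ x, B x x = 1 ∧ ∀ g, g ∈ S x from this.imp fun x h => ⟨h.1, fun g => by simpa [b] using show uac (b _) x = x from h.2 (j.symm g)⟩
  by_cases h2 : (2 : F) = 0; swap
  · have h2' : (2 : ufix F q) ≠ 0 := fun e => h2 (congrArg Subtype.val e)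
    obtain ⟨x, x1, hx⟩ := inv_odd h2 (z := b (-1)) (by rw [← map_mul]; simp) fun e => SL2.neg_one_ne_one h2' (hb (by rw [e, map_one]))
    obtain ⟨t, t1, t2⟩ := ex_ufix (F := F) hq
    refine ⟨x, x1, fun g => (Subgroup.commutator_le.2 fun g _ h _ => ?_ : commutator _ ≤ S x) ((SL2.commutator_eq_top t1 t2).ge trivial)⟩
    obtain ⟨c, hc⟩ := hx (b g⁻¹) (Commute.map (by simp [Commute, SemiconjBy]) b)
    obtain ⟨d, hd⟩ := hx (b h⁻¹) (Commute.map (by simp [Commute, SemiconjBy]) b)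
    change uac (b _) x = x
    rw [show ⁅g, h⁆ = (h⁻¹ * g⁻¹)⁻¹ * (g⁻¹ * h⁻¹) by group, map_mul, map_inv, uac_mul]
    apply uac_inv_eq
    rw [map_mul, map_mul, uac_mul, uac_mul, hc, hd, uac_smul, uac_smul, hc, hd, smul_comm]
  have h2' : (2 : ufix F q) = 0 := Subtype.ext h2
  have sq : ∀ {i j : Fin 2} (e : i ≠ j) c, b (tv e c) * b (tv e c) = 1 := fun e c => by
    rw [← map_mul, ← transvection_add, ← two_mul, h2', zero_mul]; simp
  have ne : ∀ {i j : Fin 2} (e : i ≠ j), b (tv e 1) ≠ 1 := fun {i j} e h => by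
    simpa [e, SpecialLinearGroup.transvection, transvection] using congrFun (congrFun (congrArg Subtype.val (hb (h.trans b.map_one.symm))) i) j
  have cm : ∀ {i j : Fin 2} (e : i ≠ j) c, Commute (b (tv e c)) (b (tv e 1)) := fun e c =>
    Commute.map (by rw [Commute, SemiconjBy, ← transvection_add, ← transvection_add, add_comm]) b
  obtain ⟨r, r0, r1, hr⟩ := inv_even h2 (sq zero_ne_one 1) (ne _)
  obtain ⟨r', r0', r1', hr'⟩ := inv_even h2 (sq one_ne_zero 1) (ne _)
  have o : B r' r ≠ 0 := fun o => by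
    have : b (tv zero_ne_one 1 * tv one_ne_zero 1) = b (tv one_ne_zero 1 * tv zero_ne_one 1) := SU_ext fun i => by
      obtain ⟨c, hc⟩ := (hr _ (sq _ 1) (cm _ 1)).1 (ev i)
      obtain ⟨d, hd⟩ := (hr' _ (sq _ 1) (cm _ 1)).1 (ev i)
      rw [map_mul, map_mul, uac_mul, uac_mul, hc, hd, uac_add, uac_add, uac_smul, uac_smul, hc, hd, (hr _ (sq _ 1) (cm _ 1)).2 _ o,
        (hr' _ (sq _ 1) (cm _ 1)).2 _ (hB_symm o)]; abel
    have := (SL2.mul_apply _ _ 0 0).symm.trans ((congrFun (congrFun (congrArg Subtype.val (hb this)) 0) 0).trans (SL2.mul_apply _ _ 0 0))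
    simp [SpecialLinearGroup.transvection, transvection] at this
  obtain ⟨x, x1, x2⟩ := (stdU_isUnitary hF.1 3).exists_unit_perp ((stdU hF.1 3).nondegOn_pair (e := r) (f := r') (by
    simp [stdU_B, r1, o, ← hB_cq r' r])) (by
      classical exact (finrank_span_le_card _).trans_lt (by simpa using Nat.lt_succ_of_le Finset.card_le_two)) (map_one _)
  rw [Form.mem_perp_pair] at x1
  exact ⟨x, x2, SL2_ind (fun c => (hr _ (sq _ c) (cm _ c)).2 _ x1.1) fun c => (hr' _ (sq _ c) (cm _ c)).2 _ x1.2⟩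

theorem fix_line {d : SU 3 F q} {x v : Fin 3 → F} (x1 : B x x = 1) (h : uac d x = x) (ho : orderOf d = q + 1) (hv : uac d v = v) :
    ∃ c : F, v = c • x := by
  obtain ⟨s, hs⟩ := ex_to (i := 2) (j := 0) (by simp) x1
  obtain ⟨y, hy⟩ := fix_p01 (g := s * d * s⁻¹) (by rw [uac_mul, uac_mul, uac_inv_eq hs, h, hs])
  refine ⟨uac s v 2, uac_inj s ?_⟩
  have e : uac (p01 y) (uac s v) = uac s v := by rw [hy, uac_mul, uac_mul, uac_inv_uac, hv]
  rw [uac_smul, hs]
  generalize uac s v = w at e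
  by_contra ne
  have e0 := congrFun e 0
  have e1 := congrFun e 1
  simp [uac, p01_val, mulVec, dotProduct, Fin.sum_univ_three] at e0 e1
  have dt := SL2.det_eq y.1
  have tr : y.1.1 0 0 + y.1.1 1 1 = 2 := by
    by_contra t
    refine ne (funext fun i => ?_)
    fin_cases i <;> simp
    · exact mul_left_cancel₀ (sub_ne_zero.2 t) (by linear_combination (1 - y.1.1 1 1) * e0 + y.1.1 0 1 * e1 + w 0 * dt)
    · exact mul_left_cancel₀ (sub_ne_zero.2 t) (by linear_combination (1 - y.1.1 0 0) * e1 + y.1.1 1 0 * e0 + w 1 * dt)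
  obtain ⟨p, k, hp, _, hq⟩ := exists_q_eq_pow hF.1
  have pw : ∀ k : ℕ, y.1.1 ^ k = 1 + (k : F) • (y.1.1 - 1) := fun k => by
    induction k with
    | zero => simp
    | succ k ih =>
      rw [pow_succ, ih, add_mul, smul_mul_assoc, sub_mul, SL2.cayley_hamilton, show y.1 0 0 + y.1 1 1 = 2 from tr]
      rw [Matrix.one_mul]; push_cast; module
  have : d ^ p = 1 := by
    have : y ^ p = 1 := Subtype.ext (Subtype.ext (by simpa using pw p))
    simpa [hy] using congrArg p01 this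
  have h1 := Nat.le_of_dvd hp.pos (ho ▸ orderOf_dvd_of_pow_eq_one this)
  have h2 := two_le_q hF.1
  have : p ≤ q := hq ▸ Nat.le_self_pow (by rintro rfl; simp at hq; omega) p
  omega

theorem su3_pair (hq : 4 ≤ q) {a b : SU 2 F q →* SU 3 F q} (ha : Function.Injective a) (hb : Function.Injective b)
    (h : a.range ⊔ b.range = ⊤) {x y} (hx : orderOf (a x) = q + 1) (hy : orderOf (b y) = q + 1) (c : Commute (a x) (b y)) :
    ∃ s : SU 3 F q, p01.range.map (MulAut.conj s).toMonoidHom = a.range ∧ p12.range.map (MulAut.conj s).toMonoidHom = b.range := by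
  obtain ⟨u, u1, hu⟩ := fix_of_hom hq ha
  obtain ⟨v, v1, hv⟩ := fix_of_hom hq hb
  obtain ⟨s, hs⟩ := ex_to (i := 2) (j := 0) (by simp) u1
  have o : B u v = 0 := by
    obtain ⟨μ, hμ⟩ := fix_line u1 (hu x) hx (v := uac (b y) u) (by rw [← uac_mul, c.eq, uac_mul, hu])
    by_contra e
    have m1 : μ = 1 := mul_right_cancel₀ e (by rw [← hB_smul, ← hμ, ← hv y, hB_uac, hv, one_mul])
    obtain ⟨ν, hν⟩ := fix_line v1 (hv y) hy (v := u) (by rw [hμ, m1, one_smul])
    have : a.range ⊔ b.range ≤ (ubl q F {2}ᶜ).comap (MulAut.conj s).toMonoidHom := sup_le ?_ ?_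
    · have := this (h.ge (Subgroup.mem_top (s⁻¹ * p12 uw * s))) 2 (by simp)
      simpa [mul_assoc, uac_ev, p12_val, uw_val] using congrFun this 2
    all_goals rintro _ ⟨g, rfl⟩ i e; obtain rfl : i = 2 := by simpa using e
    · simp [uac_mul, uac_inv_eq hs, hu, hs]
    · simp only [MulEquiv.toMonoidHom_eq_coe, MonoidHom.coe_coe, MulAut.conj_apply, uac_mul, uac_inv_eq hs]
      rw [hν, uac_smul, hv, ← hν, hs]
  obtain ⟨k, k1, k2⟩ := ex_rep (q := q) (A := {2}ᶜ) (i₀ := (0 : Fin 3)) (i₁ := 1) (by simp) (by simp) (by simp) (v := uac s v)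
    (fun i e => by obtain rfl : i = 2 := by simpa using e
                   rw [← hB_ev (q := q) (uac s v), ← hs, hB_uac, hB_symm o]) (by simp [v1])
  have key : ∀ {p a : SU 2 F q →* SU 3 F q}, Function.Injective p → Function.Injective a → (∀ g, ∃ x, p x = (s⁻¹ * k)⁻¹ * a g * (s⁻¹ * k)) →
      p.range.map (MulAut.conj (s⁻¹ * k)).toMonoidHom = a.range := fun {p a} hp ha h => by
    refine (Subgroup.eq_of_le_of_card_ge ?_ ?_).symm
    · rintro _ ⟨g, rfl⟩
      obtain ⟨x, hx⟩ := h g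
      exact ⟨_, ⟨x, rfl⟩, by simp [hx, mul_assoc]⟩
    · rw [Subgroup.card_map_of_injective (MulAut.conj _).injective, ← Nat.card_congr (MonoidHom.ofInjective hp).toEquiv,
        Nat.card_congr (MonoidHom.ofInjective ha).toEquiv]
  refine ⟨s⁻¹ * k, key (suPad_inj _) ha fun g => fix_p01 ?_, key (suPad_inj _) hb fun g => fix_p12 ?_⟩
  · rw [uac_mul, uac_mul, uac_mul, k1 2 (by simp), uac_inv_eq hs, hu]; apply uac_inv_eq; rw [uac_mul, k1 2 (by simp), uac_inv_eq hs]
  · rw [uac_mul, uac_mul, uac_mul, k2, uac_inv_uac, hv]; apply uac_inv_eq; rw [uac_mul, k2, uac_inv_uac]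

theorem std_of_pair (hq : 4 ≤ q) {A A' D D' : Subgroup G} (e : SU 2 F q ≃* A) (e' : SU 2 F q ≃* A') (ψ : ↥(A ⊔ A') ≃* SU 3 F q)
    (h : D ≤ A ∧ IsCyclic D ∧ Nat.card D = q + 1) (h' : D' ≤ A' ∧ IsCyclic D' ∧ Nat.card D' = q + 1) (c : ∀ x ∈ D, ∀ y ∈ D', x * y = y * x) :
    IsStandardUnitaryPair (A ⊔ A') A A' F q := by
  have k : ∀ {A₀ D : Subgroup G} (e : SU 2 F q ≃* A₀) (l : A₀ ≤ A ⊔ A'), (D ≤ A₀ ∧ IsCyclic D ∧ Nat.card D = q + 1) →
      ∃ a : SU 2 F q →* SU 3 F q, Function.Injective a ∧ a.range.map ((A ⊔ A').subtype.comp ψ.symm.toMonoidHom) = A₀ ∧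
        ∃ x, orderOf (a x) = q + 1 ∧ (ψ.symm (a x) : G) ∈ D := fun {A₀ D} e l h => by
    have i : Function.Injective (ψ.toMonoidHom.comp ((Subgroup.inclusion l).comp e.toMonoidHom)) :=
      ψ.injective.comp ((Subgroup.inclusion_injective l).comp e.injective)
    obtain ⟨d, hd⟩ := h.2.1.exists_ofOrder_eq_natCard
    refine ⟨_, i, le_antisymm ?_ fun g hg => ⟨_, ⟨e.symm ⟨g, hg⟩, rfl⟩, by simp⟩, e.symm ⟨d, h.1 d.2⟩, ?_, by simp⟩
    · rintro _ ⟨_, ⟨g, rfl⟩, rfl⟩; simp
    · rw [orderOf_injective _ i, MulEquiv.orderOf_eq, ← Subgroup.orderOf_coe, Subgroup.orderOf_coe d, hd, h.2.2]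
  obtain ⟨a, a1, a2, x, a3, a4⟩ := k e le_sup_left h
  obtain ⟨b, b1, b2, y, b3, b4⟩ := k e' le_sup_right h'
  have inj : Function.Injective ((A ⊔ A').subtype.comp ψ.symm.toMonoidHom) := Subtype.val_injective.comp ψ.symm.injective
  obtain ⟨s, s1, s2⟩ := su3_pair hq a1 b1 (Subgroup.map_injective inj (by
    rw [Subgroup.map_sup, a2, b2, ← MonoidHom.range_eq_map, MonoidHom.range_comp, MonoidHom.range_eq_top.2 ψ.symm.surjective,
      ← MonoidHom.range_eq_map, Subgroup.range_subtype])) a3 b3 (inj (by rw [map_mul, map_mul]; exact c _ a4 _ b4))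
  have e1 : suBlock 3 F q {0, 1} = p01.range := by rw [suBlock_eq, suPad_range, range_shift]; congr; ext i; fin_cases i <;> simp
  have e2 : suBlock 3 F q {1, 2} = p12.range := by rw [suBlock_eq, suPad_range, range_shift]; congr; ext i; fin_cases i <;> simp
  exact Or.inl ⟨(MulAut.conj s).trans ψ.symm, .trans (by rw [e1, ← s1, Subgroup.map_map]; rfl) a2, .trans (by rw [e2, ← s2, Subgroup.map_map]; rfl) b2⟩
end H09
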