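import Mathlib
import Cfsg.Agent.H09.Phan8
/-! Phan amalgams IX: transvections, Siegel elements, and `p`-subgroups of `SU₄`. -/
namespace H09
open Matrix Cfsg H10
open scoped MatrixGroups commutatorElement
variable {F : Type*} [Field F] {q n m : ℕ} {G : Type*} [Group G] [Finite F] [hF : Fact (Nat.card F = q ^ 2)]
local notation "B" => hermForm _ F q
local notation "tv" => Matrix.SpecialLinearGroup.transvection

/-- `g` is a transvection with centre `r` -/
def IsTr (g : SU n F q) (r : Fin n → F) : Prop := B r r = 0 ∧ ∃ s : F, ∀ x, uac g x = x + (s * B x r) • r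
/-- `g` is a Siegel element -/
def IsSg (g : SU n F q) (r v : Fin n → F) (s : F) : Prop :=
  B r r = 0 ∧ B v r = 0 ∧ s + s ^ q = B v v ∧ ∀ x, uac g x = x + B x v • r - B x r • v - (s * B x r) • r

theorem ex_hB_one {r : Fin n → F} (h : r ≠ 0) : ∃ x, B x r = 1 := by
  obtain ⟨i, hi⟩ := Function.ne_iff.1 h
  exact ⟨(r i ^ q)⁻¹ • ev i, by rw [hB_smul, hB_ev', inv_mul_cancel₀ (pow_ne_zero _ hi)]⟩
theorem perp_perp_one {r d x₀ : Fin n → F} (h0 : B x₀ r = 1) (h : ∀ x, B x r = 0 → B x d = 0) : d = B d x₀ • r :=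
  sub_eq_zero.1 (hB_nondeg (q := q) fun x => by
    have := h (x - B x r • x₀) (by simp [hB_sub, hB_smul, h0])
    rw [hB_sub, hB_smul] at this
    rw [hB_sub', hB_smul', hB_cq]; linear_combination this)
theorem isTr_of_fix {g : SU n F q} {r} (r0 : r ≠ 0) (h0 : B r r = 0) (h : ∀ x, B x r = 0 → uac g x = x) : IsTr g r := by
  obtain ⟨y, hy⟩ := ex_hB_one (q := q) r0
  have := perp_perp_one (d := uac g y - y) hy fun x hx => by rw [hB_sub', ← h x hx, hB_uac, h x hx, sub_self]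
  refine ⟨h0, B (uac g y - y) y, fun x => ?_⟩
  have e := h (x - B x r • y) (by simp [hB_sub, hB_smul, hy])
  rw [uac_sub, uac_smul, sub_eq_iff_eq_add] at e
  rw [e, mul_comm, mul_smul, ← this]; module
omit [Finite F] hF in
theorem IsTr.fix {g : SU n F q} {r x} (h : IsTr g r) (hx : B x r = 0) : uac g x = x := by obtain ⟨-, s, h⟩ := h; simp [h, hx]
omit [Finite F] hF in
theorem IsTr.conj {g : SU n F q} {r} (h : IsTr g r) (k : SU n F q) : IsTr (k * g * k⁻¹) (uac k r) :=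
  ⟨by simp [h.1], h.2.imp fun s h x => by rw [uac_mul, uac_mul, h, uac_add, uac_smul, uac_uac_inv, ← hB_uac k, uac_uac_inv]⟩
omit [Finite F] hF in
theorem IsTr.comm {g k : SU n F q} {r} (h : IsTr g r) (e : uac k r = r) : Commute k g := by
  obtain ⟨-, s, h⟩ := h
  exact SU_ext fun i => by rw [uac_mul, uac_mul, h, h, uac_add, uac_smul, e, ← hB_uac k, e]
theorem IsTr.mem {g : SU n F q} {r} (h : IsTr g r) {A} (hr : On A r) : g ∈ ubl q F A := fun _ e => h.fix (hB_on hr e)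
omit [Finite F] hF in
theorem IsTr.orth {g : SU n F q} {r x} (h : IsTr g r) (h1 : g ≠ 1) (hx : uac g x = x) : B x r = 0 := by
  obtain ⟨-, s, h⟩ := h
  by_contra e
  rw [h, add_eq_left, smul_eq_zero, mul_eq_zero] at hx
  exact h1 (SU_ext fun i => by rcases hx with (hx | hx) | hx <;> simp_all)
theorem IsTr.orth_of_comm {g g' : SU n F q} {r r'} (h : IsTr g r) (h' : IsTr g' r') (h1 : g ≠ 1) (h1' : g' ≠ 1) (c : Commute g g') : B r r' = 0 := by
  have e := h.orth h1 (x := uac g' r) (by rw [← uac_mul, c.eq, uac_mul, h.fix h.1])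
  obtain ⟨s, hs⟩ := h'.2
  rw [hs, hB_add, h.1, zero_add, hB_smul] at e
  rcases mul_eq_zero.1 e with e | e
  · exact h'.orth h1' (by rw [hs, e, zero_smul, add_zero])
  · exact hB_symm e
omit [Finite F] hF in
theorem IsTr.pow {g : SU n F q} {r} (h : IsTr g r) (p : ℕ) [CharP F p] : g ^ p = 1 := by
  obtain ⟨h0, s, h⟩ := h
  have : ∀ k : ℕ, ∀ x, uac (g ^ k) x = x + (k * s * B x r) • r := fun k => by
    induction k with
    | zero => simp
    | succ k ih => intro x; rw [pow_succ, uac_mul, ih, h, hB_add, hB_smul, h0]; push_cast; module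
  exact SU_ext fun i => by simp [this]
theorem incl_apply (e : Fin m ↪ Fin n) (v : Fin m → F) (i) : (incl F e *ᵥ v) (e i) = v i := by simp [incl, mulVec, dotProduct]
theorem on_incl (e : Fin m ↪ Fin n) (v : Fin m → F) : On (Set.range e) (incl F e *ᵥ v) := fun k h => by
  have : ∀ i, k ≠ e i := fun i x => h ⟨i, x.symm⟩
  simp [incl, mulVec, dotProduct, this]
theorem hB_incl (e : Fin m ↪ Fin n) (x : Fin n → F) (v : Fin m → F) : B x (incl F e *ᵥ v) = B (x ∘ e) v := by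
  rw [hermForm, hermForm, ← Finset.sum_subset (Finset.subset_univ (Finset.univ.map e)) fun k _ h => by
    rw [on_incl e v k (by simpa using h), cq_zero, mul_zero], Finset.sum_map]
  simp [incl_apply]
theorem uac_suPad (e : Fin m ↪ Fin n) (g : SU m F q) (x : Fin n → F) : uac (suPad e g) x = x + incl F e *ᵥ (uac g (x ∘ e) - x ∘ e) := by
  have : (incl F e)ᵀ *ᵥ x = x ∘ e := by ext i; simp [incl, mulVec, dotProduct]
  rw [uac, suPad_val, padM_apply, add_mulVec, one_mulVec, ← mulVec_mulVec, ← mulVec_mulVec, this, sub_mulVec, one_mulVec, uac]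
theorem IsTr.pad {g : SU m F q} {r} (h : IsTr g r) (e : Fin m ↪ Fin n) : IsTr (suPad e g) (incl F e *ᵥ r) :=
  ⟨by rw [hB_incl, show (incl F e *ᵥ r) ∘ e = r from funext (incl_apply e r), h.1], h.2.imp fun s h x => by
    rw [uac_suPad, h, add_sub_cancel_left, mulVec_smul, hB_incl]⟩

theorem charP_q (hq : q.Prime) : CharP F q := by
  obtain ⟨p, k, hp, _, e⟩ := exists_q_eq_pow hF.1
  rwa [← (Nat.prime_dvd_prime_iff_eq hp hq).1 (e ▸ dvd_pow_self p (by rintro rfl; exact Nat.not_prime_one (by simpa [e] using hq)))]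
theorem su2_two (hq : q ≤ 3) : ∃ τ τ' : SU 2 F q, (∃ r, IsTr τ r) ∧ (∃ r, IsTr τ' r) ∧ ¬ Commute τ τ' ∧ Subgroup.closure {τ, τ'} = ⊤ := by
  obtain ⟨P, j, hj⟩ := su2_sl2 (F := F) (q := q)
  have k : ∀ {a b : Fin 2} (e : a ≠ b), ∃ r, IsTr (j (tv e 1)) r := fun {a b} e => by
    have h : ∀ i, uac (j (tv e 1)) (P.1 *ᵥ ev i) = P.1 *ᵥ ev i + (ev i : Fin 2 → F) b • P.1 *ᵥ ev a := fun i => by
      rw [uac, mulVec_mulVec, hj, ← mulVec_mulVec, ← mulVec_smul, ← mulVec_add]; congr 1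
      ext k; fin_cases a <;> fin_cases b <;> fin_cases i <;> fin_cases k <;> simp [SpecialLinearGroup.transvection, transvection] at e ⊢
    have h1 : uac (j (tv e 1)) (P.1 *ᵥ ev a) = P.1 *ᵥ ev a := by rw [h, ev, Pi.single_eq_of_ne e.symm, zero_smul, add_zero]
    have h2 := hB_uac (j (tv e 1)) (P.1 *ᵥ ev b) (P.1 *ᵥ ev a)
    rw [h1, h, hB_add, ev, Pi.single_eq_same, one_smul, add_eq_left] at h2
    have h0 : P.1 *ᵥ ev a ≠ 0 := fun h => by
      have := congrArg (P⁻¹).1.mulVec h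
      rw [mulVec_mulVec, Units.inv_mul] at this; simpa using congrFun this a
    refine ⟨_, isTr_of_fix h0 h2 fun x hx => ?_⟩
    generalize P.1 *ᵥ ev a = r at *
    simp only [hermForm, Fin.sum_univ_two] at h2 hx
    have r0 : r 0 ≠ 0 := fun e => h0 (by ext i; fin_cases i <;> simp_all [q_ne F])
    have r1 : r 1 ≠ 0 := fun e => h0 (by ext i; fin_cases i <;> simp_all [q_ne F])
    rw [show x = (x 0 / r 0) • r by
      ext i; fin_cases i <;> simp [r0]
      field_simp; exact mul_right_cancel₀ (pow_ne_zero q r1) (by linear_combination r 0 * hx - x 0 * h2), uac_smul, h1]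
  refine ⟨_, _, k zero_ne_one, k one_ne_zero, fun h => ?_, top_le_iff.1 fun x _ => ?_⟩
  · have := j.injective (by simpa using h.eq : j (tv zero_ne_one 1 * tv one_ne_zero 1) = j (tv one_ne_zero 1 * tv zero_ne_one 1))
    have := (SL2.mul_apply _ _ 0 0).symm.trans ((congrFun (congrFun (congrArg Subtype.val this) 0) 0).trans (SL2.mul_apply _ _ 0 0))
    simp [SpecialLinearGroup.transvection, transvection] at this
  have c : ∀ c : ufix F q, c = 0 ∨ c = 1 ∨ c = 1 + 1 := fun c => by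
    have h : (c : F) ^ q = c := c.2
    have := two_le_q hF.1
    obtain rfl | rfl : q = 2 ∨ q = 3 := by omega
    · rcases mul_eq_zero.1 (show (c : F) * (c - 1) = 0 by linear_combination h) with e | e
      exacts [Or.inl (Subtype.ext e), Or.inr (Or.inl (Subtype.ext (sub_eq_zero.1 e)))]
    · have h3 : (3 : F) = 0 := by have := charP_q (F := F) Nat.prime_three; exact CharP.cast_eq_zero F 3
      rcases mul_eq_zero.1 (show (c : F) * ((c - 1) * (c - (1 + 1))) = 0 by linear_combination h + (c - c ^ 2) * h3) with e | e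
      exacts [Or.inl (Subtype.ext e), Or.inr ((mul_eq_zero.1 e).imp (fun e => Subtype.ext (sub_eq_zero.1 e)) fun e => Subtype.ext (sub_eq_zero.1 e))]
  have k : ∀ {a b : Fin 2} (e : a ≠ b) {H : Subgroup (SU 2 F q)}, j (tv e 1) ∈ H → ∀ c, tv e c ∈ H.comap j.toMonoidHom := fun e H h d => by
    rcases c d with rfl | rfl | rfl
    · simp
    · exact h
    · rw [transvection_add]; exact mul_mem h h
  simpa using SL2_ind (k _ (Subgroup.subset_closure (by simp))) (k _ (Subgroup.subset_closure (by simp))) (j.symm x)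

theorem IsSg.mul {g g' : SU n F q} {r v v' s s'} (h : IsSg g r v s) (h' : IsSg g' r v' s') : IsSg (g * g') r (v + v') (s + s' + B v' v) :=
  ⟨h.1, by simp [hB_add, h.2.1, h'.2.1], by simp only [cq_add, hB_add, hB_add', hB_cq]; linear_combination h.2.2.1 + h'.2.2.1, fun x => by
    rw [uac_mul, h'.2.2.2, h.2.2.2]
    simp only [hB_add, hB_sub, hB_smul, hB_add', h.1, h'.2.1, hB_symm h.2.1]; module⟩
omit [Finite F] hF in
theorem IsSg.ext {g g' : SU n F q} {r v s} (h : IsSg g r v s) (h' : IsSg g' r v s) : g = g' := SU_ext fun _ => by rw [h.2.2.2, h'.2.2.2]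
theorem IsSg.one {r : Fin n → F} (h : B r r = 0) : IsSg (1 : SU n F q) r 0 0 := ⟨h, by simp, by simp [cq_zero], by simp⟩
theorem ex_sg {r v : Fin n → F} {s : F} (r0 : B r r = 0) (o : B v r = 0) (hs : s + s ^ q = B v v) : ∃ g : SU n F q, IsSg g r v s :=
  (ex_siegel (on_univ r) (on_univ v) r0 o hs).imp fun _ h => ⟨r0, o, hs, h.2⟩
theorem IsSg.pow {g : SU n F q} {r v s} (h : IsSg g r v s) (k : ℕ) : IsSg (g ^ k) r ((k : F) • v) (k * s + (k.choose 2 : ℕ) * B v v) := by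
  induction k with
  | zero => simpa using IsSg.one h.1
  | succ k ih => convert h.mul ih using 1 <;> simp [pow_succ', add_smul, add_comm, Nat.choose_succ_succ' k 1, hB_smul]; ring
theorem IsSg.pow_sq {g : SU n F q} {r v s} (h : IsSg g r v s) (p : ℕ) [CharP F p] : g ^ p ^ 2 = 1 := by
  rw [sq, pow_mul]; exact (by simpa using (h.pow p).pow p : IsSg _ r 0 0).ext (IsSg.one h.1)
theorem SU_ind (hn : 3 ≤ n) {H : Subgroup (SU n F q)} (h : ∀ g r v s, IsSg g r v s → g ∈ H) (g) : g ∈ H := by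
  have : (stdU hF.1 n).E ≤ (H.map (SUEquiv hF.1 n).toMonoidHom).map (Subgroup.subtype _) := (Subgroup.closure_le _).2 (by
    rintro _ ⟨r, v, s, a, b, c, rfl⟩
    obtain ⟨g, hg⟩ := ex_sg (q := q) a b c
    exact ⟨_, ⟨g, h g r v s hg, rfl⟩, Form.Isom.ext fun x => (hg.2.2.2 x).trans (((stdU hF.1 n).siegel_apply a b c x).trans (by
      rw [show (stdU hF.1 n).ε = 1 from rfl, one_mul, one_mul]; rfl)).symm⟩)
  obtain ⟨_, ⟨k, hk, rfl⟩, e⟩ := this (((stdU_isUnitary hF.1 n).E_eq_SIsom (by simpa)).ge (SUEquiv hF.1 n g).2)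
  exact (SUEquiv hF.1 n).injective (Subtype.ext e) ▸ hk
/-- the Siegel elements with centre `r` -/
def sgGrp {r : Fin n → F} (h : B r r = 0) : Subgroup (SU n F q) where
  carrier := {g | ∃ v s, IsSg g r v s}
  one_mem' := ⟨_, _, IsSg.one h⟩
  mul_mem' := fun ⟨_, _, a⟩ ⟨_, _, b⟩ => ⟨_, _, a.mul b⟩
  inv_mem' := fun {g} ⟨v, s, a⟩ => by
    obtain ⟨k, hk⟩ := ex_sg (v := -v) (s := s ^ q) h (by rw [← neg_one_smul F v, hB_smul, a.2.1, mul_zero])
      (by rw [cq_cq, add_comm, a.2.2.1, ← neg_one_smul F v, hB_smul, hB_smul', cq_neg]; simp)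
    exact ⟨_, _, (eq_inv_of_mul_eq_one_right ((by
      have := a.mul hk
      rwa [add_neg_cancel, a.2.2.1, ← neg_one_smul F v, hB_smul, neg_one_mul, add_neg_cancel] at this : IsSg _ r 0 0).ext (IsSg.one h))) ▸ hk⟩

theorem dvd_cnt (hn : 2 ≤ n) {p : ℕ} (hp : p ∣ q) : p ∣ Nat.card {v : Fin n → F // B v v = 0} := by
  have h := (stdU_isUnitary hF.1 n).cnt_zero
  obtain ⟨n, rfl⟩ : ∃ k, n = k + 2 := ⟨n - 2, by omega⟩
  rw [Module.finrank_fin_fun] at h
  refine hp.trans (Int.natCast_dvd_natCast.1 ⟨q ^ (2 * n + 2) + (-1) ^ (n + 2) * (q - 1) * q ^ n, mul_left_cancel₀ (Nat.cast_ne_zero.2 (q_ne F)) (h.trans (by ring))⟩)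

/-- a basis adapted to a flag of the four-dimensional unitary space -/
structure Flag4 (q : ℕ) (r w y z : Fin 4 → F) : Prop where
  rr : hermForm 4 F q r r = 0
  wr : hermForm 4 F q w r = 0
  ww : hermForm 4 F q w w = 0
  yr : hermForm 4 F q y r = 0
  yw : hermForm 4 F q y w = 1
  zr : hermForm 4 F q z r = 1
  dec : ∀ v, hermForm 4 F q v r = 0 → ∃ a b c : F, v = a • r + b • w + c • y

theorem ex_flag {p : ℕ} [Fact p.Prime] (hp : p ∣ q) {Q : Subgroup (SU 4 F q)} (hQ : IsPGroup p Q) :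
    ∃ r w y z, Flag4 q r w y z ∧ ∀ x ∈ Q, uac x r = r ∧ ∃ a : F, uac x w = w + a • r := by
  let _ : MulAction Q {v : Fin 4 → F // B v v = 0} :=
    { smul x v := ⟨uac (q := q) x v, by simp [v.2]⟩, one_smul _ := Subtype.ext (uac_one (q := q) _)
      mul_smul _ _ _ := Subtype.ext (uac_mul (q := q) _ _ _) }
  obtain ⟨⟨r, r1⟩, r2, r3⟩ := hQ.exists_fixed_point_of_prime_dvd_card_of_fixed_point {v : Fin 4 → F // B v v = 0} (dvd_cnt (by omega) hp) (a := ⟨0, by simp⟩)
    fun x => Subtype.ext (uac_zero _)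
  obtain ⟨c, hc⟩ := ex_norm (q := q) (c := (-1 : F)) (by rw [cq_neg, one_pow])
  obtain ⟨s, -, hs⟩ := ubl_trans0 (q := q) (A := Set.univ) (i := 0) (j := 1) (k := 2) trivial trivial trivial (by simp) (by simp) (by simp)
    (on_univ ![1, c, 0, 0]) (on_univ r) (fun h => by simpa using congrFun h 0) (fun h => r3 (Subtype.ext h.symm))
    (by rw [r1]; simp [hermForm, Fin.sum_univ_four, cq_zero]; linear_combination hc)
  have fx : ∀ x ∈ Q, uac x r = r := fun x hx => congrArg Subtype.val (r2 ⟨x, hx⟩)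
  obtain ⟨π, ι, p1, p2, p3, p4, p5, p6⟩ : ∃ (π : (Fin 4 → F) → Fin 2 → F) (ι : (Fin 2 → F) →ₗ[F] Fin 4 → F), (∀ v, π (ι v) = v) ∧ (∀ v, B (ι v) r = 0) ∧
      (∀ v w, B (ι v) (ι w) = B v w) ∧ (∀ u, B u r = 0 → ∃ a : F, u = a • r + ι (π u)) ∧ (∀ (a : F) u, π (a • r + u) = π u) ∧ ∃ z, B z r = 1 := by
    have k : ∀ v : Fin 2 → F, (s.1.1 * incl F (shift 2 le_rfl : Fin 2 ↪ Fin 4)).mulVecLin v = uac s ![0, 0, v 0, v 1] := fun v => by
      rw [mulVecLin_apply, ← mulVec_mulVec, uac]; congr 1; ext i; fin_cases i <;> simp [incl, mulVec, dotProduct, Fin.ext_iff, Fin.sum_univ_two, -Fin.val_eq_zero_iff]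
    refine ⟨fun u => ![uac s⁻¹ u 2, uac s⁻¹ u 3], (s.1.1 * incl F (shift 2 le_rfl : Fin 2 ↪ Fin 4)).mulVecLin, fun v => ?_, fun v => ?_, fun v w => ?_,
      fun v h => ⟨uac s⁻¹ v 0, ?_⟩, fun a u => ?_, uac s (ev 0), by rw [← hs]; simp⟩
    · rw [k]; ext i; fin_cases i <;> simp
    · rw [k, ← hs, hB_uac]; simp [hermForm, Fin.sum_univ_four, cq_zero]
    · rw [k, k, hB_uac]; simp [hermForm, Fin.sum_univ_four]
    · rw [k, ← hs, ← uac_smul, ← uac_add, ← uac_inv_eq (g := s⁻¹) (u := v) rfl, inv_inv, uac_inv_uac]; congr 1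
      rw [← hs, ← hB_uac s⁻¹, uac_inv_uac] at h
      simp [hermForm, Fin.sum_univ_four, cq_zero] at h
      ext i; fin_cases i <;> simp
      linear_combination (-c) * h + uac s⁻¹ v 1 * hc
    · simp [uac_add, uac_smul, uac_inv_eq hs]
  have o' : ∀ x ∈ Q, ∀ v, B (uac x (ι v)) r = 0 := fun x hx v => by rw [← fx x hx, hB_uac, p2]
  let _ : MulAction Q {v : Fin 2 → F // B v v = 0} :=
    { smul x v := ⟨π (uac (q := q) x (ι v)), by
        have := hB_uac x.1 (ι v) (ι v)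
        obtain ⟨a, ha⟩ := p4 _ (o' x x.2 v)
        rw [ha] at this
        simpa only [hB_add, hB_add', hB_smul, hB_smul', r1, p2, hB_symm (p2 _), p3, mul_zero, zero_add, v.2] using this⟩
      one_smul v := Subtype.ext ((congrArg π (uac_one (q := q) _)).trans (p1 _))
      mul_smul x y v := Subtype.ext (by
        change π (uac (x.1 * y.1) _) = π (uac x.1 (ι (π (uac y.1 (ι v)))))
        obtain ⟨a, ha⟩ := p4 _ (o' y y.2 v)
        rw [uac_mul, ha, uac_add, uac_smul, fx x x.2, p5, ← ha]) }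
  obtain ⟨⟨w, w1⟩, w2, w3⟩ := hQ.exists_fixed_point_of_prime_dvd_card_of_fixed_point {v : Fin 2 → F // B v v = 0} (dvd_cnt le_rfl hp)
    (a := ⟨0, by simp⟩) fun x => Subtype.ext (by
      change π (uac _ (ι 0)) = 0
      rw [map_zero, uac_zero, ← map_zero ι, p1])
  have w0 : w ≠ 0 := fun h => w3 (Subtype.ext h.symm)
  have w4 := w1
  simp only [hermForm, Fin.sum_univ_two] at w4
  have a0 : w 0 ≠ 0 := fun e => w0 (by ext i; fin_cases i <;> simp_all [q_ne F])
  have a1 : w 1 ≠ 0 := fun e => w0 (by ext i; fin_cases i <;> simp_all [q_ne F])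
  obtain ⟨z, hz⟩ := p6
  refine ⟨r, ι w, ι ![(w 0 ^ q)⁻¹, 0], z, ⟨r1, p2 _, by rw [p3, w1], p2 _, by rw [p3]; simp [hermForm, a0], hz, fun v h => ?_⟩,
    fun x hx => ⟨fx x hx, (p4 _ (o' x hx w)).imp fun a ha => by rw [ha, add_comm, show π _ = w from congrArg Subtype.val (w2 ⟨x, hx⟩)]⟩⟩
  obtain ⟨a, ha⟩ := p4 v h
  refine ⟨a, π v 1 / w 1, (π v 0 - π v 1 / w 1 * w 0) * w 0 ^ q, ha.trans ?_⟩
  rw [add_assoc, ← map_smul, ← map_smul, ← map_add]; congr 2; ext i; fin_cases i <;> simp [a0, a1]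

theorem Flag4.tri {r w y z : Fin 4 → F} (h : Flag4 q r w y z) {x : SU 4 F q} {a : F} (h1 : uac x r = r) (h2 : uac x w = w + a • r) :
    (∃ b c : F, b + b ^ q = 0 ∧ uac x y = y + b • w + c • r) ∧ ∃ d e : F, uac x z = z + d • r + e • w + (-a ^ q) • y := by
  obtain ⟨c, b, f, e1⟩ := h.dec (uac x y - y) (by rw [hB_sub, ← h1, hB_uac, h1, sub_self])
  obtain ⟨d, e, g, e2⟩ := h.dec (uac x z - z) (by rw [hB_sub, ← h1, hB_uac, h1, sub_self])
  rw [sub_eq_iff_eq_add] at e1 e2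
  have k1 := hB_uac x y w
  have k2 := hB_uac x z w
  have k3 := hB_uac x y y
  simp only [e1, e2, h2, hB_add, hB_add', hB_smul, hB_smul', h.rr, h.wr, h.ww, h.yr, h.yw, h.zr, hB_symm h.wr, hB_symm h.yr, ← hB_cq y w,
    one_pow] at k1 k2 k3
  obtain rfl : f = 0 := by linear_combination k1
  obtain rfl : g = -a ^ q := by linear_combination k2
  exact ⟨⟨b, c, by rw [cq_zero] at k3; linear_combination k3, by rw [e1]; module⟩, d, e, by rw [e2]; module⟩
theorem Flag4.isTr {r w y z : Fin 4 → F} (h : Flag4 q r w y z) {x x' : SU 4 F q} (h0 : uac x r = r) (h1 : uac x' r = r) (h2 : uac x w = uac x' w)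
    (h3 : uac x y = uac x' y) : IsTr (x * x'⁻¹) r := isTr_of_fix (fun e => by simpa [e] using h.zr) h.rr fun v hv => by
  obtain ⟨a, b, c, e⟩ := h.dec (uac x'⁻¹ v) (by rw [← hB_uac x', uac_uac_inv, h1, hv])
  rw [uac_mul, ← uac_uac_inv x' v, uac_inv_uac, e]
  simp only [uac_add, uac_smul, h0, h1, h2, h3]
theorem Flag4.indep {r w y z : Fin 4 → F} (h : Flag4 q r w y z) {a b : F} (e : a • w + b • r = 0) : a = 0 ∧ b = 0 := by
  have h1 := congrArg (B y) e
  simp [hB_add', hB_smul', h.yr, h.yw, q_ne F] at h1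
  exact ⟨h1, by simpa [h1, hB_smul', h.zr, q_ne F] using congrArg (B z) e⟩

theorem tr_of_comm {Q : Subgroup (SU 4 F q)} (hq : q = 3) (hQ : ∀ x ∈ Q, x ^ 3 = 1) {u v} (hu : u ∈ Q) (hv : v ∈ Q) :
    ∃ r, IsTr ⁅u, v⁆ r := by
  have := Fact.mk Nat.prime_three
  have := charP_q (F := F) (hq ▸ Nat.prime_three)
  have h3 : (3 : F) = 0 := by simpa [hq] using CharP.cast_eq_zero F q
  obtain ⟨r, w, y, z, h, hx⟩ := ex_flag (p := 3) (by simp [hq]) (Q := Q) fun x => ⟨1, Subtype.ext (by simpa using hQ x x.2)⟩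
  have k : ∀ x ∈ Q, ∀ a b c : F, uac x w = w + a • r → uac x y = y + b • w + c • r → a * b = 0 := fun x e a b c h1 h2 => by
    obtain ⟨d, e', h4⟩ := (h.tri (hx x e).1 h1).2
    have := congrArg (uac · z) (hQ x e)
    simp only [pow_succ, pow_zero, one_mul, uac_mul, uac_one, h4, uac_add, uac_smul, h1, h2, (hx x e).1] at this
    have := (h.indep (a := 0) (b := a ^ q * (a * b)) (by
      linear_combination (norm := module) -this + h3 • ((d + e' * a - a ^ q * c) • r + (e' - a ^ q * b) • w - a ^ q • y))).2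
    simpa [q_ne F] using this
  obtain ⟨u0, a, u1⟩ := hx u hu
  obtain ⟨v0, a', v1⟩ := hx v hv
  obtain ⟨b, c, -, u2⟩ := (h.tri u0 u1).1
  obtain ⟨b', c', -, v2⟩ := (h.tri v0 v1).1
  have k1 := k _ (mul_mem hu hv) (a + a') (b + b') (c + c' + b' * a) (by simp only [uac_mul, uac_add, uac_smul, u0, u1, v1]; module)
    (by simp only [uac_mul, uac_add, uac_smul, u0, u1, u2, v2]; module)
  have k2 := k u hu _ _ _ u1 u2
  have k3 := k v hv _ _ _ v1 v2
  have k4 : a * b' = 0 := by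
    have : (a * b') * (a * b') = 0 := by linear_combination (a * b') * (k1 - k2 - k3) - (a' * b') * k2
    simpa using this
  have k5 : a' * b = 0 := by linear_combination k1 - k2 - k3 - k4
  refine ⟨r, (show u * v * (v * u)⁻¹ = ⁅u, v⁆ by group) ▸ h.isTr (hx _ (mul_mem hu hv)).1 (hx _ (mul_mem hv hu)).1 ?_ ?_⟩
  · simp only [uac_mul, uac_add, uac_smul, u0, u1, v0, v1]; module
  · simp only [uac_mul, uac_add, uac_smul, u0, u1, u2, v0, v1, v2]; linear_combination (norm := module) (k4 - k5) • r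
theorem tr_of_sq {Q : Subgroup (SU 4 F q)} (hq : q = 2) (hQ : IsPGroup 2 Q) {u v} (hu : u ∈ Q) (hv : v ∈ Q) (e1 : u * u = v * v)
    (e2 : u * u = u * v * (u * v)) : ∃ r, IsTr (u * u) r := by
  have := charP_q (F := F) (hq ▸ Nat.prime_two)
  have h2 : (2 : F) = 0 := by simpa [hq] using CharP.cast_eq_zero F q
  obtain ⟨r, w, y, z, h, hx⟩ := ex_flag (p := 2) (by simp [hq]) hQ
  have k : ∀ x ∈ Q, ∀ a b c : F, uac x w = w + a • r → uac x y = y + b • w + c • r → uac (x * x) y = y + (a * b) • r := fun x e a b c h1 h3 => by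
    simp only [uac_mul, uac_add, uac_smul, h1, h3, (hx x e).1]; linear_combination (norm := module) h2 • (b • w + c • r)
  obtain ⟨u0, a, u1⟩ := hx u hu
  obtain ⟨v0, a', v1⟩ := hx v hv
  obtain ⟨b, c, b1, u2⟩ := (h.tri u0 u1).1
  obtain ⟨b', c', b2, v2⟩ := (h.tri v0 v1).1
  have k1 := k _ (mul_mem hu hv) (a + a') (b + b') (c + c' + b' * a) (by simp only [uac_mul, uac_add, uac_smul, u0, u1, v1]; module)
    (by simp only [uac_mul, uac_add, uac_smul, u0, u1, u2, v2]; module)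
  have k2 := k u hu _ _ _ u1 u2
  have k3 := k v hv _ _ _ v1 v2
  have r0 : r ≠ 0 := fun e => by simpa [e] using h.zr
  rw [← e2, k2, add_right_inj] at k1
  rw [← e1, k2, add_right_inj] at k3
  replace k1 := smul_left_injective F r0 k1
  replace k3 := smul_left_injective F r0 k3
  subst hq
  have k4 : a * b = 0 := by
    by_contra e
    have c1 : b = 1 := mul_left_cancel₀ (right_ne_zero_of_mul e) (by linear_combination b1 - b * h2)
    have c2 : b' = 1 := mul_left_cancel₀ (right_ne_zero_of_mul (k3 ▸ e)) (by linear_combination b2 - b' * h2)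
    exact e (by rw [k1, c1, c2]; linear_combination (a + a') * h2)
  exact ⟨r, by simpa using h.isTr (x' := 1) (hx _ (mul_mem hu hu)).1 (uac_one _) (by
    simp only [uac_mul, uac_add, uac_smul, u0, u1, uac_one]; linear_combination (norm := module) h2 • a • r) (by simp [k2, k4])⟩

theorem ex_perp3 {r r' : Fin 3 → F} (h : ugram q r r' ≠ 0) : ∃ x, B x x = 1 ∧ B x r = 0 ∧ B x r' = 0 := by
  obtain ⟨x, x1, x2⟩ := (stdU_isUnitary hF.1 3).exists_unit_perp ((stdU hF.1 3).nondegOn_pair (e := r) (f := r') (by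
    simpa [stdU_B, ugram, mul_comm] using h)) (by
      classical exact (finrank_span_le_card _).trans_lt (by simpa using Nat.lt_succ_of_le Finset.card_le_two)) (map_one _)
  exact ⟨x, x2, (Form.mem_perp_pair _).1 x1⟩
theorem noP_SU (hn : 2 ≤ n) (p : ℕ) [Fact p.Prime] [CharP F p] : NoPCenter p (SU n F q) := fun z hz e => by
  obtain ⟨c, hc⟩ := center_val hn hz
  have : z.1.1 ^ p = 1 := (Matrix.SpecialLinearGroup.coe_pow z.1 p).symm.trans (congrArg (fun x : SU n F q => x.1.1) e)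
  rw [hc, smul_pow, one_pow] at this
  replace this := congrFun (congrFun this ⟨0, by omega⟩) ⟨0, by omega⟩
  have c1 : c = 1 := by rw [← sub_eq_zero, ← pow_eq_zero_iff (Fact.out : p.Prime).ne_zero, sub_pow_char]; simpa [sub_eq_zero] using this
  exact Subtype.ext (Subtype.ext (by simp [hc, c1]))
theorem ex_plift {Γ : Type*} [Group Γ] [Finite Γ] {p : ℕ} [Fact p.Prime] (g : Γ →* G) {P : Subgroup G} (hP : IsPGroup p P) (h : P ≤ g.range) :
    ∃ Q : Subgroup Γ, IsPGroup p Q ∧ Q.map g = P := by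
  have hs : Function.Surjective (g.subgroupComap P) := fun ⟨y, hy⟩ => let ⟨x, e⟩ := h hy; ⟨⟨x, show g x ∈ P from e ▸ hy⟩, Subtype.ext e⟩
  obtain ⟨S⟩ := (inferInstance : Nonempty (Sylow p (P.comap g)))
  have := (S.mapSurjective hs).3 (hP.to_subgroup ⊤) le_top
  refine ⟨S.map (Subgroup.subtype _), S.2.map _, le_antisymm (by rintro _ ⟨_, ⟨x, -, rfl⟩, rfl⟩; exact x.2) fun y hy => ?_⟩
  obtain ⟨x, hx, e⟩ : (⟨y, hy⟩ : P) ∈ S.map (g.subgroupComap P) := this.le trivial
  exact ⟨_, ⟨x, hx, rfl⟩, congrArg Subtype.val e⟩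
theorem IsTr.isSg {g : SU n F q} {r} (h : IsTr g r) (r0 : r ≠ 0) : ∃ s, IsSg g r 0 s := by
  obtain ⟨h0, s, hs⟩ := h
  obtain ⟨x, hx⟩ := ex_hB_one (q := q) r0
  have := hB_uac g x x
  simp only [hs, hx, hB_add, hB_add', hB_smul, hB_smul', h0, ← hB_cq x r, one_pow, mul_one] at this
  exact ⟨-s, h0, by simp, by rw [cq_neg, hB_zero]; linear_combination -this, fun x => by simp [hs]⟩

theorem tr_lift (hq : q ≤ 3) {g : SU 4 F q →* G} (hg : g.ker ≤ Subgroup.center _) {a : SU 3 F q →* G} (ha : a.range ≤ g.range) {τ r}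
    (h : IsTr τ r) : ∃ σ ρ, IsTr σ ρ ∧ g σ = a τ := by
  rcases eq_or_ne τ 1 with rfl | h1
  · exact ⟨1, 0, ⟨by simp, 0, by simp⟩, by simp⟩
  have r0 : r ≠ 0 := by rintro rfl; exact h1 (SU_ext fun i => h.fix (by simp) |>.trans (uac_one _).symm)
  obtain ⟨s, hs⟩ := h.isSg r0
  have hp : q.Prime := by have := two_le_q hF.1; interval_cases q <;> norm_num
  have := Fact.mk hp
  have := charP_q (F := F) hp
  obtain ⟨Q, q1, q2⟩ := ex_plift g (P := (sgGrp h.1).map a) (IsPGroup.map (H := sgGrp h.1) (fun ⟨x, _, _, e⟩ => ⟨2, Subtype.ext (e.pow_sq q)⟩) a)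
    ((Subgroup.map_le_range _ _).trans ha)
  have inj : ∀ x ∈ Q, ∀ y ∈ Q, g x = g y → x = y := fun x hx y hy e => mul_inv_eq_one.1 ((noP_SU (by omega) q).eq_one
    (hg (by simp [MonoidHom.mem_ker, e])) (PEl.of_mem q1 (mul_mem hx (inv_mem hy))))
  have lift : ∀ v : Fin 3 → F, B v r = 0 → ∃ u t, IsSg u r v t ∧ ∃ x ∈ Q, g x = a u := fun v hv => by
    obtain ⟨t, ht⟩ := ex_tr_eq (hB_cq (q := q) v v)
    obtain ⟨u, hu⟩ := ex_sg h.1 hv ht
    exact ⟨u, t, hu, q2.ge ⟨u, ⟨_, _, hu⟩, rfl⟩⟩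
  obtain ⟨z, hz⟩ := ex_hB_one (q := q) r0
  obtain ⟨v, v1, v2, -⟩ := ex_perp3 (q := q) (r := r) (r' := z) (by simp [ugram, h.1, hz, ← hB_cq z r])
  obtain ⟨u, t, u1, x, x1, x2⟩ := lift v v2
  have hc : (q : F) = 0 := CharP.cast_eq_zero F q
  have s0 := hs.2.2.1
  rw [hB_zero] at s0
  rcases (show q = 2 ∨ q = 3 by have := hp.two_le; omega) with e | e
  · obtain ⟨θ, t1, t2⟩ := ex_theta (F := F) (q := q)
    obtain ⟨u', t', u2, y, y1, y2⟩ := lift (θ • v) (by simp [hB_smul, v2])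
    have h2 : (2 : F) = 0 := by simpa [e] using hc
    have s1 : s = 1 := mul_left_cancel₀ (a := s) (by rintro rfl; exact h1 (hs.ext (IsSg.one h.1))) (by rw [e] at s0; linear_combination s0 - s * h2)
    have k : ∀ {u v t}, IsSg u r v t → B v v = 1 → u * u = τ := fun {u v t} h e => IsSg.ext (by
      convert h.mul h using 1
      · linear_combination (norm := module) (-h2) • v
      · rw [e, s1]; linear_combination (-t) * h2) hs
    have k1 := k u1 v1
    have k2 := k u2 (by rw [hB_smul, hB_smul', v1]; linear_combination t1)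
    have k3 := k (u1.mul u2) (by
      simp only [hB_smul, hB_smul', hB_add, hB_add', v1]; rw [e] at t1 ⊢
      exact mul_left_cancel₀ (sub_ne_zero.2 t2) (by linear_combination (θ ^ 2 + θ) * t1))
    obtain ⟨ρ, hρ⟩ := tr_of_sq e (e ▸ q1) x1 y1 (inj _ (mul_mem x1 x1) _ (mul_mem y1 y1) (by simp only [map_mul, x2, y2]; rw [← map_mul, ← map_mul, k1, k2]))
      (inj _ (mul_mem x1 x1) _ (mul_mem (mul_mem x1 y1) (mul_mem x1 y1)) (by simp only [map_mul, x2, y2]; simp only [← map_mul, k1, k3]))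
    exact ⟨_, ρ, hρ, by rw [map_mul, x2, ← map_mul, k1]⟩
  · obtain ⟨u', t', u2, y, y1, y2⟩ := lift ((-s) • v) (by rw [hB_smul, v2, mul_zero])
    have h3 : (3 : F) = 0 := by simpa [e] using hc
    obtain ⟨ρ, hρ⟩ := tr_of_comm (Q := Q) e (fun x hx => inj _ (pow_mem hx 3) _ (one_mem _) (by
      obtain ⟨u, ⟨v, t, hu⟩, e'⟩ := q2.le ⟨x, hx, rfl⟩
      rw [map_pow, ← e', ← map_pow, (by simpa [h3] using hu.pow 3 : IsSg (u ^ 3) r 0 0).ext (IsSg.one h.1), map_one, map_one])) x1 y1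
    refine ⟨_, ρ, hρ, ?_⟩
    have : τ * (u' * u) = u * u' := IsSg.ext (by
      convert hs.mul (u2.mul u1) using 1
      · module
      · simp only [hB_smul, hB_smul', v1, hB_zero', cq_neg]; linear_combination s0 - s * h3) (u1.mul u2)
    rw [map_commutatorElement, x2, y2, ← map_commutatorElement, eq_mul_inv_of_mul_eq this]; congr 1; group
end H09
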