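import Mathlib
import Cfsg.Agent.H09.Phan9
/-! Phan amalgams X: weak Phan systems over the fields with 4 and 9 elements. -/
namespace H09
open Matrix Cfsg H10
open scoped MatrixGroups commutatorElement
variable {F : Type*} [Field F] {q n m : ℕ} {G : Type*} [Group G] [Finite F] [hF : Fact (Nat.card F = q ^ 2)]
local notation "B" => hermForm _ F q

theorem aut_form (α : SU 2 F q ≃* SU 2 F q) (h : ∀ t, t.1.1 0 1 = 0 → (α t).1.1 0 1 = 0) : ∃ (σ : RingAut F) (μ : F), μ ^ q * μ = 1 ∧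
    ∀ x, (α x).1.1 0 0 = σ (x.1.1 0 0) ∧ (α x).1.1 0 1 = μ * σ (x.1.1 0 1) := by
  obtain ⟨σ, g, hg, g1, g2⟩ : ∃ (σ : RingAut F) (g : GL (Fin 2) F), (∀ x, (α x).1.1 * g.1 = g.1 * x.1.1.map σ) ∧ g.1 0 1 = 0 ∧ g.1 1 0 = 0 := by
    obtain ⟨σ, g, hg⟩ := su2_aut α
    obtain ⟨θ, t1, t2⟩ := ex_theta (F := F) (q := q)
    have e := hg (suField σ⁻¹ (udg θ t1))
    have d := diag_of _ (h (suField σ⁻¹ (udg θ t1)) (by simp [suField_val, udg_val]))
    have d' := SL2.det_eq (α (suField σ⁻¹ (udg θ t1))).1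
    rw [show (suField σ⁻¹ (udg θ t1)).1.1.map σ = !![θ, 0; 0, θ ^ q] by rw [← udg_val θ t1]; ext; simp [suField_val]] at e
    have e1 := congrFun (congrFun e 0) 0
    have e2 := congrFun (congrFun e 0) 1
    have e3 := congrFun (congrFun e 1) 0
    have e4 := congrFun (congrFun e 1) 1
    simp only [Matrix.mul_apply, Fin.sum_univ_two, d zero_ne_one, d one_ne_zero] at e1 e2 e3 e4 d'
    simp at e1 e2 e3 e4 d'
    generalize (α _).1.1 0 0 = a at *
    generalize (α _).1.1 1 1 = b at *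
    by_cases ha : a = θ
    · exact ⟨σ, g, hg, mul_left_cancel₀ (sub_ne_zero.2 t2) (by rw [ha] at e2; linear_combination θ * e2 + g.1 0 1 * t1),
        mul_left_cancel₀ (sub_ne_zero.2 t2) (by rw [ha] at d'; linear_combination (-θ) * e3 + g.1 1 0 * d')⟩
    have g0 : g.1 0 0 = 0 := mul_left_cancel₀ (sub_ne_zero.2 ha) (by linear_combination e1)
    have g1 : g.1 1 1 = 0 := mul_left_cancel₀ (sub_ne_zero.2 ha) (by
      linear_combination (-a * θ) * e4 + θ * g.1 1 1 * d' - a * g.1 1 1 * t1)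
    refine ⟨σ * barAut hF.1, g * SpecialLinearGroup.toGL (uw : SU 2 F q).1, fun x => ?_, ?_, ?_⟩
    · rw [Units.val_mul, ← Matrix.mul_assoc, hg, Matrix.mul_assoc, Matrix.mul_assoc]; congr 1
      have f := su2_form x
      ext i j; fin_cases i <;> fin_cases j <;> simp [uw_val, Matrix.mul_apply, barAut_apply, f.1, f.2, cq_cq, cq_neg]
    · simp [uw_val, Matrix.mul_apply, g0]
    · simp [uw_val, Matrix.mul_apply, g1]
  have d : g.1 0 0 * g.1 1 1 ≠ 0 := by simpa [det_fin_two, g1] using g.det_ne_zero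
  have k : ∀ x i j, (α x).1.1 i j * g.1 j j = g.1 i i * σ (x.1.1 i j) := fun x i j => by
    have := congrFun (congrFun (hg x) i) j
    fin_cases i <;> fin_cases j <;> simpa [Matrix.mul_apply, g1, g2] using this
  obtain ⟨μ, hμ⟩ : ∃ μ, g.1 0 0 = μ * g.1 1 1 := ⟨_, (div_mul_cancel₀ _ (right_ne_zero_of_mul d)).symm⟩
  have k1 : ∀ x, (α x).1.1 0 1 = μ * σ (x.1.1 0 1) := fun x => mul_right_cancel₀ (right_ne_zero_of_mul d) (by rw [k, hμ]; ring)
  have k0 : ∀ x, (α x).1.1 0 0 = σ (x.1.1 0 0) := fun x => mul_right_cancel₀ (left_ne_zero_of_mul d) (by rw [k]; ring)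
  have m1 : μ ^ q * μ = 1 := by
    have := SL2.det_eq (α uw).1
    rw [(su2_form _).2, k0, k1] at this
    simpa [uw_val, cq_neg, mul_comm] using this
  exact ⟨σ, μ, m1, fun x => ⟨k0 x, k1 x⟩⟩
theorem su2_ext {x y : SU 2 F q} (h0 : x.1.1 0 0 = y.1.1 0 0) (h1 : x.1.1 0 1 = y.1.1 0 1) : x = y := SU_ext' fun i j => by
  fin_cases i <;> fin_cases j <;> simp [h0, h1, (su2_form x).1, (su2_form x).2, (su2_form y).1, (su2_form y).2]
theorem ringAut_eq_of_norm {σ τ : RingAut F} (h : ∀ θ : F, θ ^ q * θ = 1 → σ θ = τ θ) : σ = τ := by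
  have k : ∀ a : F, a ≠ 0 → σ a * τ a ^ q = τ a * σ a ^ q := fun a h0 => by
    have := h (a / a ^ q) (by rw [div_pow, cq_cq]; field_simp)
    rw [map_div₀, map_div₀, map_pow, map_pow, div_eq_div_iff (by simp [h0]) (by simp [h0])] at this; exact this
  have k2 : ∀ a : F, a ^ q ≠ a → σ a = τ a := fun a h0 => by
    have h1 := k a (by rintro rfl; simp [cq_zero] at h0)
    have h2 := k (a + 1) (fun e => h0 (by rw [eq_neg_of_add_eq_zero_left e, cq_neg, one_pow]))
    simp only [map_add, map_one, cq_add, one_pow] at h2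
    have h3 : τ a ^ q - τ a ≠ 0 := by rw [← map_pow, ← map_sub]; exact (map_ne_zero τ).2 (sub_ne_zero.2 h0)
    exact mul_right_cancel₀ h3 (by linear_combination h1 - τ a * (h2 - h1))
  obtain ⟨b, hb⟩ := exists_not_fixed hF.1
  ext a
  by_cases e : a ^ q = a
  · have := k2 (a + b) (by rw [cq_add, e]; simpa)
    rwa [map_add, map_add, k2 b hb, add_left_inj] at this
  · exact k2 a e
/-- diagonal times field automorphisms -/
def suDF (d : Fin n → F) (h : ∀ i, d i ^ q * d i = 1) (σ : RingAut F) : SU n F q →* SU n F q :=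
  have e : diagonal (fun i => d i ^ q) * diagonal d = 1 := by simp [h]
  MonoidHom.mk' (fun x => ⟨⟨diagonal d * (suField σ x).1.1 * diagonal fun i => d i ^ q, by
    rw [det_mul_comm, ← Matrix.mul_assoc, e, Matrix.one_mul, (suField σ x).1.2]⟩, mem_SU_iff.2 (by
      have := mem_SU_iff.1 (suField σ x).2
      change (diagonal d * _ * diagonal _)ᵀ * (diagonal d * _ * diagonal _).map _ = 1
      rw [Matrix.map_mul, Matrix.map_mul, diagonal_map (map_zero _), diagonal_map (map_zero _), transpose_mul, transpose_mul, diagonal_transpose,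
        diagonal_transpose]
      simp only [conj_apply, cq_cq, Matrix.mul_assoc]
      rw [← Matrix.mul_assoc (diagonal d), mul_eq_one_comm.1 e, Matrix.one_mul, ← Matrix.mul_assoc _ᵀ, this, Matrix.one_mul, e])⟩)
    fun x y => Subtype.ext (Subtype.ext (by
      change diagonal d * _ * _ = diagonal d * _ * _ * (diagonal d * _ * _)
      rw [map_mul, SU_mul_val]; simp only [Matrix.mul_assoc]; rw [← Matrix.mul_assoc (diagonal fun i => d i ^ q), e, Matrix.one_mul]))
theorem suDF_val (d : Fin n → F) (h) (σ : RingAut F) (x : SU n F q) (i j) : (suDF d h σ x).1.1 i j = d i * σ (x.1.1 i j) * d j ^ q := by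
  change (diagonal d * _ * diagonal _ : Matrix _ _ F) i j = _
  rw [mul_diagonal, diagonal_mul]; rfl
theorem suDF_inj (d : Fin n → F) (h) (σ : RingAut F) : Function.Injective (suDF (q := q) d h σ) := fun x y e => SU_ext' fun i j => by
  have := congrArg (·.1.1 i j) e
  have h0 : ∀ i, d i ≠ 0 := fun i e => by simpa [e] using h i
  simpa [suDF_val, h0, q_ne F] using this
theorem suDF_pad (d : Fin n → F) (h) (σ : RingAut F) (e : Fin 2 ↪ Fin n) {x y : SU 2 F q} (h0 : y.1.1 0 0 = σ (x.1.1 0 0))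
    (h1 : y.1.1 0 1 = d (e 0) * d (e 1) ^ q * σ (x.1.1 0 1)) : suDF d h σ (suPad e x) = suPad e y := by
  obtain ⟨z, hz⟩ : suDF d h σ (suPad e x) ∈ (suPad e).range := by
    rw [suPad_range, mem_ubl_iff]; intro k hk l
    simp only [suDF_val, suPad_val, padM_row e _ hk, padM_col e _ hk, one_apply]
    rcases eq_or_ne k l with rfl | x
    · simp [mul_comm (d k), h]
    · simp [x, x.symm]
  have k := fun i j => congrArg (·.1.1 (e i) (e j)) hz
  simp only [suDF_val, suPad_val, padM_ee] at k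
  rw [← hz, su2_ext (x := z) (y := y) (by rw [k, h0]; linear_combination σ (x.1.1 0 0) * h (e 0)) (by rw [k, h1]; ring)]

theorem ex_aut {a b : SU 2 F q →* G} (ia : Function.Injective a) (ib : Function.Injective b) (h : a.range = b.range) :
    ∃ α : SU 2 F q ≃* SU 2 F q, ∀ x, b (α x) = a x :=
  ⟨((MonoidHom.ofInjective ia).trans (MulEquiv.subgroupCongr h)).trans (MonoidHom.ofInjective ib).symm, fun _ => MonoidHom.apply_ofInjective_symm ib _⟩
theorem conj_p12 {t : SU 3 F q} (h : t.1.1.IsDiag) (y) : ∃ z, p12 z = t * p12 y * t⁻¹ := (sbl_iff _).1 ((diag_conj_iff h).2 (suPad_sbl _ y))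
theorem conj_p01 {t : SU 3 F q} (h : t.1.1.IsDiag) (y) : ∃ z, p01 z = t * p01 y * t⁻¹ := (sbl_iff _).1 ((diag_conj_iff h).2 (suPad_sbl _ y))
theorem pair_form {a c : SU 3 F q →* G} (hc : Function.Injective c) {α β : SU 2 F q ≃* SU 2 F q} (h0 : ∀ x, c (p01 (α x)) = a (p01 x))
    (h1 : ∀ x, c (p12 (β x)) = a (p12 x)) : ∃ (σ : RingAut F) (μ ν : F), μ ^ q * μ = 1 ∧ ν ^ q * ν = 1 ∧
      (∀ x, (α x).1.1 0 0 = σ (x.1.1 0 0) ∧ (α x).1.1 0 1 = μ * σ (x.1.1 0 1)) ∧
      ∀ x, (β x).1.1 0 0 = σ (x.1.1 0 0) ∧ (β x).1.1 0 1 = ν * σ (x.1.1 0 1) := by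
  obtain ⟨θ, t1, t2⟩ := ex_theta (F := F) (q := q)
  have t3 : θ - 1 ≠ 0 := sub_ne_zero.2 (by rintro rfl; simp at t2)
  have t4 : θ ^ q - 1 ≠ 0 := sub_ne_zero.2 fun e => t3 (by rw [e] at t1; linear_combination t1)
  obtain ⟨σ, μ, m1, m2⟩ := aut_form α fun t ht => by
    obtain ⟨z, hz⟩ := conj_p12 (p01_diag ht) (β.symm (udg θ t1))
    have : p12 (β z) * p01 (α t) = p01 (α t) * p12 (udg θ t1) := hc (by
      rw [map_mul, map_mul, h0, h1, hz, ← β.apply_symm_apply (udg θ t1), h1]; simp)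
    have e := congrFun (congrFun (congrArg (·.1.1) this) 0) 1
    simp [p01_val, p12_val, udg_val, Matrix.mul_apply, Fin.sum_univ_three] at e
    exact mul_right_cancel₀ t3 (by linear_combination -e)
  obtain ⟨τ, ν, n1, n2⟩ := aut_form β fun t ht => by
    obtain ⟨z, hz⟩ := conj_p01 (p12_diag ht) (α.symm (udg θ t1))
    have : p01 (α z) * p12 (β t) = p12 (β t) * p01 (udg θ t1) := hc (by
      rw [map_mul, map_mul, h0, h1, hz, ← α.apply_symm_apply (udg θ t1), h0]; simp)
    have e := congrFun (congrFun (congrArg (·.1.1) this) 2) 1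
    simp [p01_val, p12_val, udg_val, Matrix.mul_apply, Fin.sum_univ_three] at e
    simpa [(su2_form _).2, q_ne F] using (mul_right_cancel₀ t4 (by linear_combination -e) : (β t).1.1 1 0 = 0)
  obtain rfl : σ = τ := ringAut_eq_of_norm (q := q) fun θ t1 => by
    have : p12 uw * p01 (udg θ t1) = p01 (udg θ t1) * p12 (udg θ t1) * p12 uw := SU_ext' fun i j => by
      fin_cases i <;> fin_cases j <;> simp [p01_val, p12_val, udg_val, uw_val, Matrix.mul_apply, Fin.sum_univ_three, t1]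
    have : p12 (β uw) * p01 (α (udg θ t1)) = p01 (α (udg θ t1)) * p12 (β (udg θ t1)) * p12 (β uw) := hc (by
      simp only [map_mul, h0, h1]; simp only [← map_mul, this])
    have e := congrFun (congrFun (congrArg (·.1.1) this) 2) 1
    simp [p01_val, p12_val, udg_val, uw_val, Matrix.mul_apply, Fin.sum_univ_three, (su2_form _).1, (su2_form _).2, m2, n2, cq_zero, cq_neg] at e
    replace e := congrArg (· ^ q) e
    simp only [mul_pow, cq_cq] at e
    exact mul_left_cancel₀ (a := ν) (by rintro rfl; simp at n1) (by linear_combination e)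
  exact ⟨σ, μ, ν, m1, n1, m2, n2⟩

theorem center_of_tr (hn : 2 ≤ n) {z : SU n F q} (h : ∀ τ r, IsTr τ r → Commute z τ) : z ∈ Subgroup.center (SU n F q) := by
  obtain ⟨c, hc⟩ := (stdU_isUnitary hF.1 n).scalar_of_commute (g := (SUEquiv hF.1 n z).1) (by simpa) fun p k hp hk => by
    obtain ⟨τ, hτ⟩ := ex_sg (q := q) (r := p) (v := 0) (s := -k) hp (by simp) (by
      have : k + k ^ q = 0 := hk
      rw [cq_neg, hB_zero]; linear_combination -this)
    have e : (SUEquiv hF.1 n τ).1 = (stdU hF.1 n).quasi p k := Form.Isom.ext fun x =>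
      (hτ.2.2.2 x).trans (by rw [Form.quasi_apply _ ((stdU_isUnitary hF.1 n).quasi_cond hp hk), stdU_B]; simp)
    simpa [e] using congrArg (fun x => (SUEquiv hF.1 n x).1) (h τ p ⟨hp, k, fun x => by simp [hτ.2.2.2]⟩).eq
  exact Subgroup.mem_center_iff.2 fun g => SU_ext fun i => by
    rw [uac_mul, uac_mul, show ∀ x, uac z x = c • x from hc, show ∀ x, uac z x = c • x from hc, uac_smul]
theorem tr_mem {τ : SU 3 F q} {r} (h : IsTr τ r) : τ ∈ p01.range ⊔ p12.range := by
  have e1 : (p01 : SU 2 F q →* _).range = sbl F q 3 0 2 := by rw [suPad_range, range_shift]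
  have e2 : (p12 : SU 2 F q →* _).range = sbl F q 3 1 3 := by rw [suPad_range, range_shift]
  rw [e1, e2]
  rcases (two_le_q hF.1).lt_or_eq with hq | rfl
  · exact sbl_gen2 (a := 0) (b := 3) hq (by omega) le_rfl (fun j _ _ => by
      obtain rfl | rfl : j = 0 ∨ j = 1 := by omega
      exacts [le_sup_left, le_sup_right]) (sbl_top.ge trivial)
  have k : ∀ {τ : SU 3 F 2} {r}, IsTr τ r → r 0 = 0 → τ ∈ sbl F 2 3 0 2 ⊔ sbl F 2 3 1 3 := fun h e =>
    Subgroup.mem_sup_right (h.mem fun i hi => by fin_cases i <;> simp_all)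
  by_cases h0 : r 0 = 0
  · exact k h h0
  by_cases h1 : r 1 = 0
  · have w : p01 uw ∈ sbl F 2 3 0 2 ⊔ sbl F 2 3 1 3 := Subgroup.mem_sup_left (suPad_sbl (k := 0) (m := 2) _ _)
    simpa [mul_assoc] using mul_mem (mul_mem (inv_mem w) (k (h.conj (p01 uw)) (by
      simp [uac, p01_val, uw_val, mulVec, dotProduct, Fin.sum_univ_three, h1]))) w
  refine Subgroup.mem_sup_left (h.mem fun i hi => ?_)
  have := Fintype.ofFinite F
  have c : ∀ x : F, x ≠ 0 → x * x ^ 2 = 1 := fun x e => by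
    have := FiniteField.pow_card_sub_one_eq_one x e
    rw [← Nat.card_eq_fintype_card, hF.1] at this; linear_combination this
  have h2 : (2 : F) = 0 := have := charP_q (F := F) Nat.prime_two; CharP.cast_eq_zero F 2
  by_contra e
  have := h.1
  obtain rfl : i = 2 := by fin_cases i <;> simp_all
  rw [hermForm, Fin.sum_univ_three, c _ h0, c _ h1, c _ e] at this
  exact one_ne_zero (α := F) (by linear_combination this - h2)
theorem eq_on_M {a c : SU 3 F q →* G} (h0 : ∀ x, a (p01 x) = c (p01 x)) (h1 : ∀ x, a (p12 x) = c (p12 x)) {τ} (h : τ ∈ p01.range ⊔ p12.range) :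
    a τ = c τ := (sup_le (by rintro _ ⟨x, rfl⟩; exact h0 x) (by rintro _ ⟨x, rfl⟩; exact h1 x) : _ ≤ a.eqLocus c) h
theorem hom_fix {a c : SU 3 F q →* G} (hc : Function.Injective c) (hr : a.range ≤ c.range) (h0 : ∀ x, a (p01 x) = c (p01 x))
    (h1 : ∀ x, a (p12 x) = c (p12 x)) (x) : a x = c x := by
  obtain ⟨p, k, hp, _, -⟩ := exists_q_eq_pow hF.1
  have := Fact.mk hp
  refine SU_ind le_rfl (H := a.eqLocus c) (fun g r v s hg => ?_) x
  obtain ⟨y, hy⟩ := hr ⟨g, rfl⟩
  have hz := center_of_tr (z := g⁻¹ * y) (by omega) fun τ r h => hc (by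
    have := eq_on_M h0 h1 (tr_mem (h.conj g))
    simp only [map_mul, map_inv, eq_on_M h0 h1 (tr_mem h), ← hy] at this ⊢
    rw [mul_inv_eq_iff_eq_mul] at this; rw [mul_assoc, this]; group)
  have e : y ^ p ^ 2 = 1 := hc (by rw [map_pow, hy, ← map_pow, hg.pow_sq p, map_one, map_one])
  rw [← mul_inv_cancel_left g y, (Subgroup.mem_center_iff.1 hz g |> Commute.mul_pow) , hg.pow_sq p, one_mul] at e
  exact hy.symm.trans (by rw [inv_mul_eq_one.1 ((noP_SU (by omega) p).eq_one hz ⟨2, e⟩)])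
end H09
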