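import Mathlib
import Cfsg.Agent.H09.Phan10
/-! Phan amalgams XI: recognising the standard frame in a quotient of `SU₄(q)`, `q ≤ 3`. -/
namespace H09
open Matrix Cfsg H10
open scoped MatrixGroups commutatorElement
variable {F : Type*} [Field F] {q n m : ℕ} {G : Type*} [Group G] [Finite F] [hF : Fact (Nat.card F = q ^ 2)]
local notation "B" => hermForm _ F q

/-- two transvections lifting generators of the image of `u` -/
structure TrLift (g : SU n F q →* G) (u : SU 2 F q →* G) (σ σ' : SU n F q) (r r' : Fin n → F) : Prop where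
  t : IsTr σ r
  t' : IsTr σ' r'
  nc : ¬ Commute σ σ'
  map : (Subgroup.closure {σ, σ'}).map g = u.range
namespace TrLift
variable {g : SU n F q →* G} {u : SU 2 F q →* G} {σ σ' : SU n F q} {r r' : Fin n → F} (h : TrLift g u σ σ' r r')
include h
omit [Finite F] hF in
theorem symm : TrLift g u σ' σ r' r := ⟨h.t', h.t, fun e => h.nc e.symm, Set.pair_comm σ σ' ▸ h.map⟩
omit [Finite F] hF in
theorem ne : σ ≠ 1 := by rintro rfl; exact h.nc (Commute.one_left _)
omit [Finite F] hF in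
theorem o : B r r' ≠ 0 := fun e => h.nc (h.t.comm (h.t'.fix e)).symm
theorem gram : ugram q r r' ≠ 0 := by simp [ugram, h.t.1, h.o, ← hB_cq r r']
omit [Finite F] hF in
theorem mem : g σ ∈ u.range := h.map.le ⟨σ, Subgroup.subset_closure (by simp), rfl⟩
omit [Finite F] hF in
theorem conj (s : SU n F q) : TrLift (g.comp (MulAut.conj s⁻¹).toMonoidHom) u (s * σ * s⁻¹) (s * σ' * s⁻¹) (uac s r) (uac s r') :=
  ⟨h.t.conj s, h.t'.conj s, fun e => h.nc (by simpa [mul_assoc] using e.map (MulAut.conj s⁻¹)), by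
    rw [← h.map, MonoidHom.map_closure, MonoidHom.map_closure]; simp [Set.image_pair, mul_assoc]⟩
theorem range (hu : Function.Injective u) (e : Fin 2 ↪ Fin n) (o : On (Set.range e) r) (o' : On (Set.range e) r') :
    (g.comp (suPad e)).range = u.range := by
  have : Finite (g.comp (suPad e)).range := Finite.of_surjective _ (MonoidHom.rangeRestrict_surjective _)
  refine (Subgroup.eq_of_le_of_card_ge ?_ ?_).symm
  · rw [← h.map, MonoidHom.range_comp, suPad_range]
    exact Subgroup.map_mono ((Subgroup.closure_le _).2 (by rintro _ (rfl | rfl); exacts [h.t.mem o, h.t'.mem o']))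
  · rw [← Nat.card_congr (MonoidHom.ofInjective hu).toEquiv]
    exact Nat.card_le_card_of_surjective _ (g.comp (suPad e)).rangeRestrict_surjective
end TrLift

theorem ex_trLift (hq : q ≤ 3) {g : SU 4 F q →* G} (hg : g.ker ≤ Subgroup.center _) {a : SU 3 F q →* G} (ha : a.range ≤ g.range)
    (e : Fin 2 ↪ Fin 3) (i : Function.Injective (a.comp (suPad e))) : ∃ σ σ' r r', TrLift g (a.comp (suPad e)) σ σ' r r' := by
  obtain ⟨τ, τ', ⟨r, h⟩, ⟨r', h'⟩, nc, top⟩ := su2_two (F := F) hq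
  obtain ⟨σ, ρ, s1, s2⟩ := tr_lift hq hg ha (h.pad e)
  obtain ⟨σ', ρ', s3, s4⟩ := tr_lift hq hg ha (h'.pad e)
  exact ⟨σ, σ', ρ, ρ', s1, s3, fun c => nc (i (by simpa [s2, s4] using (c.map g).eq)), by
    rw [MonoidHom.range_eq_map, ← top, MonoidHom.map_closure, MonoidHom.map_closure]; simp [Set.image_pair, s2, s4]⟩
theorem tr_orth (hn : 2 ≤ n) {g : SU n F q →* G} (hg : g.ker ≤ Subgroup.center _) {σ σ' r r'} (h : IsTr σ r) (h' : IsTr σ' r') (h1 : σ ≠ 1) (h1' : σ' ≠ 1)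
    (c : Commute (g σ) (g σ')) : B r r' = 0 := by
  obtain ⟨p, k, hp, _, -⟩ := exists_q_eq_pow hF.1
  have := Fact.mk hp
  exact h.orth_of_comm h' h1 h1' ((noP_SU hn p).commute (PEl.of_pow (h.pow p)) (QuotientGroup.eq.2 (hg (by simp [MonoidHom.mem_ker, ← c.eq]))))
theorem mem_span_two {r r' d : Fin n → F} (g : ugram q r r' ≠ 0) (h : ∀ v, B v r = 0 → B v r' = 0 → B v d = 0) : ∃ a b : F, d = a • r + b • r' := by
  obtain ⟨a, b, p1, p2⟩ := exists_pr g d
  refine ⟨a, b, sub_eq_zero.1 (hB_nondeg (q := q) fun u => ?_)⟩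
  obtain ⟨a', b', u1, u2⟩ := exists_pr g u
  have := h _ u1 u2
  rw [← sub_add_cancel u (a' • r + b' • r'), hB_add, hB_sub', hB_add', hB_smul', hB_smul', this, u1, u2, hB_add, hB_smul, hB_smul, hB_symm p1, hB_symm p2]
  ring
theorem hB_two {i j : Fin n} (e : i ≠ j) {r : Fin n → F} (h : On {i, j} r) (v) : B v r = v i * r i ^ q + v j * r j ^ q := by
  rw [hermForm, ← Finset.sum_subset (Finset.subset_univ {i, j}) fun k _ hk => by rw [h k (by simpa using hk), cq_zero, mul_zero], Finset.sum_pair e]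
theorem on_of_orth {i j : Fin n} (e : i ≠ j) {r r' v : Fin n → F} (h : On {i, j} r) (h' : On {i, j} r') (g : ugram q r r' ≠ 0) (o : B v r = 0)
    (o' : B v r' = 0) : v i = 0 ∧ v j = 0 := by
  have d : r i ^ q * r' j ^ q - r j ^ q * r' i ^ q ≠ 0 := fun d => g (by
    simp only [ugram, hB_two e h, hB_two e h']; linear_combination (r i * r' j - r j * r' i) * d)
  rw [hB_two e h] at o; rw [hB_two e h'] at o'
  exact ⟨mul_right_cancel₀ d (by linear_combination r' j ^ q * o - r j ^ q * o'), mul_right_cancel₀ d (by linear_combination r i ^ q * o' - r' i ^ q * o)⟩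
theorem TrLift.ex_common (hn : 2 ≤ n) {g : SU n F q →* G} (hg : g.ker ≤ Subgroup.center _) {u : SU 2 F q →* G} {σ σ' r r'} (h : TrLift g u σ σ' r r')
    {A} {t} (ht : t ∈ ubl q F A) (h1 : ∀ y, ∃ z, u z = g t * u y * (g t)⁻¹) (h2 : ¬ ∀ y, Commute (g t) (u y)) :
    ∃ b, b ≠ 0 ∧ On A b ∧ ∃ x y : F, b = x • r + y • r' := by
  obtain ⟨p, k, hp, _, -⟩ := exists_q_eq_pow hF.1
  have := Fact.mk hp
  have k : ∀ {τ ρ}, IsTr τ ρ → τ ≠ 1 → g τ ∈ u.range → ∃ x y : F, uac t ρ = x • r + y • r' := fun {τ ρ} a a1 ⟨y, hy⟩ =>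
    mem_span_two h.gram fun v v1 v2 => by
      obtain ⟨z, hz⟩ := h1 y
      obtain ⟨x, x1, x2⟩ := h.map.ge ⟨z, rfl⟩
      obtain ⟨c, hc⟩ := center_SU hn (hg (show x⁻¹ * (t * τ * t⁻¹) ∈ g.ker by simp [MonoidHom.mem_ker, x2, hz, hy, mul_assoc]))
      have x3 : uac x v = v := Subgroup.closure_induction (p := fun x _ => uac x v = v) (by rintro _ (rfl | rfl); exacts [h.t.fix v1, h.t'.fix v2])
        (uac_one _) (fun _ _ _ _ a b => by rw [uac_mul, b, a]) (fun _ _ a => uac_inv_eq a) x1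
      have e : uac (t * τ * t⁻¹) v = c • v := by rw [← mul_inv_cancel_left x (t * τ * t⁻¹), uac_mul, hc, uac_smul, x3]
      have e' : ∀ k, uac ((t * τ * t⁻¹) ^ k) v = c ^ k • v := fun k => by
        induction k with
        | zero => simp
        | succ k ih => rw [pow_succ, uac_mul, e, uac_smul, ih, smul_smul, pow_succ']
      refine (a.conj t).orth (by simpa using a1) ?_
      have := e' p
      rw [(a.conj t).pow p, uac_one, ← sub_eq_zero, ← one_smul F v, smul_smul, mul_one, ← sub_smul, ← one_pow p, ← sub_pow_char, smul_eq_zero,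
        pow_eq_zero_iff hp.ne_zero, sub_eq_zero] at this
      rcases this with rfl | rfl <;> simp [e]
  have on : ∀ v, On A (uac t v - v) := fun v i e => by simp [ubl_coord ht v e]
  by_cases e : uac t r = r; swap
  · obtain ⟨x, y, hx⟩ := k h.t h.ne h.mem
    exact ⟨_, sub_ne_zero.2 e, on r, x - 1, y, by rw [hx]; module⟩
  by_cases e' : uac t r' = r'; swap
  · obtain ⟨x, y, hx⟩ := k h.t' h.symm.ne h.symm.mem
    exact ⟨_, sub_ne_zero.2 e', on r', x, y - 1, by rw [hx]; module⟩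
  refine (h2 fun y => ?_).elim
  obtain ⟨x, x1, x2⟩ := h.map.ge ⟨y, rfl⟩
  exact x2 ▸ Commute.map (Subgroup.mem_centralizer_singleton_iff.1 ((Subgroup.closure_le (Subgroup.centralizer {t})).2 (by
    rintro _ (rfl | rfl) <;> rw [SetLike.mem_coe, Subgroup.mem_centralizer_singleton_iff]; exacts [(h.t.comm e).symm, (h.t'.comm e').symm]) x1)).symm g

theorem p01_comm {a : SU 3 F q →* G} (ha : a.ker ≤ Subgroup.center _) {θ : F} {t} (h : Commute (a (p01 (udg θ t))) (a (p12 uw))) : θ * θ = 1 := by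
  obtain ⟨c, hc⟩ := center_val (by omega) (ha (show p01 (udg θ t) * p12 uw * (p12 uw * p01 (udg θ t))⁻¹ ∈ a.ker by simp [MonoidHom.mem_ker, h.eq]))
  replace hc : (p01 (udg θ t) * p12 uw).1.1 = c • (p12 uw * p01 (udg θ t)).1.1 :=
    calc _ = (p01 (udg θ t) * p12 uw * (p12 uw * p01 (udg θ t))⁻¹ * (p12 uw * p01 (udg θ t))).1.1 := by rw [inv_mul_cancel_right]
      _ = _ := by rw [SU_mul_val, hc, smul_mul_assoc, Matrix.one_mul]
  rw [SU_mul_val, SU_mul_val, p12_val, p01_val, uw_val, udg_val] at hc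
  have h1 := congrFun (congrFun hc 0) 0
  have h2 := congrFun (congrFun hc 2) 1
  simp [Matrix.mul_apply, Fin.sum_univ_three] at h1 h2
  have e : θ = c := by linear_combination θ * h2 + c * t
  have e' : c = 1 := mul_left_cancel₀ (right_ne_zero_of_mul (t ▸ one_ne_zero : θ ^ q * θ ≠ 0)) (by linear_combination -h1)
  rw [e, e', one_mul]

theorem su4_frame (hq : q ≤ 3) {g : SU 4 F q →* G} (hg : g.ker ≤ Subgroup.center _) {a b : SU 3 F q →* G} (ka : a.ker ≤ Subgroup.center _)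
    (kb : b.ker ≤ Subgroup.center _) (ra : a.range ≤ g.range) (rb : b.range ≤ g.range) (hab : ∀ x, a (p12 x) = b (p01 x))
    (hc : ∀ x y, Commute (a (p01 x)) (b (p12 y))) : ∃ s : SU 4 F q,
      ((g.comp (MulAut.conj s).toMonoidHom).comp (suPad (shift 0 (by omega) : Fin 2 ↪ Fin 4))).range = (a.comp p01).range ∧
      ((g.comp (MulAut.conj s).toMonoidHom).comp (suPad (shift 1 (by omega) : Fin 2 ↪ Fin 4))).range = (a.comp p12).range ∧
      ((g.comp (MulAut.conj s).toMonoidHom).comp (suPad (shift 2 (by omega) : Fin 2 ↪ Fin 4))).range = (b.comp p12).range := by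
  have i0 : Function.Injective (a.comp p01) := inj_pad (by omega) ka _ (k := 2) (by simp [range_shift])
  have i1 : Function.Injective (a.comp p12) := inj_pad (by omega) ka _ (k := 0) (by simp [range_shift])
  have i2 : Function.Injective (b.comp p12) := inj_pad (by omega) kb _ (k := 0) (by simp [range_shift])
  obtain ⟨σ₀, σ₀', r₀, r₀', l0⟩ := ex_trLift hq hg ra _ i0
  obtain ⟨σ₁, σ₁', r₁, r₁', l1⟩ := ex_trLift hq hg ra _ i1
  obtain ⟨σ₂, σ₂', r₂, r₂', l2⟩ := ex_trLift hq hg rb _ i2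
  obtain ⟨s, s1, s2⟩ : ∃ s : SU 4 F q, On {0, 1} (uac s r₀) ∧ On {0, 1} (uac s r₀') := by
    obtain ⟨t, ht⟩ := ex_tr (q := q) l0.symm.o
    obtain ⟨c, c1, c2⟩ := ex_unit (q := q) (v := r₀ + t • r₀') (by
      simpa [hB_add, hB_add', hB_smul, hB_smul', l0.t.1, l0.t'.1, mul_pow, hB_cq, add_comm] using ht)
    obtain ⟨s, -, s1, s2, -⟩ := sp_two (q := q) (A := Set.univ) (i₀ := 0) (i₁ := 1) (i₂ := 2) trivial (by simp) (by simp) (by simp) (on_univ _) (on_univ r₀')
      (on_univ 0) c2 (by rw [ugram_comm, ugram_smul, add_comm, ugram_add]; exact mul_ne_zero c1 l0.symm.gram) (by simp) (by simp)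
    refine ⟨s, ?_, s2⟩
    have := (s1.smul c⁻¹).sub (s2.smul t)
    rwa [uac_smul, smul_smul, inv_mul_cancel₀ (right_ne_zero_of_mul c1), one_smul, uac_add, uac_smul, add_sub_cancel_right] at this
  have kc : ∀ {g : SU 4 F q →* G} (s), g.ker ≤ Subgroup.center _ → (g.comp (MulAut.conj s).toMonoidHom).ker ≤ Subgroup.center _ := fun s hg x hx => by
    simpa [mul_assoc] using (Subgroup.normal_of_characteristic _).conj_mem _ (hg hx) s⁻¹
  replace l0 := l0.conj s
  replace l1 := l1.conj s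
  replace l2 := l2.conj s
  replace hg := kc s⁻¹ hg
  suffices ∃ k : SU 4 F q, On {0, 1} (uac k (uac s r₀)) ∧ On {0, 1} (uac k (uac s r₀')) ∧ On {1, 2} (uac k (uac s r₁)) ∧ On {1, 2} (uac k (uac s r₁')) ∧
      On {2, 3} (uac k (uac s r₂)) ∧ On {2, 3} (uac k (uac s r₂')) by
    obtain ⟨k, k1, k2, k3, k4, k5, k6⟩ := this
    have e : g.comp (MulAut.conj (s⁻¹ * k⁻¹)).toMonoidHom = (g.comp (MulAut.conj s⁻¹).toMonoidHom).comp (MulAut.conj k⁻¹).toMonoidHom := by
      ext; simp [mul_assoc]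
    refine ⟨s⁻¹ * k⁻¹, e ▸ ⟨(l0.conj k).range i0 _ (k1.mono ?_) (k2.mono ?_), (l1.conj k).range i1 _ (k3.mono ?_) (k4.mono ?_),
      (l2.conj k).range i2 _ (k5.mono ?_) (k6.mono ?_)⟩⟩ <;> rw [range_shift] <;> rintro _ (rfl | rfl) <;> simp
  generalize g.comp (MulAut.conj s⁻¹).toMonoidHom = g at *
  generalize uac s r₀ = r₀, uac s r₀' = r₀', uac s r₁ = r₁, uac s r₁' = r₁', uac s r₂ = r₂, uac s r₂' = r₂' at *
  generalize s * σ₀ * s⁻¹ = σ₀, s * σ₀' * s⁻¹ = σ₀', s * σ₁ * s⁻¹ = σ₁, s * σ₁' * s⁻¹ = σ₁', s * σ₂ * s⁻¹ = σ₂, s * σ₂' * s⁻¹ = σ₂' at *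
  have o2 : ∀ {σ σ' r r'}, TrLift g (b.comp p12) σ σ' r r' → On {2, 3} r := fun {σ σ' r r'} l i hi => by
    have k : ∀ {τ τ' ρ ρ'}, TrLift g (a.comp p01) τ τ' ρ ρ' → B r ρ = 0 := fun l' => tr_orth (by omega) hg l.t l'.t l.ne l'.ne (by
      obtain ⟨x, hx⟩ := l.mem; obtain ⟨y, hy⟩ := l'.mem; rw [← hx, ← hy]; exact (hc _ _).symm)
    have := on_of_orth (by simp) s1 s2 l0.gram (k l0) (k l0.symm)
    fin_cases i <;> simp_all
  obtain ⟨θ, t1, t2⟩ := ex_theta (F := F) (q := q)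
  obtain ⟨t₀, h₀⟩ := (l0.range i0 (shift 0 (by omega)) (s1.mono (by rw [range_shift]; rintro _ (rfl | rfl) <;> simp))
    (s2.mono (by rw [range_shift]; rintro _ (rfl | rfl) <;> simp))).ge ⟨udg θ t1, rfl⟩
  obtain ⟨t₂, h₂⟩ := (l2.range i2 (shift 2 (by omega)) ((o2 l2).mono (by rw [range_shift]; rintro _ (rfl | rfl) <;> simp))
    ((o2 l2.symm).mono (by rw [range_shift]; rintro _ (rfl | rfl) <;> simp))).ge ⟨udg θ t1, rfl⟩
  simp only [MonoidHom.comp_apply] at h₀ h₂
  obtain ⟨v, v0, v1, x, y, hv⟩ := l1.ex_common (by omega) hg (suPad_sbl (k := 0) (m := 2) (by omega) t₀) (fun y => by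
    obtain ⟨z, hz⟩ := conj_p12 (p01_diag (x := udg θ t1) (by simp [udg_val])) y
    exact ⟨z, by simp [h₀, hz]⟩) fun h => t2 (p01_comm ka (h₀ ▸ h uw))
  obtain ⟨w, w0, w1, x', y', hw⟩ := l1.ex_common (by omega) hg (suPad_sbl (k := 2) (m := 2) (by omega) t₂) (fun y => by
    obtain ⟨z, hz⟩ := conj_p01 (p12_diag (x := udg θ t1) (by simp [udg_val])) y
    exact ⟨z, by simp [h₂, hz, hab]⟩) fun h => t2 (by
      have := congrFun (congrFun (congrArg (·.1.1) (p12_comm kb (z := udg θ t1) (by simpa [h₂, hab] using h uw))) 0) 0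
      simp [udg_val] at this; simp [this])
  have vw : ∀ c d : F, c • v = d • w → c = 0 ∧ d = 0 := fun c d e => by
    have : c • v = 0 := funext fun i => by
      by_cases h : i.1 < 2
      · rw [e]; simp [w1 i (by simp; omega)]
      · simp [v1 i (by simp; omega)]
    exact ⟨by simpa [v0] using this, by simpa [w0, this] using e.symm⟩
  have dt : x * y' - y * x' ≠ 0 := fun d => by
    have e1 := vw y' y (by rw [hv, hw]; linear_combination (norm := module) d • r₁)
    have e2 := vw x' x (by rw [hv, hw]; linear_combination (norm := module) (-d) • r₁')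
    exact v0 (by simp [hv, e1.2, e2.2])
  have o : B v w = 0 := Finset.sum_eq_zero fun i _ => by
    by_cases h : i.1 < 2
    · simp [w1 i (by simp; omega), cq_zero]
    · simp [v1 i (by simp; omega)]
  have gr : B v v * B w w ≠ 0 := fun e => mul_ne_zero (mul_ne_zero dt (pow_ne_zero q dt)) l1.gram (by
    rw [← e, ← sub_zero (_ * B w w), ← zero_mul (B w v), ← o]
    simp only [hv, hw, ugram, hB_add, hB_add', hB_smul, hB_smul', cq_sub, mul_pow]; ring)
  obtain ⟨β, hβ⟩ := ex_norm (hB_cq (q := q) v v)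
  obtain ⟨γ, hγ⟩ := ex_norm (hB_cq (q := q) w w)
  obtain ⟨k₀, k1, k2⟩ := ubl_trans (q := q) (A := seg 4 0 2) (i := 0) (j := 1) (by simp) (by simp) (by simp) v1 ((on_ev (i := 1) (by simp)).smul β)
    (by simp [hB_smul, hB_smul', ← hβ, mul_comm]) (left_ne_zero_of_mul gr)
  obtain ⟨k₂, k3, k4⟩ := ubl_trans (q := q) (A := seg 4 2 4) (i := 2) (j := 3) (by simp) (by simp) (by simp) w1 ((on_ev (i := 2) (by simp)).smul γ)
    (by simp [hB_smul, hB_smul', ← hγ, mul_comm]) (right_ne_zero_of_mul gr)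
  have e1 : seg 4 0 2 = {0, 1} := by ext i; fin_cases i <;> simp
  have e2 : seg 4 2 4 = {2, 3} := by ext i; fin_cases i <;> simp
  have f0 : ∀ {r : Fin 4 → F}, On (seg 4 0 2) r → uac (k₀ * k₂) r = uac k₀ r := fun h => by
    rw [uac_mul, ubl_fix k3 fun i hi => h i (by simp at hi ⊢; omega)]
  have f2 : ∀ {r : Fin 4 → F}, On (seg 4 2 4) r → uac (k₀ * k₂) r = uac k₂ r := fun h => by
    rw [uac_mul, ubl_fix k1 fun i hi => (h.uac k3) i (by simp at hi ⊢; omega)]
  have f1 : ∀ {r : Fin 4 → F} (c d : F), (x * y' - y * x') • r = c • v + d • w → On {1, 2} (uac (k₀ * k₂) r) := fun {r} c d e => by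
    have := congrArg (fun z => (x * y' - y * x')⁻¹ • uac (k₀ * k₂) z) e
    simp only [uac_add, uac_smul, f0 v1, f2 w1, k2, k4, smul_smul, inv_mul_cancel₀ dt, one_smul] at this
    exact this ▸ (((on_ev (by simp)).smul _).add ((on_ev (by simp)).smul _)).smul _
  rw [← e1] at s1 s2 ⊢; rw [← e2] at o2 ⊢
  exact ⟨k₀ * k₂, f0 s1 ▸ s1.uac k1, f0 s2 ▸ s2.uac k1, f1 y' (-y) (by rw [hv, hw]; module), f1 (-x') x (by rw [hv, hw]; module),
    f2 (o2 l2) ▸ (o2 l2).uac k3, f2 (o2 l2.symm) ▸ (o2 l2.symm).uac k3⟩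
end H09
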