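import Mathlib
import Cfsg.Agent.H09.Phan11
import Cfsg.Agent.H10.SUGen
/-! Phan amalgams XII: weak Phan systems over the fields with 4 and 9 elements. -/
namespace H09
open Matrix Cfsg H10
open scoped MatrixGroups commutatorElement
variable {F : Type*} [Field F] {q n m : ℕ} {G : Type*} [Group G] [Finite F] [hF : Fact (Nat.card F = q ^ 2)]
local notation "B" => hermForm _ F q

theorem normal_SU (hn : 4 ≤ n) (N : Subgroup (SU n F q)) [N.Normal] : N ≤ Subgroup.center _ ∨ N = ⊤ := by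
  have e := SUEquiv hF.1 n
  rcases (stdU_isUnitary hF.1 n).normal_SIsom (by simp; omega) (by simp; omega) (N.comap e.symm.toMonoidHom) with h | h
  · exact .inl fun x hx => Subgroup.mem_center_iff.2 fun y => e.injective (by
      rw [map_mul, map_mul]; exact Subgroup.mem_center_iff.1 (h (show e x ∈ _ by simpa using hx)) _)
  · exact .inr (eq_top_iff.2 fun x _ => by simpa using (h.ge (Subgroup.mem_top (e x)) :))
theorem ker_comp {Γ H : Type*} [Group Γ] [Group H] {g : Γ →* G} (hg : g.ker ≤ Subgroup.center _) {e : H →* Γ} (he : Function.Injective e) :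
    (g.comp e).ker ≤ Subgroup.center _ := fun x hx => Subgroup.mem_center_iff.2 fun y => he (by
  rw [map_mul, map_mul]; exact Subgroup.mem_center_iff.1 (hg hx) _)
theorem M_normal (hq : q ≤ 3) : (p01.range ⊔ p12.range : Subgroup (SU 3 F q)).Normal := by
  obtain ⟨τ, τ', ⟨r, h⟩, ⟨r', h'⟩, -, top⟩ := su2_two (F := F) hq
  have k : ∀ e : Fin 2 ↪ Fin 3, (suPad e).range ≤ Subgroup.normalClosure {τ : SU 3 F q | ∃ r, IsTr τ r} := fun e => by
    rw [MonoidHom.range_eq_map, ← top, MonoidHom.map_closure, Subgroup.closure_le]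
    rintro _ ⟨_, rfl | rfl, rfl⟩ <;> apply Subgroup.subset_normalClosure
    exacts [⟨_, h.pad e⟩, ⟨_, h'.pad e⟩]
  rw [show (p01.range ⊔ p12.range : Subgroup (SU 3 F q)) = _ from (sup_le (k _) (k _)).antisymm ((Subgroup.closure_le _).2 fun x hx => by
    obtain ⟨y, ⟨r, hr⟩, c⟩ := Group.mem_conjugatesOfSet_iff.1 hx
    obtain ⟨d, rfl⟩ := isConj_iff.1 c
    exact tr_mem (hr.conj d))]
  infer_instance
theorem M_top (hq : 3 ≤ q) (x : SU 3 F q) : x ∈ p01.range ⊔ p12.range :=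
  sbl_gen2 hq (a := 0) (b := 3) (by omega) le_rfl (fun j _ hj y hy => by
    obtain rfl | rfl : j = 0 ∨ j = 1 := by omega
    exacts [Subgroup.mem_sup_left ((sbl_iff _).1 hy), Subgroup.mem_sup_right ((sbl_iff _).1 hy)]) (by rw [sbl_top]; trivial)
theorem fix_pad {e : Fin m ↪ Fin n} {g : SU m F q} {v} (h : uac (suPad e g) v = v) : uac g (v ∘ e) = v ∘ e := funext fun i => by
  have := congrFun h (e i)
  rw [uac_suPad, Pi.add_apply, incl_apply] at this
  simpa [sub_eq_zero] using this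
theorem range_le_two (hq : q = 2) {w : SU n F q →* G} (hw : Function.Injective w) {a : SU 3 F q →* G} (ha : a.range ≤ w.range) (e : Fin 3 ↪ Fin n) {k}
    (hk : ∀ j, j ∉ Set.range e ↔ j = k) (h0 : ∀ x, a (p01 x) = w (suPad e (p01 x))) (h1 : ∀ x, a (p12 x) = w (suPad e (p12 x))) :
    a.range ≤ (w.comp (suPad e)).range := by
  rintro _ ⟨x, rfl⟩
  refine SU_ind (H := (w.comp (suPad e)).range.comap a) le_rfl (fun x r v s hx => ?_) x
  obtain ⟨y, hy⟩ := ha ⟨x, rfl⟩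
  have := charP_q (F := F) (q := q) (hq ▸ Nat.prime_two)
  have y4 : y ^ q ^ 2 = 1 := hw (by rw [map_pow, hy, ← map_pow, hx.pow_sq q, map_one, map_one])
  have k1 : ∀ z ∈ p01.range ⊔ p12.range, uac z (uac y (ev k) ∘ e) = uac y (ev k) ∘ e := fun z hz => fix_pad (by
    have h2 := eq_on_M (c := w.comp (suPad e)) h0 h1 hz
    have h3 := eq_on_M (c := w.comp (suPad e)) h0 h1 ((M_normal (by omega)).conj_mem' _ hz x)
    have : suPad e z * y = y * suPad e (x⁻¹ * z * x) := hw (by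
      rw [map_mul, map_mul, ← MonoidHom.comp_apply, ← MonoidHom.comp_apply, ← h2, ← h3, hy]; simp [mul_assoc])
    rw [← uac_mul, this, uac_mul, show uac (suPad e (x⁻¹ * z * x)) (ev k) = ev k from
      (suPad_range e).le ⟨_, rfl⟩ k ((hk k).2 rfl)])
  obtain ⟨θ, t1, t2⟩ := ex_theta (F := F) (q := q)
  have t3 : θ - 1 ≠ 0 := sub_ne_zero.2 (by rintro rfl; simp at t2)
  have t4 : θ ^ q - 1 ≠ 0 := sub_ne_zero.2 fun h => t3 (by rw [h] at t1; linear_combination t1)
  have a0 := congrFun (k1 _ (Subgroup.mem_sup_left ⟨udg θ t1, rfl⟩)) 0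
  have a1 := congrFun (k1 _ (Subgroup.mem_sup_left ⟨udg θ t1, rfl⟩)) 1
  have a2 := congrFun (k1 _ (Subgroup.mem_sup_right ⟨udg θ t1, rfl⟩)) 2
  obtain ⟨c, hc⟩ : ∃ c : F, uac y (ev k) = c • ev k := ⟨uac y (ev k) k, funext fun j => by
    by_cases h : j = k
    · simp [h]
    obtain ⟨i, rfl⟩ := not_not.1 (mt (hk j).1 h)
    generalize uac y (ev k) = u at *
    simp [uac, p01_val, p12_val, udg_val, mulVec, dotProduct, Fin.sum_univ_three] at a0 a1 a2
    rw [Pi.smul_apply, show ev k (e i) = (0 : F) from Pi.single_eq_of_ne h _, smul_zero]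
    fin_cases i
    exacts [mul_left_cancel₀ (b := u (e 0)) t3 (by linear_combination a0), mul_left_cancel₀ (b := u (e 1)) t4 (by linear_combination a1),
      mul_left_cancel₀ (b := u (e 2)) t4 (by linear_combination a2)]⟩
  have c1 : c * c ^ q = 1 := by simpa [hc, hB_smul, hB_smul', mul_comm] using hB_uac y (ev k) (ev k)
  have e' : ∀ i, uac (y ^ i) (ev k) = c ^ i • ev k := fun i => by
    induction i with
    | zero => simp
    | succ i ih => rw [pow_succ, uac_mul, hc, uac_smul, ih, smul_smul, pow_succ']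
  have c2 := congrFun (e' (q ^ 2)) k
  rw [y4] at c2
  simp [hq] at c1 c2
  obtain ⟨z, rfl⟩ := (suPad_range e).ge (show y ∈ _ from fun j hj => by
    rw [(hk j).1 hj, hc, show c = 1 by linear_combination (-c) * c1 - c2, one_smul])
  exact ⟨z, hy⟩

theorem center_42 (hq : q = 2) {z : SU 4 F q} (h : z ∈ Subgroup.center _) : z = 1 := by
  obtain ⟨c, hc⟩ := center_val (by omega) h
  have c1 := hB_uac z (ev 0) (ev 0)
  have c2 := z.1.2
  rw [uac, hc, smul_mulVec, one_mulVec, hB_smul, hB_smul', hB_ev] at c1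
  simp [hc, hq] at c1 c2
  exact Subtype.ext (Subtype.ext (by rw [hc, show c = 1 by linear_combination (-c) * c1 + c2, one_smul]; rfl))

theorem su4_ext (hq : q ≤ 3) {g : SU 4 F q →* G} (hg : g.ker ≤ Subgroup.center _) {a b : SU 3 F q →* G} (ka : a.ker ≤ Subgroup.center _)
    (kb : b.ker ≤ Subgroup.center _) (ra : a.range ≤ g.range) (rb : b.range ≤ g.range) (hab : ∀ x, a (p12 x) = b (p01 x))
    (hc : ∀ x y, Commute (a (p01 x)) (b (p12 y))) : ∃ w : SU 4 F q →* G,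
      (∀ x, w (suPad (shift 0 (by omega)) x) = a x) ∧ ∀ x, w (suPad (shift 1 (by omega)) x) = b x := by
  obtain ⟨s, r0, r1, r2⟩ := su4_frame hq hg ka kb ra rb hab hc
  have hr : g.range ≤ (g.comp (MulAut.conj s).toMonoidHom).range := by rintro _ ⟨x, rfl⟩; exact ⟨s⁻¹ * x * s, by simp [mul_assoc]⟩
  replace hg := ker_comp hg (e := (MulAut.conj s).toMonoidHom) (MulAut.conj s).injective
  replace ra := ra.trans hr
  replace rb := rb.trans hr
  generalize g.comp (MulAut.conj s).toMonoidHom = g at *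
  obtain ⟨α, h0⟩ := ex_aut (inj_pad (by omega) ka _ (k := 2) (by simp [range_shift])) (inj_pad (by omega) hg _ (k := 3) (by simp [range_shift])) r0.symm
  obtain ⟨β, h1⟩ := ex_aut (inj_pad (by omega) ka _ (k := 0) (by simp [range_shift])) (inj_pad (by omega) hg _ (k := 3) (by simp [range_shift])) r1.symm
  obtain ⟨γ, h2⟩ := ex_aut (inj_pad (by omega) kb _ (k := 0) (by simp [range_shift])) (inj_pad (by omega) hg _ (k := 0) (by simp [range_shift])) r2.symm
  simp only [MonoidHom.comp_apply] at h0 h1 h2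
  obtain ⟨σ, μ, ν, m1, m2, a0, a1⟩ := pair_form (a := a) (α := α) (β := β) (inj_pad (by omega) hg (shift 0 (by omega)) (k := 3) (by simp [range_shift]))
    (fun x => by rw [← h0, MonoidHom.comp_apply, suPad_shift]) fun x => by rw [← h1, MonoidHom.comp_apply, suPad_shift]
  obtain ⟨σ', _, ξ, -, m3, b0, a2⟩ := pair_form (a := b) (α := β) (β := γ) (inj_pad (by omega) hg (shift 1 (by omega)) (k := 0) (by simp [range_shift]))
    (fun x => by rw [← hab, ← h1, MonoidHom.comp_apply, suPad_shift]) fun x => by rw [← h2, MonoidHom.comp_apply, suPad_shift]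
  obtain rfl : σ = σ' := ringAut_eq_of_norm (q := q) fun θ t => by simpa [udg_val] using (a1 (udg θ t)).1.symm.trans (b0 (udg θ t)).1
  have hd : ∀ i, ![μ * ν * ξ, ν * ξ, ξ, 1] i ^ q * ![μ * ν * ξ, ν * ξ, ξ, 1] i = 1 := fun i => by
    fin_cases i <;> simp [mul_pow, m3]
    exacts [by linear_combination ν ^ q * ν * ξ ^ q * ξ * m1 + ξ ^ q * ξ * m2 + m3, by linear_combination ξ ^ q * ξ * m2 + m3]
  obtain ⟨w, kw, rw', w0, w1, w2⟩ : ∃ w : SU 4 F q →* G, w.ker ≤ Subgroup.center _ ∧ g.range ≤ w.range ∧ (∀ x, w (suPad (shift 0 (by omega)) x) = a (p01 x)) ∧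
      (∀ x, w (suPad (shift 1 (by omega)) x) = a (p12 x)) ∧ ∀ x, w (suPad (shift 2 (by omega)) x) = b (p12 x) := by
    refine ⟨g.comp (suDF _ hd σ), ker_comp hg (suDF_inj _ _ _), ?_, fun x => ?_, fun x => ?_, fun x => ?_⟩
    · rintro _ ⟨x, rfl⟩
      obtain ⟨y, rfl⟩ := Finite.surjective_of_injective (suDF_inj (q := q) _ hd σ) x
      exact ⟨y, rfl⟩
    · rw [← h0, MonoidHom.comp_apply, suDF_pad _ _ _ _ (a0 x).1 ((a0 x).2.trans ?_)]
      change _ = μ * ν * ξ * (ν * ξ) ^ q * _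
      rw [mul_pow]; linear_combination (-μ * σ (x.1.1 0 1)) * (ξ ^ q * ξ * m2 + m3)
    · rw [← h1, MonoidHom.comp_apply, suDF_pad _ _ _ _ (a1 x).1 ((a1 x).2.trans ?_)]
      change _ = ν * ξ * ξ ^ q * _
      linear_combination (-ν * σ (x.1.1 0 1)) * m3
    · rw [← h2, MonoidHom.comp_apply, suDF_pad _ _ _ _ (a2 x).1 ((a2 x).2.trans ?_)]
      change _ = ξ * 1 ^ q * _
      simp
  have k : ∀ {c : SU 3 F q →* G} (e : Fin 3 ↪ Fin 4) (k), c.range ≤ g.range → (∀ j, j ∉ Set.range e ↔ j = k) → (∀ x, c (p01 x) = w (suPad e (p01 x))) →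
      (∀ x, c (p12 x) = w (suPad e (p12 x))) → ∀ x, w (suPad e x) = c x := fun {c} e k rc hk e0 e1 x => by
    by_cases h3 : 3 ≤ q
    · exact (eq_on_M (c := w.comp (suPad e)) e0 e1 (M_top h3 x)).symm
    have hq : q = 2 := by have := Finite.one_lt_card (α := F); rw [hF.1] at this; interval_cases q <;> simp_all
    exact (hom_fix (inj_pad (by omega) kw e ((hk k).2 rfl)) (range_le_two hq ((injective_iff_map_eq_one _).2 fun z hz => center_42 hq (kw hz))
      (rc.trans rw') e hk e0 e1) e0 e1 x).symm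
  exact ⟨w, k _ 3 ra (fun j => by rw [range_shift]; fin_cases j <;> simp) (fun x => by rw [suPad_shift, ← w0]) fun x => by rw [suPad_shift, ← w1],
    k _ 0 rb (fun j => by rw [range_shift]; fin_cases j <;> simp) (fun x => by rw [suPad_shift, ← hab, ← w1]) fun x => by rw [suPad_shift, ← w2]⟩

theorem phan4' (hn : 4 ≤ n) (φ : ℕ → SU 3 F q →* G) (w : ℕ → SU 4 F q →* G)
    (h1 : ∀ i, i + 4 ≤ n → ∀ x, w i (suPad (shift 0 (by omega)) x) = φ i x) (h2 : ∀ i, i + 4 ≤ n → ∀ x, w i (suPad (shift 1 (by omega)) x) = φ (i + 1) x)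
    (c1 : ∀ i j, i + 2 ≤ j → j + 3 ≤ n → ∀ x y, Commute (φ i (p01 x)) (φ j y)) (c2 : ∀ i j, i + 3 ≤ j → j + 3 ≤ n → ∀ x y, Commute (φ i x) (φ j y))
    (c3 : ∀ i j, i + 2 ≤ j → j + 3 ≤ n → ∀ x y, Commute (φ i x) (φ j (p12 y))) :
    ∃ f : SU n F q →* G, ∀ i (h : i + 4 ≤ n) x, f (suPad (shift i h) x) = w i x := by
  obtain ⟨f, hf⟩ := phan4 hn (fun i g => if h : i + 3 ≤ n then φ i (Function.invFun (suPad (shift i h)) g) else 1)
    (fun i g => if h : i + 4 ≤ n then w i (Function.invFun (suPad (shift i h)) g) else 1)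
    (fun i h => by simp only [dif_pos h]; rw [sbl, ← range_shift h, ← suPad_range]; exact homOn_inv (suPad_inj _) _)
    (fun i h g hg => by
      obtain ⟨x, rfl⟩ := (sbl_iff (by omega)).1 hg
      rw [dif_pos h, dif_pos (by omega), Function.leftInverse_invFun (suPad_inj _), ← h1 i h,
        ← Function.leftInverse_invFun (suPad_inj (shift i h)) (suPad (shift 0 (by omega)) x), suPad_shift h]; rfl)
    (fun i h g hg => by
      obtain ⟨x, rfl⟩ := (sbl_iff (k := i + 1) (m := 3) h).1 hg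
      rw [dif_pos h, dif_pos h, Function.leftInverse_invFun (suPad_inj _), ← h2 i h,
        ← Function.leftInverse_invFun (suPad_inj (shift i h)) (suPad (shift 1 (by omega)) x), suPad_shift h])
    (fun i j e e' x hx y _ => by
      obtain ⟨x, rfl⟩ := (sbl_iff (by omega)).1 hx
      rw [dif_pos e', dif_pos (by omega : i + 3 ≤ n), show suPad (shift i _) x = suPad (shift i (by omega : i + 3 ≤ n)) (p01 x) from (suPad_shift (k := i) (l := 0) _ _ _).symm,
        Function.leftInverse_invFun (suPad_inj _)]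
      exact c1 i j e e' _ _)
    (fun i j e e' x _ y _ => by rw [dif_pos e', dif_pos (by omega)]; exact c2 i j e e' _ _)
    fun i j e e' x _ y hy => by
      obtain ⟨y, rfl⟩ := (sbl_iff (k := j + 1) (m := 2) e').1 hy
      rw [dif_pos e', dif_pos (by omega : i + 3 ≤ n), ← suPad_shift (l := 1) (r := 2) e' le_rfl, Function.leftInverse_invFun (suPad_inj _)]
      exact c3 i j e e' _ _
  exact ⟨f, fun i h x => by rw [hf i h _ (suPad_sbl h x), dif_pos h, Function.leftInverse_invFun (suPad_inj _)]⟩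

theorem phan_small (hq : q ≤ 3) (hn : 3 ≤ n) (U : Fin n → Subgroup G) (V : Fin n → Fin n → Subgroup G)
    (h1 : ∀ i j : Fin n, (i : ℕ) + 2 ≤ j → ∀ x ∈ U i, ∀ y ∈ U j, x * y = y * x)
    (h2 : ∀ i j : Fin n, (i : ℕ) + 1 = j → IsStandardUnitaryPair (V i j) (U i) (U j) F q)
    (hgen : (⨆ i, U i) ⊔ (⨆ (i : Fin n) (j : Fin n) (_ : (i : ℕ) + 1 = j), V i j) = ⊤)
    (h4 : ∀ i j k : Fin n, (i : ℕ) + 1 = j → (j : ℕ) + 1 = k → ∃ g : SU 4 F q →* ↥(V i j ⊔ V j k), Function.Surjective g)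
    (h5 : q < 3 → ∀ i j k : Fin n, (j : ℕ) + 1 = k → ((i : ℕ) + 2 ≤ j ∨ (k : ℕ) + 2 ≤ i) → ∀ x ∈ U i, ∀ y ∈ V j k, x * y = y * x)
    (h6 : q < 3 → ∀ i j k l : Fin n, (i : ℕ) + 1 = j → (k : ℕ) + 1 = l → (j : ℕ) + 2 ≤ k → ∀ x ∈ V i j, ∀ y ∈ V k l, x * y = y * x) :
    ∃ f : SU (n + 1) F q →* G, Function.Surjective f := by
  obtain ⟨ψ, U', e, h⟩ := std_seq U V h2
  have hc : ∀ i j, i + 2 ≤ j → j + 2 ≤ n + 1 → ∀ x ∈ U' i, ∀ y ∈ U' j, Commute x y :=
    fun i j a b x hx y hy => h1 ⟨i, by omega⟩ ⟨j, by omega⟩ a x ((e ⟨i, _⟩).le hx) y ((e ⟨j, _⟩).le hy)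
  obtain ⟨φ, p, hφ⟩ := weak_seq (n := n + 1) ψ U' (fun i e => (h i e).1) (fun i e => (h i e).2.2.1) (fun i e => (h i e).2.2.2) hc
  replace h : ∀ i (h : i + 3 ≤ n + 1), (φ i).ker ≤ Subgroup.center _ ∧ (φ i).range = V ⟨i, by omega⟩ ⟨i + 1, by omega⟩ ∧
      ((φ i).comp p01).range = U' i ∧ ((φ i).comp p12).range = U' (i + 1) := fun i a => by
    obtain ⟨Φ, p1, p2⟩ := p i
    rw [p2, range_aut p1, range_aut p1, MonoidHom.range_comp, MonoidHom.range_eq_top.2 Φ.surjective, ← MonoidHom.range_eq_map]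
    exact ⟨ker_comp (h i a).1 Φ.injective, (h i a).2⟩
  have u0 : ∀ i, i + 3 ≤ n + 1 → ∀ x, φ i (p01 x) ∈ U' i := fun i a x => (h i a).2.2.1.le ⟨x, rfl⟩
  have u1 : ∀ i, i + 3 ≤ n + 1 → ∀ x, φ i (p12 x) ∈ U' (i + 1) := fun i a x => (h i a).2.2.2.le ⟨x, rfl⟩
  have : ∀ i, ∃ w : SU 4 F q →* G, i + 4 ≤ n + 1 → (∀ x, w (suPad (shift 0 (by omega)) x) = φ i x) ∧ ∀ x, w (suPad (shift 1 (by omega)) x) = φ (i + 1) x := fun i => by
    by_cases a : i + 4 ≤ n + 1; swap
    · exact ⟨1, fun e => (a e).elim⟩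
    obtain ⟨g, hg⟩ := h4 ⟨i, by omega⟩ ⟨i + 1, by omega⟩ ⟨i + 2, by omega⟩ rfl rfl
    have r := (MonoidHom.range_comp (Subgroup.subtype _) g).trans (by
      rw [MonoidHom.range_eq_top.2 hg, ← MonoidHom.range_eq_map, Subgroup.range_subtype])
    have ra : (φ i).range ≤ _ := (h i (by omega)).2.1.le.trans (le_sup_left.trans r.ge)
    refine (su4_ext hq ((normal_SU le_rfl _).resolve_right fun t => ?_) (h i (by omega)).1 (h (i + 1) a).1 ra
      ((h (i + 1) a).2.1.le.trans (le_sup_right.trans r.ge)) (hφ i a) fun x y => hc _ _ (by omega) (by omega) _ (u0 i (by omega) x) _ (u1 _ a y)).imp fun _ e _ => e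
    obtain ⟨y, hy⟩ := ra ⟨p01 uw, rfl⟩
    have := inj_pad (by omega) (h i (by omega)).1 (shift 0 (by omega) : Fin 2 ↪ Fin 3) (k := 2) (by simp [range_shift]) (a₁ := uw) (a₂ := 1) (by
      rw [map_one, MonoidHom.comp_apply, ← hy]; exact t.ge trivial)
    simpa [uw_val] using congrFun (congrFun (congrArg (·.1.1) this) 0) 0
  choose w hw using this
  have k : 3 ≤ q → ∀ j, j + 3 ≤ n + 1 → ∀ z, (∀ y ∈ U' j, Commute z y) → (∀ y ∈ U' (j + 1), Commute z y) → ∀ y, Commute z (φ j y) := fun a j b z z0 z1 y =>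
    Subgroup.mem_centralizer_singleton_iff.1 ((sup_le (by rintro _ ⟨x, rfl⟩; exact Subgroup.mem_centralizer_singleton_iff.2 (z0 _ (u0 j b x)).symm)
      (by rintro _ ⟨x, rfl⟩; exact Subgroup.mem_centralizer_singleton_iff.2 (z1 _ (u1 j b x)).symm) : _ ≤ (Subgroup.centralizer {z}).comap (φ j)) (M_top a y)) |>.symm
  have c : ∀ i j, i + 2 ≤ n + 1 → j + 3 ≤ n + 1 → i + 2 ≤ j ∨ j + 3 ≤ i → ∀ x ∈ U' i, ∀ y, Commute x (φ j y) := fun i j a b d x hx y => by
    by_cases h3 : 3 ≤ q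
    · refine k h3 j b x (fun y hy => ?_) (fun y hy => ?_) y <;> rcases d with d | d
      exacts [hc _ _ d (by omega) _ hx _ hy, (hc _ _ (by omega) a _ hy _ hx).symm, hc _ _ (by omega) b _ hx _ hy, (hc _ _ d a _ hy _ hx).symm]
    · exact h5 (by omega) ⟨i, by omega⟩ ⟨j, by omega⟩ ⟨j + 1, by omega⟩ rfl d x ((e ⟨i, _⟩).le hx) _ ((h j b).2.1.le ⟨y, rfl⟩)
  obtain ⟨f, hf⟩ := phan4' (n := n + 1) (by omega) φ w (fun i a => (hw i a).1) (fun i a => (hw i a).2)
    (fun i j a b x y => c i j (by omega) b (.inl a) _ (u0 i (by omega) x) y) (fun i j a b x y => by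
      by_cases h3 : 3 ≤ q
      · exact (k h3 i (by omega) _ (fun z hz => (c i j (by omega) b (by omega) z hz y).symm) (fun z hz => (c _ j (by omega) b (by omega) z hz y).symm) x).symm
      · exact h6 (by omega) ⟨i, by omega⟩ ⟨i + 1, by omega⟩ ⟨j, by omega⟩ ⟨j + 1, by omega⟩ rfl rfl a _ ((h i (by omega)).2.1.le ⟨x, rfl⟩) _ ((h j b).2.1.le ⟨y, rfl⟩))
    fun i j a b x y => (c (j + 1) i b (by omega) (by omega) _ (u1 j b y) x).symm
  have hf' : ∀ i, i + 3 ≤ n + 1 → (φ i).range ≤ f.range := by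
    rintro (_ | i) a _ ⟨x, rfl⟩
    exacts [⟨_, (hf 0 (by omega) _).trans ((hw 0 (by omega)).1 x)⟩, ⟨_, (hf i a _).trans ((hw i a).2 x)⟩]
  refine ⟨f, MonoidHom.range_eq_top.1 (top_le_iff.1 (hgen ▸ sup_le (iSup_le fun i => ?_) (iSup₂_le fun i j => iSup_le fun a => ?_)))⟩
  · rw [← e]
    rcases i with ⟨_ | i, hi⟩
    · exact (h 0 (by omega)).2.2.1.ge.trans fun _ ⟨x, hx⟩ => hf' 0 (by omega) ⟨_, hx⟩
    · exact (h i (by omega)).2.2.2.ge.trans fun _ ⟨x, hx⟩ => hf' i (by omega) ⟨_, hx⟩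
  · obtain ⟨j, hj⟩ := j
    obtain rfl : i + 1 = j := a
    exact (h i (by omega)).2.1.ge.trans (hf' i (by omega))
end H09
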