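import Mathlib
import Cfsg.Agent.H09.SpM
import Cfsg.Agent.H10.Small

/-! # Bounded presentations of `Sp₄(q)` -/

namespace H09

open Matrix Cfsg Cfsg.Lie H11 H11.StSys L.RD Sum
open scoped MatrixGroups commutatorElement

local notation "tv" => Matrix.SpecialLinearGroup.transvection
local notation "e₀" => Pi.single (0 : Fin 2) 1

variable {K : Type*} [Field K] {n : ℕ} {J : Type*} [Group J]

/-- determinant of two vectors -/
def dt (a b : Fin 2 → K) : K := a 0 * b 1 - a 1 * b 0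

theorem SL2_pair {b b' : Fin 2 → K} {κ : K} (hκ : κ ≠ 0) (h : dt b b' = κ) :
    ∃ δ : SL(2, K), δ.1 *ᵥ e₀ = b ∧ δ.1 *ᵥ Pi.single 1 κ = b' :=
  ⟨⟨!![b 0, b' 0 / κ; b 1, b' 1 / κ], by rw [det_fin_two_of]; field_simp; rw [← h, dt]; ring⟩,
    by ext i; fin_cases i <;> simp, by ext i; fin_cases i <;> simp [hκ]⟩

theorem exists_dt {a : Fin 2 → K} (h : a ≠ 0) : ∃ d, dt a d ≠ 0 ∧ ∀ c, dt a c = 0 → c = 0 ∨ dt c d ≠ 0 := by
  by_cases h0 : a 0 = 0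
  · have h1 : a 1 ≠ 0 := fun e => h (by ext i; fin_cases i <;> simp [*])
    exact ⟨![1, 0], by simpa [dt], fun c e => or_iff_not_imp_right.2 fun e' => by ext i; fin_cases i <;> simp_all [dt]⟩
  · exact ⟨![0, 1], by simpa [dt], fun c e => or_iff_not_imp_right.2 fun e' => by ext i; fin_cases i <;> simp_all [dt]⟩

theorem SL2_trans {a : Fin 2 → K} (h : a ≠ 0) : ∃ δ : SL(2, K), δ.1 *ᵥ e₀ = a :=
  let ⟨_, h, _⟩ := exists_dt h; let ⟨δ, h, _⟩ := SL2_pair h rfl; ⟨δ, h⟩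

theorem SL_vec_mul {ι : Type*} [Fintype ι] [DecidableEq ι] (g h : SpecialLinearGroup ι K) (a : ι → K) :
    (g * h).1 *ᵥ a = g.1 *ᵥ h.1 *ᵥ a := (mulVec_mulVec _ _ _).symm

theorem SL_vec_inv {ι : Type*} [Fintype ι] [DecidableEq ι] (g : SpecialLinearGroup ι K) (a : ι → K) : g⁻¹.1 *ᵥ g.1 *ᵥ a = a := by
  rw [← SL_vec_mul, inv_mul_cancel]; exact one_mulVec _

theorem SL_vec_zero {ι : Type*} [Fintype ι] [DecidableEq ι] (g : SpecialLinearGroup ι K) {a : ι → K} : g.1 *ᵥ a = 0 ↔ a = 0 :=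
  ⟨fun h => by rw [← SL_vec_inv g a, h, mulVec_zero], fun h => by simp [h]⟩

theorem heis {T : (Fin 2 → K) → J} {Z : Subgroup J} (h0 : T 0 = 1) (hc : ∀ z ∈ Z, ∀ b, Commute z (T b))
    (h : ∀ b b', dt b b' ≠ 0 → ∃ z ∈ Z, T b * T b' = T (b + b') * z) (b b') : ∃ z ∈ Z, T b * T b' = T (b + b') * z := by
  have h1 : ∀ b b', b = 0 ∨ dt b b' ≠ 0 → ∃ z ∈ Z, T b * T b' = T (b + b') * z := by
    rintro b b' (rfl | e); exacts [⟨1, one_mem _, by simp [h0]⟩, h b b' e]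
  by_cases e : b = 0 ∨ dt b b' ≠ 0
  · exact h1 _ _ e
  push Not at e
  obtain ⟨d, d1, d2⟩ := exists_dt e.1
  obtain ⟨z1, a1, e1⟩ := h1 b' d (d2 _ e.2)
  obtain ⟨z2, a2, e2⟩ := h b (b' + d) fun p => d1 (by have := e.2; simp only [dt, Pi.add_apply] at *; linear_combination p - this)
  obtain ⟨z3, a3, e3⟩ := h1 (b + b') d (d2 _ (by have := e.2; simp only [dt, Pi.add_apply] at *; linear_combination this))
  have a4 := mul_mem (mul_mem (inv_mem a3) a2) a1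
  refine ⟨_, a4, ?_⟩
  rw [← mul_left_inj (T d), mul_assoc, e1, ← mul_assoc, e2, ← add_assoc, mul_assoc (T (b + b')), (hc _ a4 d).eq, ← mul_assoc, e3]
  group

theorem pair_ind (a b : Fin 2 → K) : (a = 0 ∨ b = 0) ∨ ∃ γ : SL(2, K) × SL(2, K), γ.1.1 *ᵥ e₀ = a ∧ γ.2.1 *ᵥ e₀ = b :=
  or_iff_not_imp_left.2 fun h => let ⟨x, p⟩ := SL2_trans (not_or.1 h).1; let ⟨y, q⟩ := SL2_trans (not_or.1 h).2; ⟨(x, y), p, q⟩

theorem exists_T (F : SL(2, K) × SL(2, K) →* J) (v : J)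
    (h : ∀ γ : SL(2, K) × SL(2, K), γ.1.1 *ᵥ e₀ = e₀ → γ.2.1 *ᵥ e₀ = e₀ → Commute (F γ) v) :
    ∃ T : (Fin 2 → K) → (Fin 2 → K) → J, (∀ a b, a = 0 ∨ b = 0 → T a b = 1) ∧ T e₀ e₀ = v ∧
      ∀ γ a b, F γ * T a b * (F γ)⁻¹ = T (γ.1.1 *ᵥ a) (γ.2.1 *ᵥ b) := by
  classical
  let _ : MulAction (SL(2, K) × SL(2, K)) ((Fin 2 → K) × (Fin 2 → K)) :=
    { smul γ x := (γ.1.1 *ᵥ x.1, γ.2.1 *ᵥ x.2)
      one_smul _ := Prod.ext (one_mulVec _) (one_mulVec _)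
      mul_smul a b x := Prod.ext (SL_vec_mul a.1 b.1 x.1) (SL_vec_mul a.2 b.2 x.2) }
  obtain ⟨A, hA⟩ := exists_transport F ((e₀, e₀) : (Fin 2 → K) × (Fin 2 → K)) v
    fun γ e => h γ (congrArg Prod.fst e) (congrArg Prod.snd e)
  refine ⟨fun a b => if a = 0 ∨ b = 0 then 1 else A (a, b), fun a b e => if_pos e, by simpa using hA 1, fun γ a b => ?_⟩
  simp only [SL_vec_zero]
  split_ifs with e
  · simp
  obtain ⟨δ, rfl, rfl⟩ := (pair_ind a b).resolve_left e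
  have h1 := hA (γ * δ)
  rw [mul_smul] at h1
  exact (congrArg (fun x => F γ * x * (F γ)⁻¹) (hA δ)).trans (Eq.trans (by simp [mul_assoc]) h1.symm)

theorem lam_vec (i : Fin n) (A : SL(2, K)) (a : Fin 2 → K) : (lam i A).1 *ᵥ incl K (pl i) *ᵥ a = incl K (pl i) *ᵥ A.1 *ᵥ a := by
  rw [mulVec_mulVec, mulVec_mulVec, lam_coe, padM_incl]

theorem lam_vec' {i j : Fin n} (h : i ≠ j) (A : SL(2, K)) (a : Fin 2 → K) : (lam i A).1 *ᵥ incl K (pl j) *ᵥ a = incl K (pl j) *ᵥ a := by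
  rw [mulVec_mulVec, lam_coe, (padM_incl' _ _ (pl_ne h) _).2]

theorem lam_PM {i j : Fin n} (h : i ≠ j) (γ δ : SL(2, K)) {x : symplecticGroup (Fin n) K} {a b}
    (e : x.1 = PM (incl K (pl i) *ᵥ a) (incl K (pl j) *ᵥ b)) : (lam i γ * lam j δ * x * (lam i γ * lam j δ)⁻¹).1 =
      PM (incl K (pl i) *ᵥ γ.1 *ᵥ a) (incl K (pl j) *ᵥ δ.1 *ᵥ b) := by
  rw [PM_conj _ e, Submonoid.coe_mul, ← mulVec_mulVec, ← mulVec_mulVec, lam_vec' h.symm, lam_vec, lam_vec, lam_vec' h]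

theorem Sp_gen (h : 1 ≤ n ∨ ∃ a : K, a ≠ 0 ∧ a ≠ 1) {M : Subgroup (symplecticGroup (Fin (n + 2)) K)} (h1 : ∀ i A, lam i A ∈ M)
    (h2 : ∀ i j : Fin (n + 2), j.val = i + 1 → ∃ x ∈ M, ∃ a ≠ 0, ∃ b ≠ 0, x.1 = PM (incl K (pl i) *ᵥ a) (incl K (pl j) *ᵥ b)) (x) :
    x ∈ M := by
  obtain ⟨S, hg, hS⟩ := sysC n h
  have h3 : ∀ i j : Fin (n + 2), j.val = i + 1 → ∀ (x : symplecticGroup _ K) a b,
      x.1 = PM (incl K (pl i) *ᵥ a) (incl K (pl j) *ᵥ b) → x ∈ M := fun i j e x a b p => by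
    obtain ⟨y, q, c, c0, d, d0, q'⟩ := h2 i j e
    obtain ⟨γ, rfl, rfl⟩ := (pair_ind c d).resolve_left (by simp [*])
    rcases pair_ind a b with z | ⟨δ, rfl, rfl⟩
    · exact (Subtype.ext (p.trans (by rcases z with rfl | rfl <;> simp [PM])) : x = 1) ▸ one_mem _
    have := lam_PM (by simp [Fin.ext_iff, e]) (δ.1 * γ.1⁻¹) (δ.2 * γ.2⁻¹) q'
    simp only [SL_vec_mul, SL_vec_inv, ← p] at this
    exact Subtype.ext this ▸ mul_mem (mul_mem (mul_mem (h1 _ _) (h1 _ _)) q) (inv_mem (mul_mem (h1 _ _) (h1 _ _)))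
  refine let ⟨y, e⟩ := grp_ind hg (M := M) (fun i t => ?_) x; e ▸ y.2
  have n1 : ∀ r, ((mmC (n + 1)).neg r).1 = (r.1.2.swap, r.1.1.swap) := fun _ => rfl
  have a := hS (sroot i) t
  have b := hS (sroot i).rev t
  simp only [MM.σ_rev, MM.σ_sroot, gC, n1, show (mmC (n + 1)).sim i = simC _ i from rfl, simC] at a b
  split_ifs at a b with c <;> simp only [swap_inl, swap_inr, reduceCtorEq, not_true] at *
  · exact ⟨h3 i ⟨i + 1, by omega⟩ rfl _ (Pi.single 0 1) (Pi.single 1 _) (by rw [a, incl_vec, incl_vec]; rfl),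
      h3 i ⟨i + 1, by omega⟩ rfl _ (Pi.single 1 _) (Pi.single 0 1) (by rw [b, incl_vec, incl_vec, PM_comm]; rfl)⟩
  · exact ⟨(Subtype.ext ((lam_tv i zero_ne_one t).trans a.symm)) ▸ h1 _ _, (Subtype.ext ((lam_tv i one_ne_zero t).trans b.symm)) ▸ h1 _ _⟩

/-- the plane of an index -/
def pn : Fin 2 ⊕ Fin 2 → Fin 2 := Sum.elim id id
/-- the side of an index -/
def sd : Fin 2 ⊕ Fin 2 → Fin 2 := Sum.elim 0 1

theorem PM_lam_inj {i j : Fin n} (h : i ≠ j) {a b : Fin 2 → K} {g : Matrix (Fin 2) (Fin 2) K} (ha : a ≠ 0)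
    (e : PM (incl K (pl i) *ᵥ a) (incl K (pl j) *ᵥ b) * padM (pl i) g = 1) : b = 0 := by
  have e1 := congrArg (fun x => (incl K (pl i))ᵀ * (x * incl K (pl j))) e
  obtain ⟨h1, h2⟩ := padM_incl' _ _ (pl_ne h) g
  simp only [Matrix.mul_assoc, h2, PM, Matrix.add_mul, J_pl] at e1
  simp only [Matrix.one_mul, h1, Matrix.mul_add, mul_vecMulVec, vecMulVec_mul,
    mulVec_mulVec, incl_t, one_mulVec, zero_mulVec, zero_vecMulVec, add_zero, zero_add, vecMulVec_eq_zero, ha, false_or,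
    vecMul_mulVec, ← Matrix.mul_assoc (incl K _)ᵀ] at e1
  have e2 := congrFun e1 0
  have e3 := congrFun e1 1
  ext i; fin_cases i <;> simp_all [vecMul, dotProduct]

set_option synthInstance.maxSize 2000 in
theorem C2_pairs : ∀ a c a' c' : Fin 2 ⊕ Fin 2, κJ a ≤ κJ c ∧ c ≠ a.swap → κJ a' ≤ κJ c' ∧ c' ≠ a'.swap → (a', c') ≠ (a, c) →
    (a', c') ≠ (c.swap, a.swap) → ∃ q, (a = q ∨ c = q) ∧ ((a' = q ∨ c' = q) ∨ a' = c' ∧ pn a' = pn q + 1) ∨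
      (a' = q ∨ c' = q) ∧ a = c ∧ pn a = pn q + 1 := by decide +kernel

theorem C2_dot : ∀ a c q : Fin 2 ⊕ Fin 2, c ≠ a.swap → ((a = q ∨ c = q) ↔ 0 < (εJ a + εJ c) ⬝ᵥ εJ q) ∧
    (a = c ∧ pn a = pn q + 1 → (εJ a + εJ c) ⬝ᵥ εJ q = 0) ∧ (a ≠ c → pn c = pn a + 1 ∧ pn a = pn c + 1) ∧
      pl (pn a) (sd a) = a ∧ pl (pn a) (sd a + 1) = a.swap := by decide +kernel

theorem Sp4_core [Finite K] (hK : ∃ a : K, a ≠ 0 ∧ a ≠ 1) (φ : J →* symplecticGroup (Fin 2) K) (f : Fin 2 → SL(2, K) →* J)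
    (T : Fin 2 → (Fin 2 → K) → (Fin 2 → K) → J) (p1 : ∀ i A, φ (f i A) = lam i A)
    (p2 : ∀ i a b, (φ (T i a b)).1 = PM (incl K (pl i) *ᵥ a) (incl K (pl (i + 1)) *ᵥ b)) (t0 : ∀ i a, T i a 0 = 1)
    (t1 : ∀ i γ a b, f i γ * T i a b * (f i γ)⁻¹ = T i (γ.1 *ᵥ a) b)
    (t2 : ∀ i γ a b, f (i + 1) γ * T i a b * (f (i + 1) γ)⁻¹ = T i a (γ.1 *ᵥ b)) (t3 : ∀ i A B, Commute (f (i + 1) A) (f i B))
    (t4 : ∀ i a b (u : K), T (i + 1) a (u • b) = T i b (u • a))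
    (t5 : ∀ i, ∀ a ≠ 0, ∀ b b', ∃ g : SL(2, K), g.1 *ᵥ a = a ∧ T i a b * T i a b' = T i a (b + b') * f i g) :
    ∃ ψ : symplecticGroup (Fin 2) K →* J, (∀ x, φ (ψ x) = x) ∧ (∀ i A, f i A ∈ ψ.range) ∧ T 0 e₀ e₀ ∈ ψ.range := by
  obtain ⟨S, hg, hS⟩ := sysC 0 (.inr hK)
  have c : ∀ i : Fin 2, i ≠ i + 1 := by decide
  have c0 : ∀ q : Fin 2 ⊕ Fin 2, (Pi.single (sd q) 1 : Fin 2 → K) ≠ 0 := fun q => by simp
  have c1 : ∀ i (g : SL(2, K)) a b, g.1 *ᵥ a = a → f i g * T i a b = T i a b * f i g := fun i g a b e => by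
    rw [← mul_inv_eq_iff_eq_mul, t1, e]
  let N : Fin 2 ⊕ Fin 2 → Subgroup J := fun q =>
    { carrier := {x | ∃ b, ∃ g : SL(2, K), g.1 *ᵥ Pi.single (sd q) 1 = Pi.single (sd q) 1 ∧
        x = T (pn q) (Pi.single (sd q) 1) b * f (pn q) g}
      one_mem' := ⟨0, 1, one_mulVec _, by simp [t0]⟩
      mul_mem' := by
        rintro _ _ ⟨b, g, e, rfl⟩ ⟨b', g', e', rfl⟩
        obtain ⟨k, e1, e2⟩ := t5 (pn q) _ (c0 q) b b'
        exact ⟨b + b', k * g * g', by simp only [SL_vec_mul, *], by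
          rw [mul_assoc, ← mul_assoc (f _ g), c1 _ _ _ _ e, ← mul_assoc, ← mul_assoc, e2]; simp [mul_assoc]⟩
      inv_mem' := by
        rintro _ ⟨b, g, e, rfl⟩
        obtain ⟨k, e1, e2⟩ := t5 (pn q) _ (c0 q) b (-b)
        have e3 : (k * g).1 *ᵥ Pi.single (sd q) 1 = Pi.single (sd q) 1 := by simp only [SL_vec_mul, *]
        exact ⟨-b, (k * g)⁻¹, by nth_rw 1 [← e3, SL_vec_inv], inv_eq_of_mul_eq_one_right (by
          rw [mul_assoc, ← mul_assoc (f _ g), c1 _ _ _ _ e, ← mul_assoc, ← mul_assoc, e2]; simp [mul_assoc, t0])⟩ }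
  have N1 : ∀ q, ∀ x ∈ N q, φ x = 1 → x = 1 := by
    rintro q _ ⟨b, g, -, rfl⟩ e
    obtain rfl : b = 0 := PM_lam_inj (c _) (c0 q) (by simpa only [map_mul, Submonoid.coe_mul, p1, p2] using! congrArg Subtype.val e)
    rw [t0, one_mul] at e ⊢
    rw [show g = 1 from Subtype.ext (padM_inj _ ((congrArg Subtype.val ((p1 _ g).symm.trans e)).trans (map_one _).symm)), map_one]
  have N2 : ∀ q A, ∀ x ∈ N q, f (pn q + 1) A * x * (f (pn q + 1) A)⁻¹ ∈ N q := by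
    rintro q A _ ⟨b, g, e, rfl⟩
    exact ⟨_, g, e, by rw [← conj_mul, t2, (t3 _ _ _).mul_inv_cancel]⟩
  let y : (cmC 2).RS → K → J := fun r t => if r.1.1 = r.1.2 then f (pn r.1.1) (tv (c (sd r.1.1)) t) else
    T (pn r.1.1) (Pi.single (sd r.1.1) 1) ((sgS r.1.2 * t) • Pi.single (sd r.1.2) 1)
  have y1 : ∀ r t, φ (y ((mmC 1).σ r) t) = S.x r t := fun r t => Subtype.ext (by
    rw [hS, gC]
    generalize (mmC 1).σ r = r
    obtain ⟨-, -, d1, d2, d3⟩ := C2_dot _ _ r.1.1 r.2.2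
    simp only [y]
    split_ifs with e
    · rw [p1, lam_tv, d2, d3]
    · rw [p2, ← Pi.single_smul, incl_vec, incl_vec, d2, ← (d1 e).1, (C2_dot _ _ r.1.1 (ne_swap r.1.2)).2.2.2.1, smul_eq_mul, mul_one])
  have y2 : ∀ r q t, r.1.1 = q ∨ r.1.2 = q → y r t ∈ N q := fun r q t h => by
    simp only [y]
    split_ifs with e
    · obtain rfl : r.1.1 = q := h.elim id e.trans
      exact ⟨0, tv (c (sd r.1.1)) t, by
        rw [SpecialLinearGroup.transvection_coe, add_mulVec, one_mulVec, single_mulVec]; simp [(c _).symm], by rw [t0, one_mul]⟩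
    rcases h with rfl | rfl
    · exact ⟨_, 1, one_mulVec _, by rw [map_one, mul_one]⟩
    · exact ⟨_, 1, one_mulVec _, by rw [((C2_dot _ _ r.1.1 r.2.2).2.2.1 e).2, t4, map_one, mul_one]⟩
  obtain ⟨ψ, hψ⟩ := sec_of_rel hg ((injective_iff_map_eq_one _).2 fun c hc => funext fun i => by
    simpa [MM.χ_ω, show (mmC 1).dd = 1 from rfl] using
      (mmC 1).χ_of_tor (fun _ => rfl) (fun k => ⟨inl k, rfl⟩) _ (Submonoid.subtype _) hS hc ((mmC 1).ω i))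
    (stRel_of (S := S) φ (y := fun r t => y ((mmC 1).σ r) t) y1 (fun r t u => mul_inv_eq_one.1 (N1 _ _
      (mul_mem (mul_mem (y2 _ _ _ (.inl rfl)) (y2 _ _ _ (.inl rfl))) (inv_mem (y2 _ _ _ (.inl rfl)))) (by simp [y1, S.add])))
    fun r s a b => by
      have v := fun k i j e => v_of_wt (mmC 1) (k := k) (r := r) (s := s) (i := i) (j := j) e
      obtain ⟨q, h⟩ := C2_pairs _ _ _ _ ((mmC 1).σ r).2 ((mmC 1).σ s).2 (fun e => a ((mmC 1).σ.injective (Subtype.ext e)))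
        fun e => b ((mmC 1).σ.injective ((Subtype.ext e).trans (MM.σ_rev _ _).symm))
      refine ⟨N q, N1 q, fun k i j hi hj e t => y2 _ _ _ ((C2_dot _ _ q ((mmC 1).σ k).2.2).1.2 ?_), fun t u => ?_⟩
      · have v1 := congrArg (· ⬝ᵥ εJ q) (v k i j e)
        have v2 := C2_dot _ _ q ((mmC 1).σ r).2.2
        have v3 := C2_dot _ _ q ((mmC 1).σ s).2.2
        simp only [add_dotProduct (_ • _), smul_dotProduct, smul_eq_mul] at v1
        refine lt_of_lt_of_eq ?_ v1.symm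
        rcases h with ⟨h, h' | h'⟩ | ⟨h, h'⟩
        · exact add_pos (mul_pos (by omega) (v2.1.1 h)) (mul_pos (by omega) (v3.1.1 h'))
        · exact add_pos_of_pos_of_nonneg (mul_pos (by omega) (v2.1.1 h)) (mul_nonneg (by omega) (v3.2.1 h').ge)
        · exact add_pos_of_nonneg_of_pos (mul_nonneg (by omega) (v2.2.1 h').ge) (mul_pos (by omega) (v3.1.1 h))
      rcases h with ⟨h, h' | h'⟩ | ⟨h, h'⟩
      · exact Subgroup.commutator_le_self _ (Subgroup.commutator_mem_commutator (y2 _ _ _ h) (y2 _ _ _ h'))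
      · have := mul_mem (y2 _ _ t h) (N2 q (tv (c (sd ((mmC 1).σ s).1.1)) u) _ (inv_mem (y2 _ _ t h)))
        simpa only [commutatorElement_def, mul_assoc, ← h'.2, show y _ u = _ from if_pos h'.1] using this
      · have := mul_mem (N2 q (tv (c (sd ((mmC 1).σ r).1.1)) t) _ (y2 _ _ u h)) (inv_mem (y2 _ _ u h))
        simpa only [commutatorElement_def, mul_assoc, ← h'.2, show y _ t = _ from if_pos h'.1] using this)
  have y3 : ∀ r t, y r t ∈ ψ.range := fun r t => let ⟨r, e⟩ := (mmC 1).σ.surjective r; e ▸ ⟨_, hψ r t⟩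
  refine ⟨ψ, DFunLike.congr_fun (hom_ext hg (f := φ.comp ψ) (g := .id _) fun r t => (congrArg φ (hψ r t)).trans (y1 r t)),
    fun i => SL2_ind (H := ψ.range.comap (f i)) (fun t => by simpa [y, pn, sd] using y3 ⟨(inl i, inl i), le_rfl, ne_swap _⟩ t)
      (fun t => by simpa [y, pn, sd] using y3 ⟨(inr i, inr i), le_rfl, ne_swap _⟩ t), ?_⟩
  simpa [y, pn, sd, sgS] using y3 ⟨(inl 0, inl 1), by decide⟩ (-1)

theorem root_span [Finite K] {ζ : K} (h1 : ∀ a ≠ 0, ∃ k : ℕ, ζ ^ k = a) {x : K → J} (add : ∀ a b, x (a + b) = x a * x b)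
    {H : Subgroup J} (a : x 1 ∈ H) (b : ∀ t, x t ∈ H → x (t * (ζ * ζ)) ∈ H) (t : K) : x t ∈ H :=
  (span_sq h1 (H.comap (MonoidHom.mk' (fun t : Multiplicative K => x t.toAdd) fun _ _ => add _ _)).toAddSubgroup' a b).ge trivial

theorem Sp4_sec [Finite K] (hK : ∃ a : K, a ≠ 0 ∧ a ≠ 1) {ζ : K} (h0 : ζ ≠ 0) (h1 : ∀ a ≠ 0, ∃ k : ℕ, ζ ^ k = a) {h : SL(2, K)}
    (hh : h.1 = diagonal ![ζ, ζ⁻¹]) (φ : J →* symplecticGroup (Fin 2) K) (f : SL(2, K) →* J) {τ v : J} (p1 : ∀ A, φ (f A) = lam 0 A)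
    (p2 : ∀ A, φ (τ * f A * τ⁻¹) = lam 1 A) (p3 : (φ v).1 = PM (incl K (pl 0) *ᵥ e₀) (incl K (pl 1) *ᵥ e₀))
    (r1 : ∀ A B, Commute (τ * f A * τ⁻¹) (f B)) (r2 : τ * τ = 1) (r3 : Commute τ v) (r4 : Commute v (f (tv zero_ne_one 1)))
    (r5 : Commute (f h * (τ * f h⁻¹ * τ⁻¹)) v) (r6 : ∀ κ ∈ [1, ζ], ∃ δ : SL(2, K), δ.1 *ᵥ e₀ = Pi.single 1 κ ∧
      v * (τ * f δ * τ⁻¹ * v * (τ * f δ * τ⁻¹)⁻¹) = τ * f (tv one_ne_zero κ) * τ⁻¹ * v * (τ * f (tv one_ne_zero κ) * τ⁻¹)⁻¹ *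
        f (tv zero_ne_one κ)) :
    ∃ ψ : symplecticGroup (Fin 2) K →* J, (∀ x, φ (ψ x) = x) ∧ (∀ A, f A ∈ ψ.range ∧ τ * f A * τ⁻¹ ∈ ψ.range) ∧ v ∈ ψ.range := by
  let f' := (MulAut.conj τ).toMonoidHom.comp f
  have f1 : ∀ A, τ * f A * τ⁻¹ = f' A := fun _ => rfl
  have f2 : ∀ A, τ * f' A * τ⁻¹ = f A := fun A => by
    rw [← f1, ← mul_assoc, ← mul_assoc, r2, mul_assoc, mul_assoc, ← _root_.mul_inv_rev, r2]; simp
  simp only [f1] at p2 r1 r5 r6 ⊢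
  let F := f.noncommCoprod f' fun A B => (r1 B A).symm
  have F1 : ∀ A B, F (A, B) = f A * f' B := fun _ _ => rfl
  have F2 : ∀ A B C, F (A, B) * f C * (F (A, B))⁻¹ = f (A * C * A⁻¹) := fun A B C => by
    rw [F1, mul_assoc (f A), (r1 _ _).eq]; simp [mul_assoc]
  have u1 : ∀ u : SL(2, K), u.1 *ᵥ e₀ = e₀ → Commute v (f u) := fun u e => by
    have e0 : u.1 0 0 = 1 := by simpa using congrFun e 0
    have e1 : u.1 1 0 = 0 := by simpa using congrFun e 1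
    have e2 : u.1 1 1 = 1 := by simpa [e0, e1] using SL2.det_eq u
    rw [show u = tv zero_ne_one (u.1 0 1) from Subtype.ext (by
      rw [SpecialLinearGroup.transvection_coe]; ext i j; fin_cases i <;> fin_cases j <;> simp [*])]
    refine root_span h1 (x := fun t => f (tv zero_ne_one t)) (H := Subgroup.centralizer {v})
      (fun a b => by rw [SpecialLinearGroup.transvection_add, map_mul]) (fun _ e => e ▸ r4) (fun t p _ e => e ▸ ?_) _ v rfl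
    have := (show Commute v _ from p v rfl).conj (F (h, h⁻¹))
    rw [F2, conj_diag (by simp [Fin.forall_fin_two, h0]) hh, F1, r5.mul_inv_cancel] at this
    simpa using this.eq
  obtain ⟨T, t0, t1, t2⟩ := exists_T F v fun γ a b => (u1 _ a).symm.mul_left (by
    simpa only [f1, r3.mul_inv_cancel] using (u1 _ b).symm.conj τ)
  have t3 : ∀ a b, τ * T a b * τ⁻¹ = T b a := fun a b => by
    rcases pair_ind a b with z | ⟨γ, rfl, rfl⟩
    · simp [t0 _ _ z, t0 _ _ z.symm]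
    rw [← t2, ← t2 (γ.2, γ.1), t1, ← conj_mul, ← conj_mul, ← conj_inv, r3.mul_inv_cancel, F1, F1, ← conj_mul, f1, f2, (r1 _ _).eq]
  have t4 : ∀ a b (u : K), T (u • a) b = T a (u • b) := fun a b u => by
    by_cases z : u = 0
    · simp [z, t0]
    obtain ⟨k, rfl⟩ := h1 u z
    have : ∀ a b, T (ζ • a) (ζ⁻¹ • b) = T a b := fun a b => by
      rcases pair_ind a b with z | ⟨γ, rfl, rfl⟩
      · rw [t0 _ _ z, t0 _ _ (z.imp (by simp +contextual) (by simp +contextual))]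
      have e1 : h.1 *ᵥ e₀ = ζ • e₀ := by ext i; fin_cases i <;> simp [hh]
      have e2 : h⁻¹.1 *ᵥ e₀ = ζ⁻¹ • e₀ := by rw [eq_inv_smul_iff₀ h0, ← mulVec_smul, ← e1, SL_vec_inv]
      rw [← mulVec_smul, ← mulVec_smul, ← t2, ← t2, ← e1, ← e2, ← t2 (h, h⁻¹), t1, F1 h, r5.mul_inv_cancel]
    clear z
    induction k generalizing b with
    | zero => simp
    | succ k ih => rw [pow_succ', mul_smul, ← inv_smul_smul₀ h0 b, this, ih, smul_smul, smul_smul, smul_smul]; congr 2; field_simp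
  have t5 : ∀ a b, (φ (T a b)).1 = PM (incl K (pl 0) *ᵥ a) (incl K (pl 1) *ᵥ b) := fun a b => by
    rcases pair_ind a b with z | ⟨γ, rfl, rfl⟩
    · rw [t0 _ _ z]; rcases z with rfl | rfl <;> simp [PM]
    rw [← t2, t1, map_mul, map_mul, map_inv, F1, map_mul, p1, p2, lam_PM zero_ne_one _ _ p3]
  have t7 := fun A a b => t2 (A, 1) a b
  have t8 := fun A a b => t2 (1, A) a b
  simp only [F1, map_one, mul_one, one_mul, show ∀ a, (1 : SL(2, K)).1 *ᵥ a = a from one_mulVec] at t7 t8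
  have t6 : ∀ a ≠ 0, ∀ b b', ∃ g : SL(2, K), g.1 *ᵥ a = a ∧ T a b * T a b' = T a (b + b') * f g := fun a a0 b b' => by
    refine Exists.elim (heis (T := T a) (Z := (MulAction.stabilizer SL(2, K) a).map f) (t0 _ _ (.inr rfl))
      (by rintro _ ⟨g, e, rfl⟩ b; exact mul_inv_eq_iff_eq_mul.1 ((t7 g a b).trans (congrArg (T · b) e))) (fun b b' d => ?_) b b')
      (by rintro _ ⟨⟨g, e, rfl⟩, e'⟩; exact ⟨g, e, e'⟩)
    obtain ⟨k, e⟩ := h1 _ d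
    obtain ⟨κ, κ1, u, u0, e⟩ : ∃ κ ∈ [1, ζ], ∃ u ≠ 0, dt b b' = κ * u ^ 2 := by
      obtain ⟨m, rfl | rfl⟩ := Nat.even_or_odd' k
      exacts [⟨1, by simp, ζ ^ m, by simp [h0], by rw [← e]; ring⟩, ⟨ζ, by simp, ζ ^ m, by simp [h0], by rw [← e]; ring⟩]
    obtain ⟨δ, d1, d2⟩ := SL2_pair (b := u⁻¹ • b) (b' := u⁻¹ • b') (κ := κ) (fun z => d (by simp [e, z]))
      (by simp only [dt, Pi.smul_apply, smul_eq_mul] at e ⊢; field_simp; linear_combination e)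
    obtain ⟨γ, g1⟩ := SL2_trans (smul_ne_zero u0 a0)
    obtain ⟨ε, e1, e2⟩ := r6 κ κ1
    have e4 : (tv one_ne_zero κ).1 *ᵥ e₀ = e₀ + Pi.single (1 : Fin 2) κ := by
      ext i; fin_cases i <;> simp [SpecialLinearGroup.transvection_coe]
    rw [← t1, t8, t8, e1, e4] at e2
    have e5 := congrArg (fun x => F (γ, δ) * x * (F (γ, δ))⁻¹) e2
    simp only [← conj_mul, t2, F2, mulVec_add, g1, d1, d2, t4, ← smul_add, smul_inv_smul₀ u0] at e5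
    refine ⟨_, ⟨_, (smul_right_inj u0).1 ?_, rfl⟩, e5⟩
    change u • ((_ : SL(2, K)).1 *ᵥ a) = _
    rw [← mulVec_smul, ← g1, SL_vec_mul, SL_vec_inv, SL_vec_mul]
    congr 1; ext i; fin_cases i <;> simp [SpecialLinearGroup.transvection_coe]
  obtain ⟨ψ, a, b, c⟩ := Sp4_core hK φ ![f, f'] ![T, fun a b => T b a] (Fin.forall_fin_two.2 ⟨p1, p2⟩)
    (Fin.forall_fin_two.2 ⟨t5, fun a b => (t5 b a).trans (PM_comm _ _)⟩)
    (Fin.forall_fin_two.2 ⟨fun _ => t0 _ _ (.inr rfl), fun _ => t0 _ _ (.inl rfl)⟩)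
    (Fin.forall_fin_two.2 ⟨t7, fun γ a b => t8 γ b a⟩) (Fin.forall_fin_two.2 ⟨t8, fun γ a b => t7 γ b a⟩)
    (Fin.forall_fin_two.2 ⟨r1, fun A B => (r1 B A).symm⟩)
    (Fin.forall_fin_two.2 ⟨fun a b u => t4 b a u, fun a b u => (t4 a b u).symm⟩)
    (Fin.forall_fin_two.2 ⟨t6, fun a a0 b b' => let ⟨g, e, e'⟩ := t6 a a0 b b'; ⟨g, e, by
      simpa only [← conj_mul, t3, f1] using! congrArg (fun x => τ * x * τ⁻¹) e'⟩⟩)
  exact ⟨ψ, a, fun A => ⟨b 0 A, b 1 A⟩, t1 ▸ c⟩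

theorem Sp4_pg [Fintype K] : PG (symplecticGroup (Fin 2) K) 5 19 := by
  classical
  by_cases hK : ∃ a : K, a ≠ 0 ∧ a ≠ 1
  swap
  · obtain ⟨e⟩ := H10.sp4_two (F := K) (le_antisymm ((Finset.card_le_card (t := {0, 1}) fun a _ => by
      by_contra h; exact hK ⟨a, by simpa using h⟩).trans Finset.card_le_two) Fintype.one_lt_card)
    exact (((perm_pg (n := 6) (by simp)).1 (by simp)).equiv e.symm).pad (by simp) (by simp)
  obtain ⟨g, hg⟩ := (SL2_pg (K := K)).pad (d' := 3) (r' := 8) le_rfl (by split_ifs <;> simp)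
  obtain ⟨ζ, h0, h1, -⟩ := exists_gen (K := K)
  obtain ⟨h, hh⟩ : ∃ h : SL(2, K), h.1 = diagonal ![ζ, ζ⁻¹] := ⟨⟨_, det_diagonal.trans (by simp [h0])⟩, rfl⟩
  obtain ⟨a, b, hab⟩ := SL_two_gen (K := K) 2
  obtain ⟨s, hs⟩ : ∃ s : symplecticGroup (Fin 2) K, s.1 = permMatrixHom (Equiv.Perm.sumCongr (Equiv.swap 0 1) (Equiv.swap 0 1)) :=
    ⟨⟨_, SymplecticGroup.mem_iff.2 (by
      ext (i | i) (j | j) <;> fin_cases i <;> fin_cases j <;> simp [Matrix.mul_apply, Matrix.J])⟩, rfl⟩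
  obtain ⟨v, hv⟩ : ∃ v : symplecticGroup (Fin 2) K, v.1 = PM (incl K (pl 0) *ᵥ e₀) (incl K (pl 1) *ᵥ e₀) := by
    obtain ⟨S, -, hS⟩ := sysC 0 (.inr hK)
    obtain ⟨r, e⟩ := (mmC 1).σ.surjective ⟨(inl 0, inl 1), by decide⟩
    exact ⟨S.x r (-1), by rw [hS, e, gC, incl_vec, incl_vec]; simp [sgS]⟩
  have s1 : ∀ A, s * lam 0 A * s⁻¹ = lam 1 A :=
    SL2_ind (H := ((MulAut.conj s).toMonoidHom.comp (lam 0)).eqLocus (lam 1)) (fun c => mul_inv_eq_iff_eq_mul.2 (Subtype.ext (by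
      simp only [Submonoid.coe_mul, lam_tv, hs, mul_add, add_mul, perm_conj_single]; simp))) fun c => mul_inv_eq_iff_eq_mul.2
      (Subtype.ext (by simp only [Submonoid.coe_mul, lam_tv, hs, mul_add, add_mul, perm_conj_single]; simp))
  have s2 : s * s = 1 := Subtype.ext (by rw [Submonoid.coe_mul, hs, ← map_mul]; simp)
  have s3 : ∀ A B : SL(2, K), Commute (lam (1 : Fin 2) A) (lam 0 B) := SL_comm fun {i j k l} e e' c d => Subtype.ext (by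
    simp [lam_tv, mul_add, add_mul, single_mul_single_of_ne, pl_ne, add_right_comm])
  have s4 : Commute s v := mul_inv_eq_iff_eq_mul.1 (Subtype.ext (by
    rw [PM_conj _ hv, hv, PM_comm, hs, incl_vec, incl_vec]; congr 1 <;> ext (i | i) <;> fin_cases i <;> simp))
  have s5 : Commute v (lam 0 (tv zero_ne_one 1)) := (mul_inv_eq_iff_eq_mul.1 (Subtype.ext (by
    rw [PM_conj _ hv, hv, lam_vec, lam_vec' zero_ne_one]
    congr 2; ext i; fin_cases i <;> simp [SpecialLinearGroup.transvection_coe])) : Commute _ v).symm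
  have s6 : Commute (lam 0 h * lam 1 h⁻¹) v := mul_inv_eq_iff_eq_mul.1 (Subtype.ext (by
    have e1 : h.1 *ᵥ e₀ = ζ • e₀ := by ext i; fin_cases i <;> simp [hh]
    rw [lam_PM zero_ne_one _ _ hv, hv, e1, mulVec_smul, PM_smul, ← mulVec_smul, ← mulVec_smul, ← e1, SL_vec_inv]))
  obtain ⟨π, hπ⟩ : ∃ π, π = FreeGroup.lift (Sum.elim (fun i => lam 0 (g i)) ![s, v]) := ⟨_, rfl⟩
  obtain ⟨w, w1, w2⟩ := hg.rel' (π := π) (lam 0) (fun i => .of (.inl i)) (by simp [hπ])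
  obtain ⟨σ, hσ⟩ : ∃ σ, σ = FreeGroup.of (inr 0 : Fin 3 ⊕ Fin 2) := ⟨_, rfl⟩
  obtain ⟨ν, hν⟩ : ∃ σ, σ = FreeGroup.of (inr 1 : Fin 3 ⊕ Fin 2) := ⟨_, rfl⟩
  have e1 : π σ = s := by simp [hπ, hσ]
  have e2 : π ν = v := by simp [hπ, hν]
  let N := Subgroup.closure (insert ν (Set.range w ∪ Set.range fun B => σ * w B * σ⁻¹))
  have hN : ∀ x, x ∈ N.map π := Sp_gen (n := 0) (.inr hK) (Fin.forall_fin_two.2
    ⟨fun A => ⟨_, Subgroup.subset_closure (.inr (.inl ⟨A, rfl⟩)), w1 A⟩,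
      fun A => ⟨_, Subgroup.subset_closure (.inr (.inr ⟨A, rfl⟩)), by simp [w1, e1, s1]⟩⟩) fun i j e => by
    obtain ⟨rfl, rfl⟩ : i = 0 ∧ j = 1 := by revert i j; decide
    exact ⟨v, ⟨_, Subgroup.subset_closure (.inl rfl), e2⟩, _, by simp, _, by simp, hv⟩
  have R1 := Rels.list (π := π) [a, b] fun A _ => Rels.list [a, b] fun B _ => Rels.comm (a := σ * w A * σ⁻¹) (b := w B)
    (by simp [w1, e1, s1, s3])
  have R2 := (((Rels.eq (π := π) (a := σ * σ) (b := 1) (by simp [e1, s2])).and (Rels.comm (a := σ) (b := ν) (by simp [e1, e2, s4]))).and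
    (Rels.comm (a := ν) (b := w (tv zero_ne_one 1)) (by simp [w1, e2, s5]))).and
    (Rels.comm (a := w h * (σ * w h⁻¹ * σ⁻¹)) (b := ν) (by simp only [map_mul, map_inv π, w1, e1, e2, s1, s6]))
  have R3 : ∀ κ ∈ [1, ζ], Rels π 1 fun C => ∃ δ : SL(2, K), δ.1 *ᵥ e₀ = Pi.single 1 κ ∧ C.ρ (ν * (σ * w δ * σ⁻¹ * ν * (σ * w δ * σ⁻¹)⁻¹)) =
      C.ρ (σ * w (tv one_ne_zero κ) * σ⁻¹ * ν * (σ * w (tv one_ne_zero κ) * σ⁻¹)⁻¹ * w (tv zero_ne_one κ)) := fun κ hκ => by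
    obtain ⟨δ, e⟩ := SL2_trans (a := Pi.single 1 κ) (by simp at hκ; rcases hκ with rfl | rfl <;> simp [h0])
    refine (Rels.eq (Subtype.ext ?_)).imp le_rfl fun C p => ⟨δ, e, p⟩
    simp only [map_mul, map_inv π, w1, e1, e2, s1]
    rw [Submonoid.coe_mul, Submonoid.coe_mul _ _ (lam 0 _), PM_conj _ hv, PM_conj _ hv, hv, lam_vec, lam_vec, lam_vec' one_ne_zero,
      lam_vec' one_ne_zero, e, lam_tv, SpecialLinearGroup.transvection_coe, add_mulVec, one_mulVec, mulVec_add, single_mulVec, PM, PM, PM]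
    ext (i | i) (j | j) <;> fin_cases i <;> fin_cases j <;> simp [Matrix.mul_apply, vecMulVec_apply, incl, Matrix.J, mulVec, dotProduct]
  refine HasPres.pg (g := Sum.elim (fun i => lam 0 (g i)) ![s, v]) (r := _) (.of_sec ?_ ?_) (by simp) (by simp; rfl) <;> rw [← hπ]
  · exact fun x => Subgroup.map_le_range _ _ (hN x)
  refine ((((w2.and R1).and R2).and (Rels.list _ R3)).and (Rels.mem (hN (π σ)))).imp (by simp)
    fun C ⟨⟨⟨⟨⟨f, f1, f2⟩, r1⟩, ⟨⟨r2, r3⟩, r4⟩, r5⟩, r6⟩, r7⟩ => ?_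
  have f3 : ∀ x, C.ρ (w x) = f x := congrFun f2
  simp only [map_mul, map_inv C.ρ, f3, map_one] at r1 r2 r4 r5 r6
  obtain ⟨ψ, p1, p2, p3⟩ := Sp4_sec hK h0 h1 hh C.φ f (fun A => by rw [← f3, C.comp, w1])
    (fun A => by simp only [← f3, map_mul, map_inv, C.comp, w1, e1, s1]) (by rw [C.comp, e2, hv]) (fun A B => by
      have : ∀ A ∈ [a, b], ∀ B, Commute (C.ρ σ * f A * (C.ρ σ)⁻¹) (f B) := fun A p B =>
        (Subgroup.closure_le ((Subgroup.centralizer {_}).comap f)).2 (by rintro B q _ rfl; exact r1 A p B (by simpa using q))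
          (hab.ge (Subgroup.mem_top B)) _ rfl
      exact ((Subgroup.closure_le ((Subgroup.centralizer {f B}).comap ((MulAut.conj (C.ρ σ)).toMonoidHom.comp f))).2
        (by rintro A q _ rfl; exact (this A (by simpa using q) B).symm) (hab.ge (Subgroup.mem_top A)) _ rfl).symm) r2 r3 r4 r5 r6
  refine ⟨ψ, p1, Sum.forall.2 ⟨fun i => f1 i ▸ (p2 _).1, Fin.forall_fin_two.2 ⟨hσ ▸ ?_, hν ▸ p3⟩⟩⟩
  refine (Subgroup.map_le_iff_le_comap.2 ((Subgroup.closure_le _).2 ?_) : _ ≤ ψ.range) r7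
  rintro _ (rfl | ⟨x, rfl⟩ | ⟨B, rfl⟩)
  exacts [p3, by simpa [f3] using (p2 x).1, by simpa [f3] using (p2 B).2]

end H09
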