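import Mathlib
import Cfsg.Agent.H09.PresSp4

/-! # Bounded presentations and two-element generation of `Sp_{2n}(q)` -/

namespace H09

open Matrix Cfsg Cfsg.Lie H11 H11.StSys L.RD Sum
open scoped MatrixGroups commutatorElement

local notation "tv" => Matrix.SpecialLinearGroup.transvection
local notation "e₀" => Pi.single (0 : Fin 2) 1

variable {K : Type*} [Field K] {n : ℕ}

theorem Sp_center : IsCyclic (Subgroup.center (symplecticGroup (Fin n) K)) :=
  isCyclic_of_injective ((Subgroup.center _).subtype.codRestrict (Subgroup.zpowers (-1)) fun x =>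
    (sp_mem_center_iff.1 x.2).elim (fun e => ⟨0, e.symm⟩) fun e => ⟨1, (zpow_one _).trans e.symm⟩)
    fun x y e => Subtype.ext (congrArg (·.1) e :)

theorem comm_gen {A B J : Type*} [Group A] [Group B] [Group J] {f : A →* J} {g : B →* J} {a b : A} {c d : B}
    (h1 : Subgroup.closure {a, b} = ⊤) (h2 : Subgroup.closure {c, d} = ⊤) (h : ∀ x ∈ [a, b], ∀ y ∈ [c, d], Commute (f x) (g y))
    (x y) : Commute (f x) (g y) :=
  ((Subgroup.closure_le ((Subgroup.centralizer {g y}).comap f)).2 (fun x p _ q => q ▸ ((Subgroup.closure_le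
    ((Subgroup.centralizer {f x}).comap g)).2 (fun y r _ s => s ▸ h x (by simpa using p) y (by simpa using r))
      (h2.ge (Subgroup.mem_top y)) _ rfl).symm) (h1.ge (Subgroup.mem_top x)) _ rfl).symm

theorem Sp_pg [Fintype K] {m d r d' r' : ℕ} (h : PG SL(m + 3, K) d r) (h' : PG (symplecticGroup (Fin 2) K) d' r') :
    PG (symplecticGroup (Fin (m + 3)) K) (d + d') (r + r' + 6 + d') := by
  classical
  obtain ⟨g, h⟩ := h
  obtain ⟨g', h'⟩ := h'
  obtain ⟨S, hg, hS⟩ := sysC (F := K) (m + 1) (.inl (by omega))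
  obtain ⟨a, b, hab⟩ := SL_two_gen (K := K) 2
  obtain ⟨u, v, huv⟩ := SL_two_gen (K := K) (m + 2)
  obtain ⟨ν, hν⟩ : ∃ ν, ν = spPad (K := K) (shift (m := 2) (m + 1) (le_refl (m + 3))) := ⟨_, rfl⟩
  have n1 : ∀ A, ν (lam 1 A) = lam (Fin.last _) A := fun A => by rw [hν, spPad_lam]; rfl
  obtain ⟨π, hπ⟩ : ∃ π, π = FreeGroup.lift (Sum.elim (fun i => muS _ (g i)) fun i => ν (g' i)) := ⟨_, rfl⟩
  obtain ⟨w, w1, w2⟩ := h.rel' (π := π) (muS _) (fun i => .of (.inl i)) (by simp [hπ])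
  obtain ⟨w', w3, w4⟩ := h'.rel' (π := π) ν (fun i => .of (.inr i)) (by simp [hπ])
  have hi : ∀ i : Fin (m + 3), i.val + 2 ≤ m + 3 ∨ i = Fin.last _ := fun i => by simp [Fin.ext_iff]; omega
  let Y : Fin (m + 3) → SL(2, K) →* _ := fun i => if h : i.val + 2 ≤ m + 3 then (muS _).comp (Λ i h) else lam (Fin.last _)
  have Y1 : ∀ i (h : i.val + 2 ≤ m + 3) A, Y i A = muS _ (Λ i h A) := fun i h => DFunLike.congr_fun (dif_pos h)
  have Y2 : Y (Fin.last _) = lam (Fin.last _) := dif_neg (by simp)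
  have hY : ∀ i t, Y i (tv zero_ne_one t) = S.x (sroot i) t ∧ Y i (tv one_ne_zero t) = S.x (sroot i).rev t := fun i t => by
    have n1 : ∀ r, ((mmC (m + 1 + 1)).neg r).1 = (r.1.2.swap, r.1.1.swap) := fun _ => rfl
    constructor <;> refine Subtype.ext (Eq.trans ?_ (hS _ t).symm) <;>
      simp only [MM.σ_rev, MM.σ_sroot, gC, n1, show (mmC (m + 1 + 1)).sim i = simC _ i from rfl, simC] <;>
      rcases hi i with c | rfl
    · rw [Y1 i c, slPad_tv, muS_tv, dif_pos (by omega), if_neg (by simp), PM_single]; simp [oT, sgS, sub_eq_add_neg, single_neg]; rfl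
    · rw [Y2, lam_tv, dif_neg (by simp), if_pos rfl]; rfl
    · rw [Y1 i c, slPad_tv, muS_tv, dif_pos (by omega), if_neg (by simp), PM_single]; simp [oT, sgS, sub_eq_add_neg, single_neg]; rfl
    · rw [Y2, lam_tv, dif_neg (by simp), if_pos rfl]; rfl
  let N := Subgroup.closure (Set.range w ∪ Set.range fun B => w' (lam 1 B))
  have hN : ∀ x, x ∈ N.map π := fun x => let ⟨y, e⟩ := grp_ind hg (M := N.map π) (fun i t => by
    have : ∀ A, Y i A ∈ N.map π := fun A => by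
      rcases hi i with e | rfl
      exacts [⟨_, Subgroup.subset_closure (.inl ⟨_, rfl⟩), (w1 _).trans (Y1 i e A).symm⟩,
        ⟨_, Subgroup.subset_closure (.inr ⟨A, rfl⟩), by rw [w3, n1, Y2]⟩]
    exact ⟨(hY i t).1 ▸ this _, (hY i t).2 ▸ this _⟩) x; e ▸ y.2
  have R1 := Rels.list (π := π) [a, b] fun A _ => Rels.eq (a := w (Λ (m + 1) le_rfl A)) (b := w' (muS 2 A))
    (by rw [w1, w3, hν, spPad_muS])
  have R2 := Rels.list (π := π) [u, v] fun U _ => Rels.list [a, b] fun A _ =>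
    Rels.comm (a := w (slPad (shift 0 (by omega)) U)) (b := w' (lam 1 A)) (by
      rw [w1, w3, n1]
      refine SL_comm (f := (muS _).comp (slPad _)) (fun {i j k l} e e' c d => Subtype.ext ?_) U A
      have p : ∀ i : Fin (m + 2), shift 0 (by omega) i ≠ Fin.last (m + 2) := fun i => by simp [Fin.ext_iff]; omega
      simp only [Submonoid.coe_mul, MonoidHom.comp_apply, slPad_tv, muS_tv, lam_tv, oT]
      fin_cases k <;> fin_cases l <;> simp [mul_add, add_mul, mul_sub, sub_mul, single_mul_single_of_ne, p, (p _).symm] <;> abel)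
  refine HasPres.pg (g := Sum.elim (fun i => muS _ (g i)) fun i => ν (g' i)) (r := _) (.of_sec ?_ ?_) (by simp) (by simp; rfl) <;>
    rw [← hπ]
  · exact fun x => Subgroup.map_le_range _ _ (hN x)
  refine ((((w2.and w4).and R1).and R2).and (Rels.finset .univ fun k _ => Rels.mem (hN (π (.of (inr k)))))).imp (by simp)
    fun C ⟨⟨⟨⟨⟨f, f1, f2⟩, f', _, f2'⟩, r1⟩, r2⟩, r3⟩ => ?_
  have f3 : ∀ x, C.ρ (w x) = f x := congrFun f2
  have f3' : ∀ x, C.ρ (w' x) = f' x := congrFun f2'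
  have f4 : ∀ x, C.φ (f x) = muS _ x := fun x => by rw [← f3, C.comp, w1]
  have f5 : ∀ x, C.φ (f' x) = ν x := fun x => by rw [← f3', C.comp, w3]
  simp only [f3, f3'] at r1 r2
  have q1 : f.comp (Λ (m + 1) le_rfl) = f'.comp (muS 2) := MonoidHom.eq_of_eqOn_dense hab fun x p => r1 x (by simpa using p)
  have q2 := comm_gen (f := f.comp (slPad _)) (g := f'.comp (lam 1)) huv hab r2
  let Z : Fin (m + 3) → SL(2, K) →* C.J := fun i => if h : i.val + 2 ≤ m + 3 then f.comp (Λ i h) else f'.comp (lam 1)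
  have Z1 : ∀ i (h : i.val + 2 ≤ m + 3), Z i = f.comp (Λ i h) := fun i h => dif_pos h
  have Z2 : Z (Fin.last _) = f'.comp (lam 1) := dif_neg (by simp)
  have q3 : ∀ g ∈ f.range, C.φ g = 1 → g = 1 := by
    rintro _ ⟨x, rfl⟩ e; rw [muS_inj ((f4 x).symm.trans (e.trans (map_one _).symm)), map_one]
  have q4 : ∀ g ∈ f'.range, C.φ g = 1 → g = 1 := by
    rintro _ ⟨x, rfl⟩ e; rw [(hν ▸ spPad_inj _ : Function.Injective ν) ((f5 x).symm.trans (e.trans ν.map_one.symm)), map_one]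
  have q5 : ∀ i, ∀ g ∈ (Z i).range ⊔ (f'.comp (lam 1)).range, C.φ g = 1 → g = 1 := fun i g p e => by
    rcases hi i with c | rfl
    swap
    · exact q4 g (sup_mem p (by rw [Z2]; rintro _ ⟨A, rfl⟩; exact ⟨_, rfl⟩) (by rintro _ ⟨A, rfl⟩; exact ⟨_, rfl⟩)) e
    rw [Z1 i c] at p
    by_cases c' : i.val = m + 1
    · obtain ⟨i, _⟩ := i
      subst c'
      exact q4 g (sup_mem p (by rw [q1]; rintro _ ⟨A, rfl⟩; exact ⟨_, rfl⟩) (by rintro _ ⟨A, rfl⟩; exact ⟨_, rfl⟩)) e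
    have c1 : ∀ A, Λ i c A = slPad (shift 0 (by omega)) (Λ (K := K) (n := m + 2) i (by omega) A) :=
      SL_ind (H := (Λ i c).eqLocus ((slPad _).comp _)) fun e t => by
        refine show _ = slPad _ _ from ?_
        rw [slPad_tv, slPad_tv, slPad_tv]; exact tv_congr _ (by simp [Fin.ext_iff]) (by simp [Fin.ext_iff]) t
    obtain ⟨_, ⟨A, rfl⟩, _, ⟨B, rfl⟩, rfl⟩ := sup_comm_ind (by rintro _ ⟨A, rfl⟩ _ ⟨B, rfl⟩; simpa [c1] using q2 _ B) p
    obtain rfl : B = 1 := by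
      have e1 := congrArg (fun x => (incl K (pl (Fin.last (m + 2))))ᵀ * (x.1 * incl K (pl (Fin.last (m + 2))))) e
      simp only [map_mul, MonoidHom.comp_apply, f4, f5, n1, c1, ← spPad_muS, Submonoid.coe_mul, Matrix.mul_assoc, lam_coe,
        padM_incl] at e1
      rw [← Matrix.mul_assoc _ _ B.1, show (spPad _ _).1 = padM _ _ from rfl, (padM_incl' _ _ (by
        rintro (i | i) j <;> fin_cases j <;> simp [Fin.ext_iff] <;> omega) _).2] at e1
      exact Subtype.ext (by simpa [← Matrix.mul_assoc, incl_t] using e1)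
    exact q3 _ (by simp) e
  obtain ⟨ψ, p1, p2⟩ := sec_of_ct' hg (fun c hc => ⟨0, 0, 1, 1, funext fun i => by
    simpa [MM.χ_ω, show (mmC (m + 1 + 1)).dd = 1 from rfl] using (mmC (m + 1 + 1)).χ_of_tor (fun _ => rfl) (fun k => ⟨inl k, rfl⟩) _
      (Submonoid.subtype _) hS hc ((mmC (m + 1 + 1)).ω i)⟩) C.φ Z (fun i t => by
    have : ∀ A, C.φ (Z i A) = Y i A := fun A => by
      rcases hi i with c | rfl
      exacts [by rw [Z1 i c, Y1 i c, ← f4]; rfl, by rw [Z2, Y2, ← n1, ← f5]; rfl]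
    exact ⟨(this _).trans (hY i t).1, (this _).trans (hY i t).2⟩) fun i j g p e => by
      rcases hi j with c | rfl
      · rcases hi i with c' | rfl
        · rw [Z1 i c', Z1 j c] at p
          exact q3 g (sup_mem p (by rintro _ ⟨A, rfl⟩; exact ⟨_, rfl⟩) (by rintro _ ⟨A, rfl⟩; exact ⟨_, rfl⟩)) e
        · exact q5 j g (by rwa [Z2, sup_comm] at p) e
      · exact q5 i g (Z2 ▸ p) e
  have p3 : ∀ x, f x ∈ ψ.range := SL_adj (H := ψ.range.comap f) fun k e A => by
    have := p2 (⟨k, by omega⟩ : Fin (m + 3)) A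
    rwa [Z1 _ e] at this
  refine ⟨ψ, p1, Sum.forall.2 ⟨fun i => f1 i ▸ p3 _, fun i => ?_⟩⟩
  refine (Subgroup.map_le_iff_le_comap.2 ((Subgroup.closure_le _).2 ?_) : _ ≤ ψ.range) (r3 i (by simp))
  rintro _ (⟨x, rfl⟩ | ⟨B, rfl⟩)
  · simpa [f3] using p3 x
  · simpa [f3', Z2] using p2 (Fin.last _) B

theorem mem_of_mul_mem {G : Type*} [Group G] {H : Subgroup G} {x y : G} {a b : ℕ} (hc : Commute x y) (hx : x ^ a = 1)
    (hy : y ^ b = 1) (co : a.Coprime b) (h : x * y ∈ H) : x ∈ H ∧ y ∈ H := by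
  have h1 : x ∈ H := Subgroup.zpowers_le.2 (by simpa [hc.mul_pow, hy] using pow_mem h b : x ^ b ∈ H)
    (mem_zpowers_pow_iff.2 (co.symm.coprime_dvd_right (orderOf_dvd_of_pow_eq_one hx)))
  exact ⟨h1, (mul_mem_cancel_left h1).1 h⟩

theorem spTv_PM {A B : Fin n ⊕ Fin n → K} (h : spB _ K A B = 0) : (spTv (A + B) (-1) * spTv A 1 * spTv B 1).1 = PM A B := by
  refine Matrix.ext_iff_smul.2 fun x => ?_
  have h1 : PM A B • x = x + spB _ K B x • A + spB _ K A x • B := by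
    simp [PM, add_mulVec, add_mul, ← mulVec_mulVec, vecMulVec_mulVec, spB_apply, add_assoc]
  change (spTv (A + B) (-1) * spTv A 1 * spTv B 1) • x = _
  simp only [h1, mul_smul, spTv_smul, map_add, map_smul, LinearMap.add_apply, LinearMap.smul_apply, spB_alt.self_eq_zero, h,
    ← spB_alt.neg_eq A B, ← spB_alt.neg_eq x]
  module

theorem lam_single (i : Fin n) (A : SL(2, K)) (a t) :
    lam i A • (Pi.single (pl i a) t : Fin n ⊕ Fin n → K) = incl K (pl i) *ᵥ A.1 *ᵥ Pi.single a t := by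
  rw [← lam_vec, incl_vec]; rfl

theorem lam_single' {i j : Fin n} (h : i ≠ j) (A : SL(2, K)) (a t) :
    lam i A • (Pi.single (pl j a) t : Fin n ⊕ Fin n → K) = Pi.single (pl j a) t := by
  simpa only [incl_vec] using! lam_vec' h A (Pi.single a t)

theorem Sp_two_gen [Fintype K] (h : 1 ≤ n ∨ ∃ a : K, a ≠ 0 ∧ a ≠ 1) :
    ∃ a b : symplecticGroup (Fin (n + 2)) K, Subgroup.closure {a, b} = ⊤ := by
  classical
  obtain ⟨ζ, h0, h1, -⟩ := exists_gen (K := K)
  obtain ⟨δ, hδ⟩ : ∃ δ : Fin (n + 2) ⊕ Fin (n + 2) → Fin (n + 2) ⊕ Fin (n + 2) → K, ∀ a, δ a = Pi.single a 1 := ⟨_, fun _ => rfl⟩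
  obtain ⟨y, y1, ⟨N, y2, y3⟩, ⟨c, y4⟩, i, j, e, α, a0, β, b0, y5⟩ : ∃ y : symplecticGroup (Fin (n + 2)) K, y • δ (inl 0) = δ (inl 0) ∧
      (∃ N, (Fintype.card K).Coprime N ∧ y ^ N = 1) ∧ (∃ c, y • δ c = ζ • δ c) ∧
      ∃ i j : Fin (n + 2), j.val = i + 1 ∧ ∃ α ≠ (0 : K), ∃ β ≠ (0 : K), y • δ (inl j) = α • δ (inl i) + β • δ (inl j) := by
    by_cases z : ζ = 1
    · have q : ∀ a : K, a ≠ 0 → a = 1 := fun a e => let ⟨k, p⟩ := h1 a e; by simpa [z] using p.symm
      have q1 : 1 ≤ n := h.resolve_right fun ⟨a, p, p'⟩ => p' (q a p)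
      have q2 : (1 : K) + 1 = 0 := by_contra fun e => by simpa using q _ e
      have q3 : Fintype.card K = 2 := le_antisymm ((Finset.card_le_card (t := {0, 1}) fun a _ => by
        by_cases e : a = 0 <;> simp [e, q a]).trans Finset.card_le_two) Fintype.one_lt_card
      refine ⟨muS _ (Λ 1 (by omega) (tv zero_ne_one 1 * tv one_ne_zero 1)), ?_, ⟨3, by rw [q3]; decide, ?_⟩, ⟨inl 0, ?_⟩,
        shift 1 (by omega) (0 : Fin 2), shift 1 (by omega) (1 : Fin 2), rfl, 1, by simp, 1, by simp, ?_⟩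
      pick_goal 2
      · rw [← map_pow, ← map_pow, show (_ : SL(2, K)) ^ 3 = 1 from Subtype.ext ?_]; simp
        simp only [pow_succ, Matrix.SpecialLinearGroup.coe_mul, SpecialLinearGroup.transvection_coe]
        ext i j; fin_cases i <;> fin_cases j <;> simp [Matrix.mul_apply, q2]
      all_goals
        simp only [map_mul, mul_smul, slPad_tv, sp_smul_def, muS_tv, oT, hδ, z, one_smul, sub_mulVec, add_mulVec, one_mulVec,
          single_mulVec]
        simp [Fin.ext_iff, Pi.single_apply, add_comm, Pi.single]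
    obtain ⟨d, hd⟩ : ∃ h : SL(2, K), h.1 = diagonal ![ζ⁻¹, ζ] := ⟨⟨_, det_diagonal.trans (by simp [h0])⟩, rfl⟩
    have d1 : ∀ a t, lam 1 d • (Pi.single (pl 1 a) t : Fin (n + 2) ⊕ Fin (n + 2) → K) = Pi.single (pl 1 a) (![ζ⁻¹, ζ] a * t) :=
      fun a t => (lam_single _ _ _ _).trans (by rw [hd, diagonal_mulVec_single, incl_vec])
    have d2 := lam_single' (one_ne_zero (α := Fin (n + 2))) d 0
    have d3 : ∀ (a) (t s : K), muS (n + 2) (tv zero_ne_one t) • (Pi.single a s : Fin (n + 2) ⊕ Fin (n + 2) → K) = Pi.single a s +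
        (if a = inl 1 then Pi.single (inl 0) (t * s) else 0) - if a = inr 0 then Pi.single (inr 1) (t * s) else 0 := fun a t s => by
      simp only [sp_smul_def, muS_tv, oT, sub_mulVec, add_mulVec, one_mulVec, single_mulVec]
      simp only [Pi.single_apply, swap_inl, eq_comm (a := a)]
      split_ifs <;> simp [Pi.single]
    refine ⟨muS _ (tv zero_ne_one 1) * lam 1 d * (muS _ (tv zero_ne_one 1))⁻¹, ?_, ⟨Fintype.card K - 1, by
      simp [Fintype.card_pos.nat_succ_le], ?_⟩, ⟨inr 1, ?_⟩, 0, 1, rfl, ζ⁻¹ - 1, by simpa [sub_eq_zero], ζ⁻¹, by simpa, ?_⟩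
    pick_goal 2
    · rw [conj_pow, ← map_pow, show d ^ _ = 1 from Subtype.ext ?_]; simp
      rw [Matrix.SpecialLinearGroup.coe_pow, hd, diagonal_pow]
      ext i j; fin_cases i <;> fin_cases j <;> simp [FiniteField.pow_card_sub_one_eq_one _ h0]
    all_goals
      have d4 := d1 0
      have d5 := d1 1
      simp only [pl_zero, pl_one] at d2 d4 d5
      simp [mul_smul, ← map_inv, SpecialLinearGroup.transvection_inv, hδ, d2, d3, d4, d5, ← Pi.single_smul, sub_eq_add_neg,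
        Pi.single_add, add_comm, add_left_comm]
  obtain ⟨w, hw⟩ : ∃ w : SL(2, K), w.1 = !![0, -1; 1, 0] := ⟨⟨_, by simp⟩, rfl⟩
  obtain ⟨p, hp⟩ : ∃ p : symplecticGroup (Fin (n + 2)) K, ∀ a, p • δ a = δ (a.map (finRotate _) (finRotate _)) :=
    ⟨spOfLinear (LinearMap.funLeft K K (Sum.map (finRotate _).symm (finRotate _).symm)) fun u v => by
      simp only [spB_apply', LinearMap.funLeft_apply, Sum.map_inl, Sum.map_inr]
      exact Equiv.sum_comp (finRotate _).symm fun i => u (inr i) * v (inl i) - u (inl i) * v (inr i),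
      by rintro (a | a) <;> ext (b | b) <;> simp [hδ, Pi.single_apply, sub_eq_iff_eq_add]⟩
  obtain ⟨b, hb⟩ : ∃ b, b = p * lam (Fin.last _) w := ⟨_, rfl⟩
  have b1 : ∀ (i : Fin (n + 1)) x, b • δ (pl i.castSucc x) = δ (pl i.succ x) := fun i x => by
    have := hp (pl i.castSucc x)
    rw [hb, mul_smul, hδ, lam_single' (Fin.castSucc_lt_last i).ne']
    fin_cases x <;> simpa [hδ] using this
  have b2 : b • δ (inl (Fin.last _)) = δ (inr 0) := by
    have := hp (inr (Fin.last _))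
    rw [hb, mul_smul, hδ, ← pl_zero, lam_single, show w.1 *ᵥ e₀ = Pi.single 1 1 by
      ext i; fin_cases i <;> simp [hw], incl_vec]
    simpa [hδ] using this
  refine ⟨spTv (δ (inl 0)) 1 * y, b, top_le_iff.1 fun x _ => ?_⟩
  generalize hH : Subgroup.closure {spTv (δ (inl 0)) 1 * y, b} = H
  have m1 : b ∈ H := hH ▸ Subgroup.subset_closure (by simp)
  obtain ⟨m2, m3⟩ := mem_of_mul_mem (H := H) (mul_inv_eq_iff_eq_mul.1 ((spTv_conj y _ 1).trans (by rw [y1])) : Commute y _).symm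
    (a := Fintype.card K) (by
      have := map_pow (MonoidHom.mk' (fun t : Multiplicative K => spTv (δ (inl 0)) t.toAdd) fun _ _ => spTv_add _ _ _) (.ofAdd 1)
        (Fintype.card K)
      simpa [spTv_zero] using this.symm) y3 y2 (hH ▸ Subgroup.subset_closure (by simp))
  have m4 : ∀ v t, spTv (b • v) t ∈ H ↔ spTv v t ∈ H := fun v t => by
    rw [← spTv_conj, mul_mem_cancel_right (inv_mem m1), mul_mem_cancel_left m1]
  have m5 : ∀ a t, spTv (δ a) t ∈ H ↔ spTv (δ (inl 0)) t ∈ H := fun a t => by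
    have : ∀ x i, spTv (δ (pl i x)) t ∈ H ↔ spTv (δ (pl 0 x)) t ∈ H := fun x => Fin.induction .rfl fun i ih => by rw [← b1, m4, ih]
    rcases a with a | a
    exacts [this 0 a, (this 1 a).trans (by rw [pl_one, ← b2, m4]; exact this 0 _)]
  have m6 : ∀ a t, spTv (δ a) t ∈ H := fun a t => (m5 a t).2 ((m5 c t).1 (root_span h1 (spTv_add _) ((m5 c 1).2 m2) (fun t p => by
    have := mul_mem (mul_mem m3 p) (inv_mem m3)
    rwa [spTv_conj, y4, spTv_smul_left, sq, mul_comm] at this) t))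
  have m7 : ∀ i : Fin (n + 1), spTv (α • δ (inl i.castSucc) + β • δ (inl i.succ)) (-1) ∈ H ↔
      spTv (α • δ (inl 0) + β • δ (inl 1)) (-1) ∈ H := Fin.induction .rfl fun i ih => by
    have e1 : b • δ (inl i.castSucc.castSucc) = δ (inl i.succ.castSucc) := b1 _ 0
    have e2 : b • δ (inl i.castSucc.succ) = δ (inl i.succ.succ) := b1 i.succ 0
    rw [← ih, ← m4 (_ + β • δ (inl i.castSucc.succ)), smul_add, smul_comm b, smul_comm b, e1, e2]
  refine Sp_gen h (fun i => SL2_ind (H := H.comap _) (fun t => ?_) fun t => ?_) (fun k l e' => ⟨_, mul_mem (mul_mem ?_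
    (spTv_smul_left α (δ (inl k)) 1 ▸ m6 _ _)) (spTv_smul_left β (δ (inl l)) 1 ▸ m6 _ _), α • e₀, by simpa, β • e₀, by simpa,
      (spTv_PM (A := α • δ (inl k)) (B := β • δ (inl l)) (by simp [hδ, spB_single_inl])).trans (by simp only [mulVec_smul, incl_vec, hδ, pl_zero])⟩) x
  · refine Subgroup.mem_comap.2 ((Subtype.ext ?_ : spTv _ t = lam i (tv zero_ne_one t)) ▸ m6 (inl i) t)
    rw [lam_tv]
    ext (a | a) (b | b) <;> simp [spTv, hδ, vecMulVec_apply, Matrix.J, one_apply, Pi.single_apply, single_apply, ite_and, eq_comm]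
    split_ifs <;> rfl
  · refine Subgroup.mem_comap.2 ((Subtype.ext ?_ : spTv _ (-t) = lam i (tv one_ne_zero t)) ▸ m6 (inr i) (-t))
    rw [lam_tv]
    ext (a | a) (b | b) <;> simp [spTv, hδ, vecMulVec_apply, Matrix.J, one_apply, Pi.single_apply, single_apply, ite_and, eq_comm]
    split_ifs <;> rfl
  have m8 := mul_mem (mul_mem m3 (m6 (inl j) (-1))) (inv_mem m3)
  rw [spTv_conj, y5] at m8
  obtain ⟨i, rfl, rfl⟩ : ∃ t : Fin (n + 1), i = t.castSucc ∧ j = t.succ := ⟨⟨i, by omega⟩, rfl, Fin.ext e⟩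
  obtain ⟨k, rfl, rfl⟩ : ∃ t : Fin (n + 1), k = t.castSucc ∧ l = t.succ := ⟨⟨k, by omega⟩, rfl, Fin.ext e'⟩
  exact (m7 k).2 ((m7 i).1 m8)

end H09
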