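import Mathlib
/-! Eichler transformations for a skew-Hermitian form; subgroups containing a cyclic element. -/
namespace H09
variable {F V H : Type*} [Field F] [AddCommGroup V] [Module F V] [Group H]

/-- a group acting faithfully on a nondegenerate skew-Hermitian space, containing all Eichler transformations -/
structure Sk (F V H : Type*) [Field F] [AddCommGroup V] [Module F V] [Group H] where
  σ : F →+* F
  h : V →ₗ[F] V →ₛₗ[σ] F
  ρ : H →* Module.End F V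
  σσ : ∀ a, σ (σ a) = a
  skew : ∀ x y, h y x = -σ (h x y)
  inv : ∀ g x y, h (ρ g x) (ρ g y) = h x y
  nd : ∀ y, (∀ x, h x y = 0) → y = 0
  inj : Function.Injective ρ
  ex : ∀ r p b, h r r = 0 → h p r = 0 → σ b = b - h p p → ∃ g, ∀ y, ρ g y = y + h y r • p + h y p • r + (b * h y r) • r

namespace Sk
variable (S : Sk F V H) {G : Subgroup H} {g k : H} {r p r' p' z y y' : V} {b b' c s : F}

/-- `g` is the Eichler transformation with the given data -/
def IsE (g : H) (r p : V) (b : F) : Prop := ∀ y, S.ρ g y = y + S.h y r • p + S.h y p • r + (b * S.h y r) • r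
/-- admissible data -/
def Ok (r p : V) (b : F) : Prop := S.h r r = 0 ∧ S.h p r = 0 ∧ S.σ b = b - S.h p p
/-- the Eichler transformation lies in `G` -/
def Eg (G : Subgroup H) (r p : V) (b : F) : Prop := S.Ok r p b ∧ ∃ g ∈ G, S.IsE g r p b

theorem sym {x y} (e : S.h x y = 0) : S.h y x = 0 := by rw [S.skew, e]; simp
theorem ρ_mul (g k : H) (y) : S.ρ (g * k) y = S.ρ g (S.ρ k y) := by rw [map_mul]; rfl
@[simp] theorem ρ_inv (g : H) (y) : S.ρ g⁻¹ (S.ρ g y) = y := by rw [← ρ_mul]; simp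
@[simp] theorem ρ_inv' (g : H) (y) : S.ρ g (S.ρ g⁻¹ y) = y := by rw [← ρ_mul]; simp
theorem ρ_eq {g : H} {y z} (e : S.ρ g y = z) : S.ρ g⁻¹ z = y := by simp [← e]
theorem eg_top (o : S.Ok r p b) : S.Eg ⊤ r p b := ⟨o, let ⟨g, e⟩ := S.ex r p b o.1 o.2.1 o.2.2; ⟨g, trivial, e⟩⟩
variable {S}

theorem IsE.mul (a : S.IsE g r p b) (a' : S.IsE k r p' b') (o : S.Ok r p b) (o' : S.Ok r p' b') :
    S.IsE (g * k) r (p + p') (b + b' + S.h p' p) := fun y => by
  rw [ρ_mul, a, a']; simp [o.1, o'.2.1, S.sym o.2.1]; module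
theorem Ok.mul (o : S.Ok r p b) (o' : S.Ok r p' b') : S.Ok r (p + p') (b + b' + S.h p' p) :=
  ⟨o.1, by simp [o.2.1, o'.2.1], by simp [o.2.2, o'.2.2, S.skew p' p]; ring⟩
theorem Ok.inv (o : S.Ok r p b) : S.Ok r (-p) (S.h p p - b) :=
  ⟨o.1, by simp [o.2.1], by have := S.skew p p; simp [o.2.2]; linear_combination this⟩
theorem IsE.inv (a : S.IsE g r p b) (o : S.Ok r p b) : S.IsE g⁻¹ r (-p) (S.h p p - b) := fun y => S.ρ_eq (by
  rw [a]; simp [o.1, o.2.1, S.sym o.2.1]; module)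
theorem IsE.conj (a : S.IsE g r p b) (k : H) : S.IsE (k * g * k⁻¹) (S.ρ k r) (S.ρ k p) b := fun y => by
  rw [ρ_mul, ρ_mul, a, ← S.inv k _ r, ← S.inv k _ p]; simp
theorem Ok.conj (o : S.Ok r p b) (k : H) : S.Ok (S.ρ k r) (S.ρ k p) b := by simpa only [Ok, S.inv] using o
theorem Eg.mul (a : S.Eg G r p b) (a' : S.Eg G r p' b') : S.Eg G r (p + p') (b + b' + S.h p' p) :=
  let ⟨o, _, m, e⟩ := a; let ⟨o', _, m', e'⟩ := a'; ⟨o.mul o', _, mul_mem m m', e.mul e' o o'⟩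
theorem Eg.inv (a : S.Eg G r p b) : S.Eg G r (-p) (S.h p p - b) := let ⟨o, _, m, e⟩ := a; ⟨o.inv, _, inv_mem m, e.inv o⟩
theorem Eg.conj (a : S.Eg G r p b) (hk : k ∈ G) : S.Eg G (S.ρ k r) (S.ρ k p) b :=
  let ⟨o, _, m, e⟩ := a; ⟨o.conj k, _, mul_mem (mul_mem hk m) (inv_mem hk), e.conj k⟩
theorem Eg.congr (a : S.Eg G r p b) (e1 : r = r') (e2 : p = p') (e3 : b = b') : S.Eg G r' p' b' := e1 ▸ e2 ▸ e3 ▸ a
theorem Eg.one (o : S.h r r = 0) : S.Eg G r 0 0 := ⟨⟨o, by simp, by simp⟩, 1, one_mem _, fun y => by simp⟩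
theorem Eg.addT (a : S.Eg G r p b) (a' : S.Eg G r 0 c) : S.Eg G r p (b + c) := (a.mul a').congr rfl (by simp) (by simp)
theorem Eg.negT (a : S.Eg G r 0 c) : S.Eg G r 0 (-c) := a.inv.congr rfl (by simp) (by simp)
theorem Eg.symm (a : S.Eg G r (s • p) 0) (o : S.h p p = 0) (o' : S.h r p = 0) : S.Eg G p (S.σ s • r) 0 :=
  let ⟨o1, g, m, e⟩ := a; ⟨⟨o, by simp [o'], by simp [o1.1]⟩, g, m, fun y => by rw [e]; simp [S.σσ]; module⟩
theorem IsE.self (a : S.IsE g r (p + s • r) b) : S.IsE g r p (b + s + S.σ s) := fun y => by rw [a]; simp; module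
theorem Eg.self (a : S.Eg G r (s • r) 0) : S.Eg G r 0 (s + S.σ s) :=
  let ⟨o, g, m, e⟩ := a
  ⟨⟨o.1, by simp, by simp [S.σσ, add_comm]⟩, g, m, by simpa using IsE.self (S := S) (g := g) (r := r) (p := 0) (s := s) (b := 0) (by simpa using e)⟩
theorem Eg.self' (a : S.Eg G r 0 (s + S.σ s)) : S.Eg G r (s • r) 0 :=
  let ⟨o, g, m, e⟩ := a; ⟨⟨o.1, by simp [o.1], by simp [o.1]⟩, g, m, fun y => by rw [e]; simp; module⟩
theorem IsE.scale (a : S.IsE g (s • r) 0 c) : S.IsE g r 0 (c * (s * S.σ s)) := fun y => by rw [a]; simp; module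
theorem Eg.scale (a : S.Eg G r 0 (c * (s * S.σ s))) (hc : S.σ c = c) : S.Eg G (s • r) 0 c :=
  let ⟨o, g, m, e⟩ := a; ⟨⟨by simp [o.1], by simp, by simp [hc]⟩, g, m, fun y => by rw [e]; simp; module⟩
theorem Eg.split (a : S.Eg G (p + s • r) 0 c) (a' : S.Eg G p 0 c) (o : S.h r r = 0) (o' : S.h p r = 0) :
    S.Eg G r ((c * S.σ s) • p) (c * (s * S.σ s)) := by
  obtain ⟨o1, g, m, e⟩ := a
  obtain ⟨o2, g', m', e'⟩ := a'.negT
  have hc : S.σ c = c := by simpa using o1.2.2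
  refine ⟨⟨o, by simp [o'], by simp [o2.1, hc, S.σσ, mul_comm]⟩, _, mul_mem m' m, fun y => ?_⟩
  rw [ρ_mul, e', e]; simp [o2.1, S.sym o', hc, S.σσ]; module
theorem Eg.join (a : S.Eg G r ((c * S.σ s) • p) (c * (s * S.σ s))) (a' : S.Eg G p 0 c) (o' : S.h p r = 0) :
    S.Eg G (p + s • r) 0 c := by
  obtain ⟨o1, g, m, e⟩ := a
  obtain ⟨o2, g', m', e'⟩ := a'
  have hc : S.σ c = c := by simpa using o2.2.2
  refine ⟨⟨by simp [o1.1, o2.1, o', S.sym o'], by simp, by simp [hc]⟩, _, mul_mem m' m, fun y => ?_⟩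
  rw [ρ_mul, e', e]; simp [o2.1, S.sym o', hc, S.σσ]; module
theorem Eg.r1 (a : S.Eg G r p b) (a' : S.Eg G r' p' b') (o1 : S.h r r' = 0) (o2 : S.h r p' = 0) (o3 : S.h p r' = 0) :
    S.Eg G r (S.h p p' • r') 0 := by
  obtain ⟨-, g, m, e⟩ := a'
  refine ((a.conj m).congr (r' := r) (by rw [e]; simp [o1, o2]) rfl rfl |>.mul a.inv).congr rfl ?_ ?_ <;> rw [e] <;> simp [o3]
theorem Eg.r2 (a : S.Eg G r p b) (a' : S.Eg G z 0 c) (o : S.h r z = 0) :
    S.Eg G r ((c * S.h p z) • z) (-(c * (S.h p z * S.σ (S.h p z)))) := by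
  obtain ⟨o', g, m, e⟩ := a'
  have hc : S.σ c = c := by simpa using o'.2.2
  refine ((a.conj m).congr (r' := r) (by rw [e]; simp [o]) rfl rfl |>.mul a.inv).congr rfl ?_ ?_ <;> rw [e] <;> simp [hc]
  ring
theorem mv (o : S.h r r = 0) (o1 : S.h y y = 0) (o2 : S.h y' y' = 0) (e : S.h y r = S.h y' r) (n : S.h y' r ≠ 0) :
    ∃ p b, S.Ok r p b ∧ ∀ g, S.IsE g r p b → S.ρ g y' = y ∧ ∀ z, S.h z r = 0 → S.h z y = S.h z y' → S.ρ g z = z := by
  have n' : S.σ (S.h y' r) ≠ 0 := by simpa using n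
  refine ⟨(S.h y' r)⁻¹ • (y - y'), -((S.σ (S.h y' r))⁻¹ * S.h y' y) / S.h y' r, ⟨o, by simp [e], ?_⟩, fun g a => ⟨?_, fun z z1 z2 => ?_⟩⟩
  · simp [o1, o2, S.σσ, S.skew y' y]; field_simp; ring
  · rw [a]; simp [o2]; match_scalars <;> field_simp <;> ring
  · rw [a]; simp [z1, z2]

variable (S) in
/-- translates of `v` under `x` -/
def vv (x : H) (v : V) (k : ℤ) : V := S.ρ (x ^ k) v
variable (S) in
/-- `v` is a cyclic vector with isotropic segments of length `m` -/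
structure Cy (x : H) (v : V) (m : ℕ) (β : F) : Prop where
  c0 : ∀ k : ℕ, k < m → S.h (S.vv x v k) v = 0
  c1 : S.h (S.vv x v m) v = β
  β0 : β ≠ 0
  m2 : 2 ≤ m
  span : ∀ W : Submodule F V, (∀ d : ℤ, -m < d → d ≤ m + 1 → S.vv x v d ∈ W) → W = ⊤
variable (S) in
/-- short root elements along the cyclic basis -/
def D (G : Subgroup H) (x : H) (v : V) (d : ℤ) (s b : F) : Prop := ∀ j, S.Eg G (S.vv x v j) (s • S.vv x v (j + d)) b
variable (S) in
/-- transvections along the cyclic basis -/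
def C (G : Subgroup H) (x : H) (v : V) (c : F) : Prop := ∀ j, S.Eg G (S.vv x v j) 0 c

variable {x : H} {v : V} {m : ℕ} {β t : F} {d e i j : ℤ}
theorem vv_add (i j : ℤ) : S.ρ (x ^ i) (S.vv x v j) = S.vv x v (i + j) := by rw [vv, vv, ← ρ_mul, zpow_add]
theorem vv_zero : S.vv x v 0 = v := by simp [vv]
theorem D.of (hx : x ∈ G) (a : S.Eg G (S.vv x v i) (s • S.vv x v j) b) (e : j = i + d) : S.D G x v d s b := fun l =>
  (a.conj (zpow_mem hx (l - i))).congr (by rw [vv_add]; simp) (by rw [map_smul, vv_add, e]; congr 2; ring) rfl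
theorem C.of (hx : x ∈ G) (a : S.Eg G (S.vv x v i) 0 c) : S.C G x v c := fun l =>
  (a.conj (zpow_mem hx (l - i))).congr (by rw [vv_add]; simp) (by simp) rfl
theorem C.add {c'} (a : S.C G x v c) (a' : S.C G x v c') : S.C G x v (c + c') := fun j => (a j).addT (a' j)
theorem C.neg (a : S.C G x v c) : S.C G x v (-c) := fun j => (a j).negT
theorem C.fix (a : S.C G x v c) : S.σ c = c := by simpa using (a 0).1.2.2
theorem D.addT (a : S.D G x v d s b) (a' : S.C G x v c) : S.D G x v d s (b + c) := fun j => (a j).addT (a' j)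
theorem D.congr {d' s'} (a : S.D G x v d s b) (e1 : d = d') (e2 : s = s') (e3 : b = b') : S.D G x v d' s' b' := e1 ▸ e2 ▸ e3 ▸ a
theorem D.toC (a : S.D G x v d 0 b) : S.C G x v b := fun j => (a j).congr rfl (by simp) rfl
theorem D.self (a : S.D G x v 0 s 0) : S.C G x v (s + S.σ s) := fun j => ((a j).congr rfl (by simp) rfl).self

namespace Cy
variable (K : S.Cy x v m β)
include K
theorem o (h1 : i < j + m) (h2 : j < i + m) : S.h (S.vv x v i) (S.vv x v j) = 0 := by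
  have : ∀ i j : ℤ, j ≤ i → i < j + m → S.h (S.vv x v i) (S.vv x v j) = 0 := fun i j h h' => by
    obtain ⟨k, rfl⟩ : ∃ k : ℕ, i = j + k := ⟨(i - j).toNat, by omega⟩
    rw [← vv_add, vv, vv, S.inv]; exact K.c0 k (by omega)
  rcases le_total j i with h | h
  exacts [this i j h h1, S.sym (this j i h h2)]
theorem b1 (e : i = j + m) : S.h (S.vv x v i) (S.vv x v j) = β := by rw [e, ← vv_add, vv, vv, S.inv]; exact K.c1
theorem b2 (e : j = i + m) : S.h (S.vv x v i) (S.vv x v j) = -S.σ β := by rw [S.skew, K.b1 e]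
theorem oo (i) : S.h (S.vv x v i) (S.vv x v i) = 0 := have := K.m2; K.o (by omega) (by omega)
theorem C0 : S.C G x v 0 := fun j => Eg.one (K.oo j)
theorem D0 (d) : S.D G x v d 0 0 := fun j => (Eg.one (K.oo j)).congr rfl (by simp) rfl
theorem add {s'} (a : S.D G x v d s b) (a' : S.D G x v d s' b') : S.D G x v d (s + s') (b + b') := fun j =>
  ((a j).mul (a' j)).congr rfl (by rw [add_smul]) (by simp [K.oo])
theorem neg (a : S.D G x v d s b) : S.D G x v d (-s) (-b) := fun j => (a j).inv.congr rfl (by rw [neg_smul]) (by simp [K.oo])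
theorem symm (a : S.D G x v d s 0) (h1 : -m < d) (h2 : d < m) : S.D G x v (-d) (S.σ s) 0 := fun j =>
  ((a (j + -d)).symm (K.oo _) (K.o (by omega) (by omega))).congr (by simp) rfl rfl
theorem r1 (a : S.D G x v d s b) (a' : S.D G x v e t 0) (h1 : 0 < d) (h2 : d < m) (h3 : 0 < e) (h4 : e < m) :
    S.D G x v (d + e - m) (s * t * β) 0 := fun j =>
  ((a j).r1 (K.symm a' (by omega) h4 (j + (d + e - m))) (K.o (by omega) (by omega)) (by simp [K.o (i := j) (j := j + (d + e - m) + -e)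
    (by omega) (by omega)]) (by simp [K.o (i := j + d) (j := j + (d + e - m)) (by omega) (by omega)])).congr rfl
    (by simp [K.b1 (i := j + d) (j := j + (d + e - m) + -e) (by omega), S.σσ, mul_assoc, mul_left_comm]) rfl
theorem r2 {t} (a : S.D G x v d s b) (a' : S.C G x v t) (h1 : 0 < d) (h2 : d < m) :
    S.D G x v (d - m) (t * (s * β)) (-(t * (s * β * S.σ (s * β)))) := fun j =>
  ((a j).r2 (a' (j + (d - m))) (K.o (by omega) (by omega))).congr rfl
    (by simp [K.b1 (i := j + d) (j := j + (d - m)) (by omega)]) (by simp [K.b1 (i := j + d) (j := j + (d - m)) (by omega)])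
theorem r2' {t} (a : S.D G x v d s b) (a' : S.C G x v t) (h1 : -m < d) (h2 : d < 0) :
    S.D G x v (d + m) (-(t * (s * S.σ β))) (-(t * (s * S.σ β * S.σ (s * S.σ β)))) := fun j =>
  ((a j).r2 (a' (j + (d + m))) (K.o (by omega) (by omega))).congr rfl
    (by simp [K.b2 (i := j + d) (j := j + (d + m)) (by omega)]) (by simp [K.b2 (i := j + d) (j := j + (d + m)) (by omega)])

theorem fin (hx : x ∈ G) (hD : ∀ d : ℤ, 0 < d → d < m → ∀ s, S.D G x v d s 0) (hC : ∀ t, S.σ t = t → S.C G x v t)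
    {t} (a : S.IsE g y 0 t) (o : S.Ok y 0 t) : g ∈ G := by
  have m2 := K.m2
  let M : Submodule F V :=
    { carrier := {p | S.h p (S.vv x v 0) = 0 ∧ ∀ s : F, ∃ b, S.Eg G (S.vv x v 0) (s • p) b}
      add_mem' := fun h h' => ⟨by simp [h.1, h'.1], fun s =>
        let ⟨_, a⟩ := h.2 s; let ⟨_, a'⟩ := h'.2 s; ⟨_, (a.mul a').congr rfl (smul_add ..).symm rfl⟩⟩
      zero_mem' := ⟨by simp, fun s => ⟨_, (K.C0 0).congr rfl (by simp) rfl⟩⟩
      smul_mem' := fun r p h => ⟨by simp [h.1], fun s => smul_smul s r p ▸ h.2 _⟩ }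
  have m1 : ∀ d : ℤ, -m < d → d < m → S.vv x v d ∈ M := fun d h1 h2 => ⟨K.o (by omega) (by omega), fun s => ⟨0, by
    rcases lt_trichotomy d 0 with h | rfl | h
    · simpa [S.σσ] using K.symm (hD (-d) (by omega) (by omega) (S.σ s)) (by omega) (by omega) 0
    · exact (hC _ (by simp [S.σσ, add_comm]) 0).self'
    · simpa using hD d h h2 s 0⟩⟩
  obtain ⟨κ, hκ⟩ : ∃ κ, κ = -S.h (S.vv x v (m + 1)) (S.vv x v 0) / β := ⟨_, rfl⟩
  have m3 : S.vv x v (m + 1) + κ • S.vv x v m ∈ M := by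
    have o1 : S.h (S.vv x v (m + 1) + κ • S.vv x v m) (S.vv x v 0) = 0 := by
      simp [K.b1 (i := m) (j := 0) (by simp), hκ, K.β0]
    have t1 := Eg.join (s := κ) (by simpa using (hD 1 one_pos (by omega) (S.σ κ)).addT (hC (κ * S.σ κ) (by simp [S.σσ, mul_comm])) m)
      (hC 1 (by simp) (m + 1)) (K.o (by omega) (by omega))
    refine ⟨o1, fun s => ⟨_, ((hD 1 one_pos (by omega) (-s / S.σ β) 0).r2 t1 (S.sym o1)).congr rfl ?_ rfl⟩⟩
    simp [K.b2 (i := 1) (j := m + 1) (by omega), K.o (i := 1) (j := m) (by omega) (by omega), K.β0]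
  have m4 := K.span (M ⊔ Submodule.span F {S.vv x v m}) fun d h1 h2 => by
    have k := Submodule.mem_sup_right (S := M) (Submodule.mem_span_singleton_self (R := F) (S.vv x v m))
    rcases lt_trichotomy d m with h | rfl | h
    exacts [Submodule.mem_sup_left (m1 d h1 h), k, by
      rw [show d = m + 1 by omega]
      simpa using sub_mem (Submodule.mem_sup_left m3) (Submodule.smul_mem _ κ k)]
  have m5 : ∀ p b, S.Ok (S.vv x v 0) p b → S.Eg G (S.vv x v 0) p b := fun p b o => by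
    obtain ⟨p', h1, _, h2, rfl⟩ := Submodule.mem_sup.1 (m4.ge (Submodule.mem_top (x := p)))
    obtain ⟨α, rfl⟩ := Submodule.mem_span_singleton.1 h2
    obtain rfl : α = 0 := by simpa [h1.1, K.b1 (i := m) (j := 0) (by simp), K.β0] using o.2.1
    obtain ⟨b', a⟩ := h1.2 1
    have := a.1.2.2
    have := o.2.2
    exact (a.addT (hC (b - b') (by simp_all) 0)).congr rfl (by simp) (by simp)
  have m6 : ∀ y, S.Ok y 0 t → S.h y (S.vv x v 0) ≠ 0 → S.Eg G y 0 t := fun y o n => by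
    have ht : S.σ t = t := by simpa using o.2.2
    obtain ⟨p, b, o', k⟩ := mv (y := y) (y' := (S.h y (S.vv x v 0) / β) • S.vv x v m) (K.oo 0) o.1 (by simp [K.oo])
      (by simp [K.b1 (i := m) (j := 0) (by simp), K.β0]) (by simp [K.b1 (i := m) (j := 0) (by simp), K.β0, n])
    obtain ⟨-, g, m, e⟩ := m5 p b o'
    exact ((Eg.scale (hC _ (by simp [S.σσ, ht, mul_comm]) _) ht).conj m).congr (k g e).1 (by simp) rfl
  by_cases h : ∃ k, S.h y (S.vv x v k) ≠ 0
  · obtain ⟨k, h⟩ := h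
    obtain ⟨-, g', m, e⟩ := (m6 (S.ρ (x ^ (-k)) y) (by simpa using o.conj (x ^ (-k))) (by
      rwa [← S.inv (x ^ k), vv_add, zpow_neg, S.ρ_inv', add_zero])).conj (zpow_mem hx k)
    rwa [S.inj (LinearMap.ext fun z => (a z).trans (by simpa using (e z).symm) : S.ρ g = S.ρ g')]
  · push Not at h
    obtain rfl := S.nd y fun z => S.sym ((K.span (LinearMap.ker (S.h.flip y)) fun d _ _ => S.sym (h d)).ge (Submodule.mem_top (x := z)) |> S.sym)
    rw [S.inj (LinearMap.ext fun z => (a z).trans (by simp) : S.ρ g = S.ρ 1)]; exact one_mem _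
end Cy
end Sk
end H09
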