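import Mathlib
import Cfsg.Agent.H09.RuB
/-! A regular unipotent element with a cyclic vector; three conjugates of it. -/
namespace H09
variable {F V H : Type*} [Field F] [AddCommGroup V] [Module F V] [Group H]

theorem nil_span [FiniteDimensional F V] {N : Module.End F V} (h : IsNilpotent N) {n : ℕ} (hn : Module.finrank F V = n) {v : V}
    (h1 : (N ^ (n - 1)) v ≠ 0) (W : Submodule F V) (hW : ∀ k < n, (N ^ k) v ∈ W) : W = ⊤ := by
  have h0 : ∀ k, n ≤ k → (N ^ k) v = 0 := fun k hk => by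
    obtain ⟨j, hj⟩ := h
    have := Module.End.ker_pow_le_ker_pow_finrank N j (show v ∈ _ by simp [hj])
    rw [hn, LinearMap.mem_ker] at this
    rw [← Nat.sub_add_cancel hk, pow_add, Module.End.mul_apply, this, map_zero]
  have li : LinearIndependent F fun k : Fin n => (N ^ k.val) v := Fintype.linearIndependent_iff.2 fun a ha i => by
    induction i using WellFoundedLT.induction with
    | ind i ih =>
      have := congrArg (N ^ (n - 1 - i.val)) ha
      rw [map_sum, Finset.sum_eq_single i (fun j _ e => ?_) (by simp), map_smul, ← Module.End.mul_apply, ← pow_add,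
        show n - 1 - i.val + i.val = n - 1 by omega, map_zero] at this
      · simpa [h1] using this
      rcases lt_or_gt_of_ne e with e | e
      · simp [ih j e]
      · rw [map_smul, ← Module.End.mul_apply, ← pow_add, h0 _ (by have := Fin.lt_def.1 e; omega), smul_zero]
  exact eq_top_iff.2 ((li.span_eq_top_of_card_eq_finrank' (by simp [hn])).ge.trans (Submodule.span_le.2 (by
    rintro _ ⟨k, rfl⟩; exact hW _ k.2)))

namespace Sk
variable (S : Sk F V H)
/-- a hyperbolic basis -/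
structure Hy (e f : ℕ → V) (w : V) (m : ℕ) : Prop where
  ee : ∀ i j, i < m → j < m → S.h (e i) (e j) = 0
  ff : ∀ i j, i < m → j < m → S.h (f i) (f j) = 0
  ef : ∀ i j, i < m → j < m → S.h (e i) (f j) = if i = j then 1 else 0
  we : ∀ i, i < m → S.h w (e i) = 0
  wf : ∀ i, i < m → S.h w (f i) = 0
  span : ∀ W : Submodule F V, (∀ i < m, e i ∈ W) → (∀ i < m, f i ∈ W) → w ∈ W → W = ⊤
  m2 : 2 ≤ m
/-- the regular unipotent element -/
structure Rx (e f : ℕ → V) (w : V) (m : ℕ) (b : F) (x : H) : Prop where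
  xf : ∀ i, i + 1 < m → S.ρ x (f i) = f i - f (i + 1)
  xl : S.ρ x (f (m - 1)) = f (m - 1) - w - b • S.ρ x (e (m - 1))
  e0 : S.ρ x (e 0) = e 0
  xe : ∀ i, i + 1 < m → S.ρ x (e (i + 1)) = e (i + 1) + S.ρ x (e i)
  xw : S.ρ x w = w + S.h w w • S.ρ x (e (m - 1))

variable {S} {e f : ℕ → V} {w : V} {m : ℕ} {b : F} {x : H}
theorem vv_succ {v : V} (k : ℤ) : S.ρ x (S.vv x v k) = S.vv x v (1 + k) := by simpa using vv_add (S := S) (x := x) (v := v) 1 k
namespace Hy
variable (K : S.Hy e f w m)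
include K
theorem fe (i j) (hi : i < m) (hj : j < m) : S.h (f i) (e j) = if j = i then -1 else 0 := by
  rw [S.skew, K.ef j i hj hi]; split_ifs <;> simp
theorem ew (i) (hi : i < m) : S.h (e i) w = 0 := S.sym (K.we i hi)
theorem fw (i) (hi : i < m) : S.h (f i) w = 0 := S.sym (K.wf i hi)

theorem ex (hb : S.σ b = b - S.h w w) : ∃ x, S.Rx e f w m b x := by
  have m2 := K.m2
  have : ∀ k < m, ∃ d, (∀ i < k, S.ρ d (f i) = f i - f (i + 1)) ∧ (∀ i, k ≤ i → i < m → S.ρ d (f i) = f i) ∧ S.ρ d (e 0) = e 0 ∧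
      (∀ i < k, S.ρ d (e (i + 1)) = e (i + 1) + S.ρ d (e i)) ∧ (∀ i, k < i → i < m → S.ρ d (e i) = e i) ∧ S.ρ d w = w := fun k hk => by
    induction k with
    | zero => exact ⟨1, by simp⟩
    | succ k ih =>
      obtain ⟨d, d1, d2, d3, d4, d5, d6⟩ := ih (by omega)
      obtain ⟨g, hg⟩ := S.ex (e k) (f (k + 1)) 0 (K.ee _ _ (by omega) (by omega)) (by simp [K.fe _ _ hk (by omega : k < m)])
        (by simp [K.ff _ _ hk hk])
      have g1 : ∀ i < m, S.ρ g (f i) = f i - if k = i then f (k + 1) else 0 := fun i hi => by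
        rw [hg, K.fe _ _ hi (by omega), K.ff _ _ hi hk]; split_ifs <;> simp [sub_eq_add_neg]
      have g2 : ∀ i < m, S.ρ g (e i) = e i + if i = k + 1 then e k else 0 := fun i hi => by
        rw [hg, K.ee _ _ hi (by omega), K.ef _ _ hi hk]; split_ifs <;> simp
      refine ⟨d * g, fun i hi => ?_, fun i h h' => ?_, ?_, fun i hi => ?_, fun i h h' => ?_, ?_⟩ <;> simp only [S.ρ_mul]
      · rw [g1 i (by omega)]
        split_ifs with c
        · rw [map_sub, ← c, d2 _ le_rfl (by omega), d2 _ (by omega) hk]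
        · rw [sub_zero, d1 i (by omega)]
      · rw [g1 i h', if_neg (by omega), sub_zero, d2 i (by omega) h']
      · rw [g2 0 (by omega), if_neg (by omega), add_zero, d3]
      · rw [g2 _ (by omega), g2 i (by omega), if_neg (by omega : i ≠ k + 1), add_zero]
        split_ifs with c
        · rw [map_add, d5 _ (by omega) (by omega), show k = i by omega]
        · rw [add_zero, d4 i (by omega)]
      · rw [g2 i h', if_neg (by omega), add_zero, d5 i (by omega) h']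
      · rw [hg, K.we _ (by omega), K.wf _ hk]; simpa using d6
  obtain ⟨d, d1, d2, d3, d4, -, d6⟩ := this (m - 1) (by omega)
  obtain ⟨g, hg⟩ := S.ex (e (m - 1)) w b (K.ee _ _ (by omega) (by omega)) (K.we _ (by omega)) hb
  have g2 : ∀ i < m, S.ρ g (e i) = e i := fun i hi => by rw [hg, K.ee _ _ hi (by omega), K.ew _ hi]; simp
  refine ⟨d * g, fun i hi => ?_, ?_, ?_, fun i hi => ?_, ?_⟩ <;> simp only [S.ρ_mul]
  · rw [hg, K.fe _ _ (by omega) (by omega), if_neg (by omega), K.fw _ (by omega)]; simpa using d1 i (by omega)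
  · rw [g2 _ (by omega), hg, K.fe _ _ (by omega) (by omega), K.fw _ (by omega)]; simp [d2 _ le_rfl (by omega), d6, sub_eq_add_neg]
  · rw [g2 _ (by omega), d3]
  · rw [g2 _ hi, g2 _ (by omega), d4 i (by omega)]
  · rw [g2 _ (by omega), hg, K.we _ (by omega)]; simp [d6]
end Hy

namespace Rx
variable (K : S.Hy e f w m) (R : S.Rx e f w m b x)
include R
theorem com (k : ℕ) (y) : ((S.ρ x - 1) ^ k) (S.ρ x y) = S.ρ x (((S.ρ x - 1) ^ k) y) :=
  congrArg (· y) (((Commute.refl (S.ρ x)).sub_left (Commute.one_left _)).pow_left k).eq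
theorem ne (i) (hi : i < m) : ((S.ρ x - 1) ^ i) (S.ρ x (e i)) = e 0 := by
  induction i with
  | zero => simp [R.e0]
  | succ i ih => rw [R.com, pow_succ, Module.End.mul_apply, LinearMap.sub_apply, R.xe i hi]; simp [ih (by omega), R.e0]
theorem ne' (i) (hi : i < m) : ((S.ρ x - 1) ^ (i + 1)) (S.ρ x (e i)) = 0 := by
  rw [pow_succ', Module.End.mul_apply, R.ne i hi]; simp [R.e0]
theorem nf (i) (hi : i < m) : ((S.ρ x - 1) ^ i) (f 0) = (-1 : F) ^ i • f i := by
  induction i with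
  | zero => simp
  | succ i ih => rw [pow_succ', Module.End.mul_apply, ih (by omega), map_smul, LinearMap.sub_apply, R.xf i hi]; simp [pow_succ]
include K
theorem nm : ((S.ρ x - 1) ^ m) (f 0) = (-1 : F) ^ m • (w + b • S.ρ x (e (m - 1))) := by
  obtain ⟨k, rfl⟩ : ∃ k, m = k + 1 := ⟨m - 1, by have := K.m2; omega⟩
  have := R.xl
  simp only [Nat.add_sub_cancel] at this ⊢
  rw [pow_succ', Module.End.mul_apply, R.nf k (by omega), map_smul, LinearMap.sub_apply, this]; simp [pow_succ]; module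
theorem reg1 (hw : w = 0) (b0 : b ≠ 0) : ((S.ρ x - 1) ^ (2 * m - 1)) (f 0) ≠ 0 := by
  have m2 := K.m2
  rw [show 2 * m - 1 = m - 1 + m by omega, pow_add, Module.End.mul_apply, R.nm K, hw, zero_add, map_smul, map_smul, R.ne _ (by omega)]
  intro c; simpa [b0, K.ef 0 0 (by omega) (by omega)] using congrArg (S.h · (f 0)) c
theorem reg2 (hw : S.h w w ≠ 0) : ((S.ρ x - 1) ^ (2 * m)) (f 0) ≠ 0 := by
  have m2 := K.m2
  rw [show 2 * m = m - 1 + 1 + m by omega, pow_add, Module.End.mul_apply, R.nm K, map_smul, map_add, map_smul, R.ne' _ (by omega),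
    pow_succ, Module.End.mul_apply, LinearMap.sub_apply, R.xw]
  intro c; simpa [hw, R.ne _ (by omega : m - 1 < m), K.ef 0 0 (by omega) (by omega)] using congrArg (S.h · (f 0)) c
theorem nil [FiniteDimensional F V] : IsNilpotent (S.ρ x - 1) := by
  have m2 := K.m2
  have n : ∀ y, (S.ρ x - 1) y ∈ (S.ρ x - 1).maxGenEigenspace 0 → y ∈ (S.ρ x - 1).maxGenEigenspace 0 := fun y h => by
    simp only [Module.End.mem_maxGenEigenspace, zero_smul, sub_zero] at h ⊢
    obtain ⟨k, h⟩ := h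
    exact ⟨k + 1, by rwa [pow_succ, Module.End.mul_apply]⟩
  have n1 : ∀ i < m, S.ρ x (e i) ∈ (S.ρ x - 1).maxGenEigenspace 0 := fun i hi => by
    simpa only [Module.End.mem_maxGenEigenspace, zero_smul, sub_zero] using ⟨_, R.ne' i hi⟩
  have n2 : w ∈ _ := n w (by simpa [R.xw] using Submodule.smul_mem _ _ (n1 _ (by omega)))
  have := K.span _ (fun i hi => n _ (by
    rcases i with _ | i
    · simp [R.e0]
    · simpa [R.xe i hi] using n1 i (by omega))) (fun i hi => ?_) n2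
  · exact Module.End.isNilpotent_iff_of_finite.2 fun y => by
      simpa only [Module.End.mem_maxGenEigenspace, zero_smul, sub_zero] using this.ge (Submodule.mem_top (x := y))
  obtain ⟨k, hk⟩ : ∃ k, i + k = m - 1 := ⟨m - 1 - i, by omega⟩
  induction k generalizing i with
  | zero =>
    obtain rfl : i = m - 1 := hk
    refine n _ ?_
    rw [LinearMap.sub_apply, R.xl]
    convert sub_mem (neg_mem n2) (Submodule.smul_mem _ b (n1 (m - 1) hi)) using 1
    simp; abel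
  | succ k ih => exact n _ (by simpa [R.xf i (by omega)] using ih (i + 1) (by omega) (by omega))
theorem vf (k : ℕ) (hk : k < m) : S.vv x (f 0) k ∈ Submodule.span F (f '' {i | i ≤ k}) ∧ S.h (S.vv x (f 0) k) (e k) = -(-1) ^ k := by
  induction k with
  | zero => simpa [vv, K.fe 0 0 hk hk] using Submodule.subset_span ⟨0, by simp⟩
  | succ k ih =>
    have : ∀ y ∈ Submodule.span F (f '' {i | i ≤ k}), S.ρ x y ∈ Submodule.span F (f '' {i | i ≤ k + 1}) ∧
        S.h (S.ρ x y) (e (k + 1)) = -S.h y (e k) := fun y hy => by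
      induction hy using Submodule.span_induction with
      | mem y h =>
        obtain ⟨i, hi, rfl⟩ := h
        replace hi : i ≤ k := hi
        rw [R.xf i (by omega)]
        refine ⟨sub_mem (Submodule.subset_span ⟨i, by simp; omega, rfl⟩) (Submodule.subset_span ⟨i + 1, by simpa, rfl⟩), ?_⟩
        simp [K.fe i _ (by omega) hk, K.fe (i + 1) _ (by omega) hk, K.fe i k (by omega) (by omega), show k + 1 ≠ i by omega]
      | zero => simp
      | add y z _ _ a b => exact ⟨map_add (S.ρ x) y z ▸ add_mem a.1 b.1, by simp [a.2, b.2, add_comm]⟩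
      | smul c y _ a => exact ⟨map_smul (S.ρ x) c y ▸ Submodule.smul_mem _ c a.1, by simp [a.2]⟩
    rw [Nat.cast_succ, add_comm (k : ℤ), ← vv_add, zpow_one]
    obtain ⟨a, b⟩ := ih (by omega)
    exact ⟨(this _ a).1, by rw [(this _ a).2, b]; ring⟩
theorem vo (k : ℕ) (hk : k < m) {z} (hz : ∀ i < m, S.h (f i) z = 0) : S.h (S.vv x (f 0) k) z = 0 :=
  (Submodule.span_le (p := LinearMap.ker (S.h.flip z))).2 (by rintro _ ⟨i, hi, rfl⟩; exact hz i (lt_of_le_of_lt hi hk)) (R.vf K k hk).1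

theorem cy [FiniteDimensional F V] {n : ℕ} (hn : Module.finrank F V = n) (h1 : n ≤ 2 * m + 1) (h2 : ((S.ρ x - 1) ^ (n - 1)) (f 0) ≠ 0)
    (b0 : b ≠ 0) : S.Cy x (f 0) m ((-1) ^ m * b) := by
  have m2 := K.m2
  refine ⟨fun k hk => R.vo K k hk fun i hi => K.ff _ _ hi (by omega), ?_, by simpa, m2, fun W hW => ?_⟩
  · have a1 : ∀ i < m, S.h (S.ρ x (e i)) (f 0) = 1 := fun i hi => by
      induction i with
      | zero => simp [R.e0, K.ef 0 0 hi hi]
      | succ i ih => simp [R.xe i hi, ih (by omega), K.ef _ 0 hi (by omega)]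
    obtain ⟨k, rfl⟩ : ∃ k, m = k + 1 := ⟨m - 1, by omega⟩
    obtain ⟨a, a'⟩ := R.vf K k (by omega)
    have := (Submodule.span_le (p := LinearMap.ker (S.h.flip (f 0) ∘ₗ S.ρ x - b • S.h.flip (e k)))).2 (by
      rintro _ ⟨i, hi, rfl⟩
      rcases (show i ≤ k from hi).lt_or_eq with hi | rfl
      · simp [R.xf i (by omega), K.ff i 0 (by omega) (by omega), K.ff (i + 1) 0 (by omega) (by omega), K.fe i k (by omega) (by omega),
          hi.ne']
      · have := R.xl
        simp only [Nat.add_sub_cancel] at this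
        simp [this, K.ff i 0 (by omega) (by omega), K.wf 0 (by omega), a1 i (by omega), K.fe i i (by omega) (by omega)]) a
    rw [Nat.cast_succ, add_comm (k : ℤ), ← vv_add, zpow_one]
    simp [a'] at this
    linear_combination this
  have a1 : ∀ k j : ℕ, j + k < n → ((S.ρ x - 1) ^ k) (S.vv x (f 0) (j + (1 - m))) ∈ W := fun k => by
    induction k with
    | zero => exact fun j h => hW _ (by omega) (by omega)
    | succ k ih =>
      intro j h
      rw [pow_succ, Module.End.mul_apply, LinearMap.sub_apply, map_sub, vv_succ]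
      exact sub_mem (by simpa [add_comm, add_left_comm, add_assoc] using ih (j + 1) (by omega)) (ih j (by omega))
  refine nil_span (R.nil K) hn (v := S.vv x (f 0) (1 - m)) (fun c => h2 ?_) W fun k hk => by simpa using a1 k 0 (by omega)
  have : Commute ((S.ρ x - 1) ^ (n - 1)) (S.ρ (x ^ (1 - m : ℤ))) :=
    ((((Commute.refl x).zpow_right _).map S.ρ).sub_left (Commute.one_left _)).pow_left _
  rw [vv, ← Module.End.mul_apply, this.eq, Module.End.mul_apply] at c
  simpa using congrArg (S.ρ (x ^ (1 - m : ℤ))⁻¹) c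
theorem y1 (s : F) : ∃ Y, S.IsE (x⁻¹ * Y * x * Y⁻¹) (e 0) 0 (s + S.σ s) := by
  have m2 := K.m2
  have o : S.Ok (e 0) ((-s) • e 1) 0 := by simp [Ok, K.ee 0 0 (by omega) (by omega), K.ee 1 0 m2 (by omega), K.ee 1 1 m2 m2]
  obtain ⟨-, Y, -, hY⟩ := S.eg_top o
  have a1 : S.ρ x⁻¹ (e 1) = e 1 - e 0 := S.ρ_eq (by rw [map_sub, R.xe 0 m2]; simp)
  have := (hY.conj x⁻¹).mul (by rw [S.ρ_eq R.e0]; exact hY.inv o) (o.conj x⁻¹) (by rw [S.ρ_eq R.e0]; exact o.inv)
  refine ⟨Y, fun y => ?_⟩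
  rw [inv_inv] at this
  rw [this, map_smul, a1, S.ρ_eq R.e0]
  simp [K.ee 1 0 m2 (by omega), K.ee 1 1 m2 m2]; module
theorem y2 (m3 : 3 ≤ m) {s : F} (hs : S.σ s = s) : ∃ Y, S.IsE (x⁻¹ * Y * x * Y⁻¹) (e 0) 0 s := by
  have m2 := K.m2
  have k : ∀ i j, i ≤ 2 → j ≤ 2 → S.h (e i) (e j) = 0 := fun i j _ _ => K.ee i j (by omega) (by omega)
  obtain ⟨Y, hY⟩ := S.ex (e 0) ((-s) • e 2) 0 (by simp [k]) (by simp [k]) (by simp [k])
  obtain ⟨Z, hZ⟩ := S.ex (e 1) 0 s (by simp [k]) (by simp [k]) (by simp [hs])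
  have a1 : S.ρ x (e 1) = e 1 + e 0 := by rw [R.xe 0 m2, R.e0]
  have a2 : S.ρ x (e 2) = e 2 + (e 1 + e 0) := by rw [R.xe 1 m3, a1]
  have b0 : ∀ y, S.h (S.ρ x y) (e 0) = S.h y (e 0) := fun y => by rw [← S.inv x y, R.e0]
  have b1 : ∀ y, S.h (S.ρ x y) (e 1) = S.h y (e 1) - S.h y (e 0) := fun y => by simp [← S.inv x y, a1, R.e0]
  have b2 : ∀ y, S.h (S.ρ x y) (e 2) = S.h y (e 2) - S.h y (e 1) := fun y => by simp [← S.inv x y, a1, a2]
  refine ⟨Z * Y, fun y => ?_⟩
  obtain ⟨y, rfl⟩ : ∃ z, S.ρ (Z * Y) z = y := ⟨_, S.ρ_inv' _ y⟩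
  rw [← S.ρ_mul, inv_mul_cancel_right]
  simp only [S.ρ_mul]
  refine S.ρ_eq ?_
  simp [hY, hZ, k, a1, a2, b0, b1, b2, R.e0, hs]; module

theorem core {a l : F} (hl : l * S.σ l = 1) {w'} (o1 : ∀ i < m, S.h w' (e i) = 0) (o2 : ∀ i < m, S.h w' (f i) = 0)
    (o3 : S.h w' w' = l - S.σ l) {Y} (hY : S.IsE (x⁻¹ * Y * x * Y⁻¹) (e 0) 0 a) (ha : S.σ a = a) :
    ∃ g k : H, ∀ G : Subgroup H, x ∈ G → g * x * g⁻¹ ∈ G → k * x * k⁻¹ ∈ G →
      S.C G x (f 0) a ∧ S.D G x (f 0) (m - 1) (a * S.σ l) 0 := by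
  have m2 := K.m2
  obtain ⟨k, rfl⟩ : ∃ k, m = k + 2 := ⟨m - 2, by omega⟩
  obtain ⟨η, hη⟩ : ∃ η : F, η = -(-1) ^ (k + 1) := ⟨_, rfl⟩
  have η1 : η * η = 1 := by simp [hη, ← mul_pow]
  have η2 : S.σ η = η := by simp [hη]
  have l0 : l ≠ 0 := left_ne_zero_of_mul_eq_one hl
  obtain ⟨u, hu⟩ : ∃ u, u = S.vv x (f 0) (k + 1 : ℕ) := ⟨_, rfl⟩
  have u1 : S.h u (e (k + 1)) = η := by rw [hu, hη, (R.vf K _ (by omega)).2]
  have u2 : ∀ j < k + 2, S.h u (f j) = 0 := fun j hj => hu ▸ R.vo K _ (by omega) fun i hi => K.ff _ _ hi hj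
  have u3 : S.h u u = 0 := by
    nth_rw 1 [hu]; exact R.vo K _ (by omega) fun i hi => S.sym (u2 i hi)
  have ee := fun i j (hi : i ≤ 1 ∨ i = k + 1) (hj : j ≤ 1 ∨ j = k + 1) => K.ee i j (by omega) (by omega)
  have ff := fun i j (hi : i ≤ 1) (hj : j ≤ 1) => K.ff i j (by omega) (by omega)
  have ef := fun i j (hi : i ≤ 1 ∨ i = k + 1) (hj : j ≤ 1) => K.ef i j (by omega) (by omega)
  have fe := fun i j (hi : i ≤ 1) (hj : j ≤ 1 ∨ j = k + 1) => K.fe i j (by omega) (by omega)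
  obtain ⟨p, c, o, h⟩ := mv (S := S) (r := η • e (k + 1) + f 1) (y := e 1) (y' := u) (by simp [ee, ff, ef, fe, η2]; split_ifs <;> grind)
    (by simp [ee]) u3 (by simp [ee, ef, u1, u2, η2, η1]) (by simp [u1, u2, η2, η1])
  obtain ⟨-, g1, -, e1⟩ := S.eg_top o
  obtain ⟨c1, c2⟩ := h g1 e1
  replace c2 := c2 (f 0) (by simp [ff, fe]) (by simp [fe, S.sym (u2 0 (by omega))])
  obtain ⟨p, c, o, h⟩ := mv (S := S) (r := (-l) • e 0 + f 0 + w') (y := S.σ l • e 0) (y' := f 0)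
    (by simp [ee, ff, ef, fe, o1, o2, S.sym (o1 0 (by omega)), S.sym (o2 0 (by omega)), o3])
    (by simp [ee]) (by simp [ff]) (by simp [ee, ef, ff, fe, S.sym (o1 0 (by omega)), S.sym (o2 0 (by omega))])
    (by simp [ff, fe, S.sym (o2 0 (by omega)), l0])
  obtain ⟨-, g2, -, e2⟩ := S.eg_top o
  obtain ⟨c3, c4⟩ := h g2 e2
  replace c4 := c4 (e 1) (by simp [ee, ef, S.sym (o1 1 (by omega))]) (by simp [ee, ef])
  obtain ⟨g, g0, g1⟩ : ∃ g, S.ρ g (l • f 0) = e 0 ∧ S.ρ g u = e 1 :=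
    ⟨g2 * g1, by rw [S.ρ_mul, map_smul, c2, map_smul, c3, smul_smul, hl, one_smul], by rw [S.ρ_mul, c1, c4]⟩
  refine ⟨g⁻¹, g⁻¹ * Y, fun G m1 m2 m3 => ?_⟩
  have a1 : S.C G x (f 0) a := C.of (i := 0) m1 ⟨⟨by simp [vv_zero, ff], by simp, by simp [ha]⟩, _, mul_mem (inv_mem m2) m3, by
    have := hY.conj g⁻¹
    rw [S.ρ_eq g0, map_zero] at this
    convert this.scale using 1
    · group
    · exact vv_zero
    · rw [hl, mul_one]⟩
  refine ⟨a1, D.of (i := 0) (j := (k + 1 : ℕ)) m1 ?_ (by push_cast; ring)⟩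
  have a2 := (a1 (k + 1 : ℕ)).conj m2
  rw [← hu, inv_inv, S.ρ_mul, S.ρ_mul, g1, R.xe 0 (by omega), R.e0, map_add, S.ρ_eq g0, S.ρ_eq g1, map_zero] at a2
  have a3 := (a2.split (hu ▸ a1 _) (by simp [ff]) (u2 0 (by omega))).addT (vv_zero (S := S) (x := x) (v := f 0) ▸ a1.neg 0)
  rw [vv_zero, ← hu]
  exact a3.congr rfl rfl (by simp [hl])
end Rx
end Sk
end H09
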