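import Mathlib
import Cfsg.Agent.H09.RuC
import Cfsg.Agent.H09.PresSLa
/-! Filling up the root subgroups along a cyclic basis. -/
namespace H09
variable {F V H : Type*} [Field F] [AddCommGroup V] [Module F V] [Group H]

theorem subring_inv [Finite F] (K : Subring F) {x : F} (hx : x ∈ K) : x⁻¹ ∈ K := by
  have := Fintype.ofFinite F
  by_cases x0 : x = 0
  · simpa [x0] using K.zero_mem
  have : x⁻¹ = x ^ (Fintype.card F - 2) := by
    refine inv_eq_of_mul_eq_one_right ?_
    rw [← pow_succ', ← FiniteField.pow_card_sub_one_eq_one x x0]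
    have := Fintype.one_lt_card (α := F)
    congr 1; omega
  exact this ▸ K.pow_mem hx _

/-- the multipliers of an additive subgroup -/
def mulr (A : AddSubgroup F) : Subring F where
  carrier := {x | ∀ y ∈ A, x * y ∈ A}
  mul_mem' h h' y p := mul_assoc _ _ y ▸ h _ (h' y p)
  one_mem' y p := (one_mul y).symm ▸ p
  add_mem' h h' y p := (add_mul _ _ y).symm ▸ add_mem (h y p) (h' y p)
  zero_mem' y _ := (zero_mul y).symm ▸ zero_mem _
  neg_mem' h y p := (neg_mul _ y).symm ▸ neg_mem (h y p)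

namespace Sk
variable {S : Sk F V H} {G : Subgroup H} {x : H} {v : V} {m : ℕ} {β a l s t : F} {d : ℤ}
namespace Cy
variable (K : S.Cy x v m β)
/-- parameters of transvections -/
def CA (G : Subgroup H) : AddSubgroup F where
  carrier := {t | S.C G x v t}
  add_mem' := C.add
  zero_mem' := K.C0
  neg_mem' := C.neg
/-- parameters of short root elements -/
def DA (G : Subgroup H) (d : ℤ) : AddSubgroup F where
  carrier := {t | S.D G x v d t 0}
  add_mem' h h' := (K.add h h').congr rfl rfl (add_zero _)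
  zero_mem' := K.D0 d
  neg_mem' h := (K.neg h).congr rfl rfl neg_zero
@[simp] theorem mem_CA : t ∈ K.CA G ↔ S.C G x v t := Iff.rfl
@[simp] theorem mem_DA : t ∈ K.DA G d ↔ S.D G x v d t 0 := Iff.rfl
include K
theorem flip (h : S.D G x v d s 0) (h' : S.C G x v t) (h'' : S.C G x v (t * (s * β * S.σ (s * β)))) (h1 : 0 < d) (h2 : d < m) :
    S.D G x v (m - d) (t * S.σ (s * β)) 0 :=
  (K.symm (((K.r2 h h' h1 h2).addT h'').congr rfl rfl (neg_add_cancel _)) (by omega) (by omega)).congr (by ring) (by simp [h'.fix]) rfl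
theorem down (h : S.D G x v (m - 1) a 0) (h' : S.D G x v d s 0) (h2 : d < m) (k : ℕ) (hk : k < d) :
    S.D G x v (d - k) (s * (a * β) ^ k) 0 := by
  induction k with
  | zero => simpa using h'
  | succ k ih => exact (K.r1 (ih (by omega)) h (by omega) (by omega) (by have := K.m2; omega) (by omega)).congr (by push_cast; ring) (by ring) rfl
theorem all (h : S.D G x v (m - 1) β⁻¹ 0) (h' : S.D G x v (m - 1) s 0) (h1 : 0 < d) (h2 : d < m) : S.D G x v d s 0 := by
  obtain ⟨k, hk⟩ : ∃ k : ℕ, d = m - 1 - k := ⟨(m - 1 - d).toNat, by omega⟩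
  exact (K.down h h' (by omega) k (by omega)).congr hk.symm (by simp [K.β0]) rfl

theorem su (hl : β * S.σ β = 1) (hn : β ≠ S.σ β) (hg : ∀ L : Subring F, β ∈ L → L = ⊤) (a1 : S.C G x v 1)
    (a2 : S.D G x v (m - 1) (S.σ β) 0) : (∀ d : ℤ, 0 < d → d < m → ∀ s, S.D G x v d s 0) ∧ ∀ t, S.σ t = t → S.C G x v t := by
  have m2 := K.m2
  have hl' : S.σ β * β = 1 := by rw [mul_comm, hl]
  have a0 : S.D G x v (m - 1) β⁻¹ 0 := a2.congr rfl (eq_inv_of_mul_eq_one_left hl') rfl
  have a3 : ∀ t, S.C G x v t → S.D G x v (m - 1) t 0 := fun t h => by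
    simpa [hl'] using K.flip (K.all a0 a2 one_pos (by omega)) h (by simpa [hl']) one_pos (by omega)
  have a4 : β + S.σ β ∈ mulr (K.CA G) := fun t h => by
    have := ((K.r1 (K.all a0 (a3 1 a1) one_pos (by omega)) (a3 t h) one_pos (by omega) (by omega) (by omega)).congr (by ring) rfl rfl).self
    rw [mem_CA]
    convert this using 1
    simp [C.fix h]; ring
  have a5 : ∀ s, ∃ α ∈ mulr (K.CA G), ∃ γ ∈ mulr (K.CA G), s = α + γ * β := fun s => (hg
    { carrier := {s | ∃ α ∈ mulr (K.CA G), ∃ γ ∈ mulr (K.CA G), s = α + γ * β}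
      mul_mem' := by
        rintro _ _ ⟨a, ha, b, hb, rfl⟩ ⟨c, hc, d, hd, rfl⟩
        exact ⟨_, sub_mem (mul_mem ha hc) (mul_mem hb hd), _, add_mem (add_mem (mul_mem ha hd) (mul_mem hb hc))
          (mul_mem (mul_mem hb hd) a4), by linear_combination -b * d * hl⟩
      one_mem' := ⟨_, one_mem _, _, zero_mem _, by simp⟩
      add_mem' := by
        rintro _ _ ⟨a, ha, b, hb, rfl⟩ ⟨c, hc, d, hd, rfl⟩
        exact ⟨_, add_mem ha hc, _, add_mem hb hd, by ring⟩
      zero_mem' := ⟨_, zero_mem _, _, zero_mem _, by simp⟩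
      neg_mem' := by
        rintro _ ⟨a, ha, b, hb, rfl⟩
        exact ⟨_, neg_mem ha, _, neg_mem hb, by ring⟩ } ⟨_, zero_mem _, _, one_mem _, by simp⟩).ge (Subring.mem_top s)
  have a6 : ∀ t ∈ mulr (K.CA G), S.C G x v t := fun t h => by simpa using h 1 a1
  have a7 : ∀ t, S.σ t = t → S.C G x v t := fun t h => by
    obtain ⟨α, ha, γ, hc, rfl⟩ := a5 t
    obtain rfl : γ = 0 := by
      simp only [map_add, map_mul, (a6 _ ha).fix, (a6 _ hc).fix] at h
      exact mul_right_cancel₀ (sub_ne_zero.2 hn) (by linear_combination -h)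
    simpa using a6 _ ha
  refine ⟨fun d h1 h2 s => K.all a0 ?_ h1 h2, a7⟩
  obtain ⟨α, ha, γ, hc, e⟩ := a5 (S.σ s)
  refine (K.add (a3 _ (a6 _ ha)) (K.flip (K.all a0 (a3 1 a1) one_pos (by omega)) (a6 _ hc) (by simpa [hl] using a6 _ hc) one_pos
    (by omega))).congr rfl ?_ (add_zero _)
  simpa [S.σσ, (a6 _ ha).fix, (a6 _ hc).fix] using congrArg S.σ e.symm
end Cy

variable [Finite F] (K : S.Cy x v m 1) (hσ : ∀ a, S.σ a = a) (a0 : a ≠ 0) (ha : ∀ c ≠ 0, ∃ k : ℕ, a ^ k = c) (a1 : S.C G x v a)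
  (a2 : S.D G x v (m - 1) a 0)
include K hσ a0 ha a1 a2
theorem Cy.sp (h : ∀ t, S.C G x v t → S.C G x v (t * (a * a))) :
    (∀ d : ℤ, 0 < d → d < m → ∀ s, S.D G x v d s 0) ∧ ∀ t, S.σ t = t → S.C G x v t := by
  have m2 := K.m2
  have a3 : ∀ t, S.C G x v t := fun t => by
    simpa [a0] using (span_sq ha ((K.CA G).comap (AddMonoidHom.mulLeft a)) (by simpa using a1) fun t p => by
      simpa [mul_assoc] using h _ p).ge (AddSubgroup.mem_top (a⁻¹ * t))
  have a4 : ∀ s, S.D G x v (m - 1) s 0 := fun s => by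
    simpa [hσ] using K.flip (K.flip a2 (a3 a⁻¹) (a3 _) (by omega) (by omega) |>.congr (d' := 1) (s' := 1) (by ring) (by simp [hσ, a0]) rfl)
      (a3 s) (a3 _) one_pos (by omega)
  exact ⟨fun d h1 h2 s => K.all (a4 _) (a4 s) h1 h2, fun t _ => a3 t⟩
theorem Cy.sp_odd (h2 : (2 : F) ≠ 0) : (∀ d : ℤ, 0 < d → d < m → ∀ s, S.D G x v d s 0) ∧ ∀ t, S.σ t = t → S.C G x v t :=
  K.sp hσ a0 ha a1 a2 fun t h => by
    have m2 := K.m2
    have := Fintype.ofFinite F
    have b1 := ((K.add (K.r2 a2 h (by omega) (by omega)) (K.r2 ((K.neg a2).congr rfl rfl neg_zero) h (by omega) (by omega))).congr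
      rfl (by ring) rfl).toC
    have b2 : -(2 ^ (Fintype.card F - 2) • _) ∈ K.CA G := neg_mem (nsmul_mem b1 _)
    rw [Cy.mem_CA] at b2
    convert b2 using 1
    have := FiniteField.pow_card_sub_one_eq_one _ h2
    rw [show Fintype.card F - 1 = Fintype.card F - 2 + 1 by have := Fintype.one_lt_card (α := F); omega, pow_succ] at this
    simp only [hσ, nsmul_eq_mul]; push_cast
    linear_combination -t * a * a * this
theorem Cy.sp_big (m3 : 3 ≤ m) : (∀ d : ℤ, 0 < d → d < m → ∀ s, S.D G x v d s 0) ∧ ∀ t, S.σ t = t → S.C G x v t := by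
  obtain ⟨k, rfl⟩ : ∃ k, m = k + 3 := ⟨m - 3, by omega⟩
  have b1 : ∀ s ∈ K.DA G 1, a ^ k * s ∈ mulr (K.DA G 1) := fun s h t h' =>
    (K.down a2 (K.symm (K.r1 h h' one_pos (by omega) one_pos (by omega)) (by omega) (by omega)) (by omega) k (by omega)).congr
      (by push_cast; ring) (by simp [hσ]; ring) rfl
  have b2 : a ^ (k + 2) ∈ K.DA G 1 := (K.down a2 a2 (by omega) (k + 1) (by omega)).congr (by push_cast; ring) (by ring) rfl
  have b3 : a ^ (k + 2) * (a * a) ∈ K.DA G 1 := (K.symm (K.r1 b2 (K.down a2 a2 (by omega) 1 (by omega)) one_pos (by omega) (by omega)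
    (by omega)) (by omega) (by omega)).congr (by push_cast; ring) (by simp [hσ]) rfl
  have b4 : a * a ∈ mulr (K.DA G 1) := by
    convert mul_mem (b1 _ b3) (subring_inv _ (b1 _ b2)) using 1
    field_simp
  have b5 : ∀ s, S.D G x v 1 s 0 := fun s => by
    simpa [a0] using (span_sq ha (mulr (K.DA G 1)).toAddSubgroup (mulr _).one_mem fun t p => (mulr _).mul_mem p b4).ge
      (AddSubgroup.mem_top (s / a ^ (k + 2))) _ b2
  exact K.sp hσ a0 ha a1 a2 fun t h => by
    simpa [hσ] using ((K.add ((K.r2 a2 h (by omega) (by omega)).congr (by push_cast; ring) rfl rfl)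
      (K.symm (b5 (-(t * a))) (by omega) (by omega))).congr rfl (by simp [hσ]) rfl).toC.neg
omit a2 in
theorem Cy.sp_two (m2 : m = 2) (h2 : (2 : F) = 0) (b1 : S.C G x v 1) (b2 : S.D G x v 1 1 0) :
    (∀ d : ℤ, 0 < d → d < m → ∀ s, S.D G x v d s 0) ∧ ∀ t, S.σ t = t → S.C G x v t := by
  subst m2
  have : CharP F 2 := CharTwo.of_one_ne_zero_of_two_eq_zero one_ne_zero h2
  have c1 : ∀ t, S.C G x v t → S.D G x v 1 t 0 := fun t h => by
    simpa using K.flip b2 h (by simpa) one_pos (by omega)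
  have c2 : ∀ c t, S.C G x v c → S.C G x v t → S.C G x v ((c + c * c) * (t * t)) := fun c t h h' => by
    have := ((K.add (K.r2 (c1 t h') h one_pos (by omega)) (K.r2 ((K.r2' (K.symm (c1 t h') (by omega) (by omega)) h (by omega)
      (by omega)).congr (d' := 1) (by omega) rfl rfl) b1 one_pos (by omega))).congr rfl (by simp [hσ]) rfl).toC.neg
    convert this using 1
    simp [hσ]; ring
  have c3 : ∀ t, S.C G x v t → S.C G x v (t * t) := fun t h => by
    simpa [hσ] using ((K.add (K.r2 (c1 t h) b1 one_pos (by omega)) ((K.symm (c1 _ h.neg) (by omega) (by omega)).congr (by omega) rfl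
      rfl)).congr rfl (by simp [hσ]) rfl).toC.neg
  have c4 : a + a * a ∈ mulr (K.CA G) := fun t h => by
    have := Fintype.ofFinite F
    obtain ⟨⟨n, n0⟩, -, hn⟩ := FiniteField.card F 2
    have : ∀ j, S.C G x v (t ^ 2 ^ j) := fun j => by
      induction j with
      | zero => simpa using h
      | succ j ih => simpa [pow_succ, pow_mul] using c3 _ ih
    rw [Cy.mem_CA]
    convert c2 a _ a1 (this (n - 1)) using 2
    rw [← sq, ← pow_mul, ← pow_succ, Nat.sub_add_cancel n0]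
    exact (hn ▸ FiniteField.pow_card t).symm
  have c5 : ∀ j : ℕ, ∃ α ∈ mulr (K.CA G), ∃ γ ∈ mulr (K.CA G), a ^ j = α + γ * a := fun j => by
    induction j with
    | zero => exact ⟨_, one_mem _, _, zero_mem _, by simp⟩
    | succ j ih =>
      obtain ⟨α, h, γ, h', e⟩ := ih
      exact ⟨_, mul_mem h' c4, _, sub_mem h h', by rw [pow_succ, e]; ring⟩
  have c6 : ∀ t, S.C G x v t := fun t => by
    by_cases t0 : t = 0
    · exact t0 ▸ K.C0
    obtain ⟨j, rfl⟩ := ha t t0
    obtain ⟨α, h, γ, h', e⟩ := c5 j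
    simpa [e] using C.add (h 1 b1) (h' a a1)
  exact ⟨fun d h1 h2 s => (c1 s (c6 s)).congr (by omega) rfl rfl, fun t _ => c6 t⟩
end Sk
end H09
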