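import Mathlib
import Cfsg.Agent.H09.RuD
import Cfsg.Agent.H09.Sp
/-! `Sp₂ₙ(q)` is generated by three conjugate regular unipotent elements. -/
namespace H09
open Matrix Sum
variable {F V H : Type*} [Field F] [AddCommGroup V] [Module F V] [Group H]

namespace Sk
variable {S : Sk F V H} {e f : ℕ → V} {w : V} {m : ℕ} {b : F} {x : H}
theorem Hy.isE (K : S.Hy e f 0 2) {g r c} (h : ∀ y ∈ [e 0, e 1, f 0, f 1], S.ρ g y = y + (c * S.h y r) • r) : S.IsE g r 0 c := fun y => by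
  have : ∀ i < 2, i = 0 ∨ i = 1 := by omega
  simpa using (K.span (LinearMap.eqLocus (S.ρ g) (LinearMap.id + c • (S.h.flip r).smulRight r))
    (fun i hi => by rcases this i hi with rfl | rfl <;> simpa [mul_smul] using h _ (by simp))
    (fun i hi => by rcases this i hi with rfl | rfl <;> simpa [mul_smul] using h _ (by simp)) (zero_mem _)).ge (Submodule.mem_top (x := y))
    |>.trans (by simp [mul_smul])

theorem Rx.core3 (K : S.Hy e f 0 2) (R : S.Rx e f 0 2 1 x) (hσ : ∀ a, S.σ a = a) (h2 : (2 : F) = 0) {μ κ : F}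
    (μ0 : μ ≠ 0) (κ0 : κ ≠ 0) (hμ : μ * μ = 1 + κ * κ) {T g : H} (T1 : ∀ i < 2, S.ρ T (e i) = μ • e i)
    (T2 : ∀ i < 2, S.ρ T (f i) = μ⁻¹ • f i) (g1 : S.ρ g (f 0) = κ • e 1) (g2 : S.ρ g (f 1) = κ • (e 0 + e 1))
    (g3 : S.ρ g (e 0 + e 1) = κ⁻¹ • f 1 + κ • e 1) (G : Subgroup H) (m1 : x ∈ G) (m2 : g⁻¹ * x * g⁻¹⁻¹ ∈ G)
    (m3 : g⁻¹ * T * x * (g⁻¹ * T)⁻¹ ∈ G) : S.C G x (f 0) 1 ∧ S.D G x (f 0) 1 1 0 ∧ S.C G x (f 0) (κ⁻¹ * κ⁻¹) := by
  have ee := fun i j (hi : i ≤ 1) (hj : j ≤ 1) => K.ee i j (by omega) (by omega)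
  have ff := fun i j (hi : i ≤ 1) (hj : j ≤ 1) => K.ff i j (by omega) (by omega)
  have ef := fun i j (hi : i ≤ 1) (hj : j ≤ 1) => K.ef i j (by omega) (by omega)
  have fe := fun i j (hi : i ≤ 1) (hj : j ≤ 1) => K.fe i j (by omega) (by omega)
  have x0 := R.e0
  have x1 : S.ρ x (e 1) = e 1 + e 0 := by rw [R.xe 0 (by omega), x0]
  have x2 : S.ρ x (f 0) = f 0 - f 1 := R.xf 0 (by omega)
  have x3 : S.ρ x (f 1) = f 1 - (e 1 + e 0) := by simpa [x1] using R.xl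
  have t1 : ∀ i < 2, S.ρ T⁻¹ (e i) = μ⁻¹ • e i := fun i h => S.ρ_eq (by simp [T1 i h, smul_smul, μ0])
  have t2 : ∀ i < 2, S.ρ T⁻¹ (f i) = μ • f i := fun i h => S.ρ_eq (by simp [T2 i h, smul_smul, μ0])
  have v1 : S.vv x (f 0) 1 = f 0 - f 1 := by simp [vv, x2]
  have v2 : S.vv x (f 0) (1 + 1) = f 0 + (e 0 + e 1) := by
    rw [← vv_succ, v1, map_sub, x2, x3, ← sub_eq_zero, ← neg_eq_zero, ← zero_smul F (f 1), ← h2, two_smul]; abel
  have a0 : S.ρ g⁻¹ (e 1) = κ⁻¹ • f 0 := S.ρ_eq (by simp [g1, smul_smul, κ0])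
  have a1 : S.IsE (x⁻¹ * (T * x * T⁻¹)) (e 1) 0 (κ * κ) := K.isE (by
    simp only [List.forall_mem_cons, S.ρ_mul]
    refine ⟨S.ρ_eq ?_, S.ρ_eq ?_, S.ρ_eq ?_, S.ρ_eq ?_, by simp⟩ <;> simp [t1, t2, T1, T2, x0, x1, x2, x3, ee, fe, smul_smul, μ0]
    all_goals match_scalars <;> grind)
  have b1 : S.C G x (f 0) 1 := C.of (i := 0) m1 ⟨⟨by simp [vv_zero, ff], by simp, by simp⟩, _, mul_mem (inv_mem m2) m3, by
    have := a1.conj g⁻¹
    rw [a0, map_zero] at this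
    convert this.scale using 1
    · group
    · exact vv_zero
    · simp [hσ]; field_simp⟩
  have b2 : S.D G x (f 0) 1 1 0 := by
    have a2 := (b1 0).conj m2
    rw [vv_zero, inv_inv, S.ρ_mul, S.ρ_mul, g1, map_smul, x1, map_zero, S.ρ_eq (y := S.vv x (f 0) 1 + (1 : F) • f 0) (by
      rw [v1, map_add, map_sub, map_smul, g1, g2]; match_scalars <;> grind)] at a2
    refine D.of (i := 0) (j := 1) m1 ?_ rfl
    exact ((a2.split (b1 1) (by simp [ff]) (by simp [v1, ff])).addT (vv_zero (S := S) (x := x) (v := f 0) ▸ b1.neg 0)).congr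
      vv_zero.symm (by simp) (by simp)
  refine ⟨b1, b2, ?_⟩
  obtain ⟨o, d, m4, a3⟩ := b2 1
  replace a3 := (a3.inv o).conj g
  have a4 : S.IsE (g * d⁻¹ * g⁻¹ * x) (e 1) 0 1 := K.isE (by
    simp only [List.forall_mem_cons, S.ρ_mul _ x, a3 _, v1, v2, map_neg, map_smul, map_sub, map_add _ (f 0), g1, g2, g3]
    refine ⟨?_, ?_, ?_, ?_, by simp⟩ <;> simp [x0, x1, x2, x3, ee, fe, ef, ff, hσ] <;> match_scalars <;> grind)
  refine C.of (i := 0) m1 ⟨⟨by simp [vv_zero, ff], by simp, by simp [hσ]⟩, _, mul_mem (inv_mem m4) m2, ?_⟩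
  have := a4.conj g⁻¹
  rw [a0, map_zero] at this
  convert this.scale using 1
  · group
  · exact vv_zero
  · simp [hσ]
end Sk

variable (n : ℕ) (F) in
/-- the symplectic group as a skew-Hermitian datum -/
noncomputable def spSk : Sk F (Fin n ⊕ Fin n → F) (symplecticGroup (Fin n) F) where
  σ := RingHom.id F
  h := spB (Fin n) F
  ρ := ⟨⟨fun g => toLin' g.1, toLin'_one⟩, fun a b => toLin'_mul _ _⟩
  σσ _ := rfl
  skew x y := (spB_alt.neg_eq x y).symm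
  inv := sp_pres
  nd := spB_nondeg.2
  inj _ _ h := Subtype.ext (toLin'.injective h)
  ex r p b _ h _ := ⟨spOfLinear (LinearMap.id + ((spB _ F).flip r).smulRight p + ((spB _ F).flip p).smulRight r +
    b • ((spB _ F).flip r).smulRight r) fun u v => by
      simp [spB_alt.self_eq_zero, h, ← spB_alt.neg_eq p r, ← spB_alt.neg_eq v p, ← spB_alt.neg_eq v r]; ring,
    fun y => (spOfLinear_smul ..).trans (by simp [mul_smul])⟩

theorem spSk_h {n} (x y) : (spSk F n).h x y = spB (Fin n) F x y := rfl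
@[simp] theorem spSk_σ {n} (a) : (spSk F n).σ a = a := rfl
theorem spSk_ρ {n} (g y) : (spSk F n).ρ g y = g • y := rfl
variable (F) in
/-- standard vectors -/
def spe (n i : ℕ) : Fin n ⊕ Fin n → F := Sum.elim 0 fun j => if j.val = i then 1 else 0
variable (F) in
/-- standard vectors -/
def spf (n i : ℕ) : Fin n ⊕ Fin n → F := Sum.elim (fun j => if j.val = i then 1 else 0) 0

theorem sp_hy {n : ℕ} (hn : 2 ≤ n) : (spSk F n).Hy (spe F n) (spf F n) 0 n := by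
  have he : ∀ i : Fin n, spe F n i = Pi.single (inr i) (1 : F) := fun i => by ext (a | a) <;> simp [spe, Pi.single_apply, Fin.ext_iff]
  have hf : ∀ i : Fin n, spf F n i = Pi.single (inl i) (1 : F) := fun i => by ext (a | a) <;> simp [spf, Pi.single_apply, Fin.ext_iff]
  refine ⟨fun i j _ _ => by simp [spSk_h, spB_apply', spe], fun i j _ _ => by simp [spSk_h, spB_apply', spf],
    fun i j hi hj => ?_, by simp, by simp, fun W h h' _ => eq_top_iff.2 fun y _ => ?_, hn⟩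
  · rw [spSk_h, he ⟨i, hi⟩, spB_single_inr]; simp [spf]
  rw [pi_eq_sum_univ' y]
  refine sum_mem fun a _ => W.smul_mem _ ?_
  rcases a with a | a
  exacts [hf a ▸ h' a a.2, he a ▸ h a a.2]

theorem sp_wit {e0 e1 f0 f1 : Fin 2 ⊕ Fin 2 → F} (h1 : spB _ F e0 e1 = 0) (h2 : spB _ F f0 f1 = 0) (h3 : spB _ F e0 f0 = 1)
    (h4 : spB _ F e0 f1 = 0) (h5 : spB _ F e1 f0 = 0) (h6 : spB _ F e1 f1 = 1) : ∃ g : symplecticGroup (Fin 2) F,
      g • spe F 2 0 = e0 ∧ g • spe F 2 1 = e1 ∧ g • spf F 2 0 = f0 ∧ g • spf F 2 1 = f1 := by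
  refine ⟨spOfLinear ((LinearMap.proj (inr 0)).smulRight e0 + (LinearMap.proj (inr 1)).smulRight e1 +
    (LinearMap.proj (inl 0)).smulRight f0 + (LinearMap.proj (inl 1)).smulRight f1) fun u v => ?_, ?_, ?_, ?_, ?_⟩
  · rw [spB_apply' u v]
    simp [spB_alt.self_eq_zero, h1, h2, h3, h4, h5, h6, ← spB_alt.neg_eq e0 e1, ← spB_alt.neg_eq f0 f1, ← spB_alt.neg_eq e0 f0,
      ← spB_alt.neg_eq e0 f1, ← spB_alt.neg_eq e1 f0, ← spB_alt.neg_eq e1 f1]; ring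
  all_goals simp [spe, spf]

theorem sp_four_ru [Finite F] (h2 : (2 : F) = 0) {a : F} (a0 : a ≠ 0) (a1 : a ≠ 1) {x} (R : (spSk F 2).Rx (spe F 2) (spf F 2) 0 2 1 x) :
    ∃ g k, ∀ G : Subgroup _, x ∈ G → g * x * g⁻¹ ∈ G → k * x * k⁻¹ ∈ G → (spSk F 2).C G x (spf F 2 0) 1 ∧
      (spSk F 2).D G x (spf F 2 0) 1 1 0 ∧ (spSk F 2).C G x (spf F 2 0) a := by
  have : CharP F 2 := CharTwo.of_one_ne_zero_of_two_eq_zero one_ne_zero h2
  obtain ⟨κ, hκ⟩ := surjective_frobenius F 2 a⁻¹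
  obtain ⟨μ, hμ⟩ := surjective_frobenius F 2 (1 + a⁻¹)
  rw [frobenius_def, sq] at hκ hμ
  have κ0 : κ ≠ 0 := by rintro rfl; simp [eq_comm, a0] at hκ
  have μ0 : μ ≠ 0 := by rintro rfl; grind
  have K := sp_hy (F := F) (n := 2) le_rfl
  have ee := fun i j (hi : i ≤ 1) (hj : j ≤ 1) => (spSk_h ..).symm.trans (K.ee i j (by omega) (by omega))
  have ff := fun i j (hi : i ≤ 1) (hj : j ≤ 1) => (spSk_h ..).symm.trans (K.ff i j (by omega) (by omega))
  have ef := fun i j (hi : i ≤ 1) (hj : j ≤ 1) => (spSk_h ..).symm.trans (K.ef i j (by omega) (by omega))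
  have fe := fun i j (hi : i ≤ 1) (hj : j ≤ 1) => (spSk_h ..).symm.trans (K.fe i j (by omega) (by omega))
  obtain ⟨T, T1, T2, T3, T4⟩ := sp_wit (e0 := μ • spe F 2 0) (e1 := μ • spe F 2 1) (f0 := μ⁻¹ • spf F 2 0) (f1 := μ⁻¹ • spf F 2 1)
    (by simp [ee]) (by simp [ff]) (by simp [ef, μ0]) (by simp [ef]) (by simp [ef]) (by simp [ef, μ0])
  obtain ⟨g, g1, g2, g3, g4⟩ := sp_wit (e0 := κ⁻¹ • (spf F 2 0 + spf F 2 1) + κ • (spe F 2 0 + spe F 2 1)) (e1 := κ⁻¹ • spf F 2 0 + κ • spe F 2 0)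
    (f0 := κ • spe F 2 1) (f1 := κ • (spe F 2 0 + spe F 2 1)) (by simp [ee, ff, ef, fe, κ0]) (by simp [ee])
    (by simp [ee, fe, κ0]; grind) (by simp [ee, fe, κ0]; grind) (by simp [ee, fe]) (by simp [ee, fe, κ0]; grind)
  have c : ∀ i < 2, i = 0 ∨ i = 1 := by omega
  refine ⟨g⁻¹, g⁻¹ * T, fun G m1 m2 m3 => ?_⟩
  have := Sk.Rx.core3 (sp_hy le_rfl) R (fun _ => rfl) h2 μ0 κ0 (hμ.trans (by rw [hκ])) (T := T) (g := g)
    (fun i h => by rcases c i h with rfl | rfl; exacts [T1, T2]) (fun i h => by rcases c i h with rfl | rfl; exacts [T3, T4]) g3 g4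
    (by rw [map_add, spSk_ρ, spSk_ρ, g1, g2]; match_scalars <;> first | ring1 | linear_combination κ⁻¹ * h2 | linear_combination κ * h2)
    G m1 m2 m3
  rwa [← mul_inv, hκ, inv_inv] at this

theorem Sp_ru [Fintype F] {n : ℕ} (hn : 2 ≤ n) (h22 : ¬ (n = 2 ∧ Fintype.card F = 2)) : ∃ u g h : symplecticGroup (Fin n) F,
    IsNilpotent (u.1 - 1) ∧ (u.1 - 1) ^ (2 * n - 1) ≠ 0 ∧ Subgroup.closure {u, g * u * g⁻¹, h * u * h⁻¹} = ⊤ := by
  have K := sp_hy (F := F) hn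
  obtain ⟨x, R⟩ := K.ex (b := (-1) ^ n) (by simp)
  have r := R.reg1 K rfl (by simp)
  have C := R.cy K (n := 2 * n) (by simp [two_mul]) (by omega) r (by simp)
  rw [← mul_pow, neg_one_mul, neg_neg, one_pow] at C
  obtain ⟨a, a0, ha, ha'⟩ := exists_gen (K := F)
  suffices ∃ g k, ∀ G : Subgroup _, x ∈ G → g * x * g⁻¹ ∈ G → k * x * k⁻¹ ∈ G → (∀ d : ℤ, 0 < d → d < n → ∀ s,
      (spSk F n).D G x (spf F n 0) d s 0) ∧ ∀ t, (spSk F n).σ t = t → (spSk F n).C G x (spf F n 0) t by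
    obtain ⟨g, k, h⟩ := this
    have t : ∀ j, (((spSk F n).ρ x - 1) ^ j) = toLin' ((x.1 - 1) ^ j) := fun j => by simp [spSk, toLin'_pow, Module.End.one_eq_id]
    refine ⟨x, g, k, (R.nil K).imp fun j hj => toLin'.injective (by rw [← t, hj, map_zero]), fun c => r (by simp [t, c]),
      sp_eq_top_of_tv_mem _ fun y c => ?_⟩
    have m1 : x ∈ Subgroup.closure {x, g * x * g⁻¹, k * x * k⁻¹} := Subgroup.subset_closure (by simp)
    obtain ⟨h1, h2⟩ := h _ m1 (Subgroup.subset_closure (by simp)) (Subgroup.subset_closure (by simp))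
    exact C.fin m1 h1 h2 (y := y) (t := c) (fun z => (spTv_smul ..).trans (by simp; rfl)) ⟨spB_alt.self_eq_zero _, by simp, by simp⟩
  by_cases h3 : 3 ≤ n
  · obtain ⟨Y, hY⟩ := R.y2 K h3 (s := a) rfl
    obtain ⟨g, k, h⟩ := R.core K (l := 1) (w' := 0) (by simp) (by simp) (by simp) (by simp) hY rfl
    exact ⟨g, k, fun G a b c => C.sp_big (fun _ => rfl) a0 ha (h G a b c).1 (by simpa using (h G a b c).2) h3⟩
  by_cases h2 : (2 : F) = 0
  swap
  · obtain ⟨Y, hY⟩ := R.y1 K (a / 2)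
    obtain ⟨g, k, h⟩ := R.core K (l := 1) (w' := 0) (a := a) (by simp) (by simp) (by simp) (by simp)
      (by convert hY using 1; simp; field_simp; ring) rfl
    exact ⟨g, k, fun G a b c => C.sp_odd (fun _ => rfl) a0 ha (h G a b c).1 (by simpa using (h G a b c).2) h2⟩
  obtain rfl : n = 2 := by omega
  obtain ⟨g, k, h⟩ := sp_four_ru h2 a0 (fun c => h22 ⟨rfl, le_antisymm (ha' 1 one_ne_zero (by simp [c])) Fintype.one_lt_card⟩)
    (by simpa using R)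
  exact ⟨g, k, fun G a b c => C.sp_two (fun _ => rfl) a0 ha (h G a b c).2.2 rfl h2 (h G a b c).1 (h G a b c).2.1⟩

end H09
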