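import Mathlib
import Cfsg.Agent.H09.U3a
import Cfsg.Agent.H09.PresSLa
/-! Bounded presentations of `SU₃(q)`, `q ≠ 2`. -/
namespace H09
open Matrix Cfsg H10 Polynomial
open scoped MatrixGroups

section abstract
universe v
variable {A : Type v} {G : Type*} [Group A] [Group G] {π : A →* G}
/-- quotient of a cover -/
def Cov.quot (C : Cov π) {N : Subgroup G} [N.Normal] (M : Subgroup C.J) [M.Normal] (h : M ≤ N.comap C.φ) : Cov ((QuotientGroup.mk' N).comp π) :=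
  ⟨C.J ⧸ M, (QuotientGroup.mk' M).comp C.ρ, QuotientGroup.map M N C.φ h, (QuotientGroup.mk'_surjective M).comp C.surj, fun x => by simp [C.comp]⟩
theorem Cov.quot_inj (C : Cov π) {N : Subgroup G} [N.Normal] {M : Subgroup C.J} [M.Normal] {h : M ≤ N.comap C.φ}
    (e : Function.Injective (C.quot M h).φ) {x} (hx : C.φ x = 1) : x ∈ M :=
  (QuotientGroup.eq_one_iff x).1 ((injective_iff_map_eq_one (QuotientGroup.map M N C.φ h)).1 e x (by simp [hx]))
theorem Rels.quot {N : Subgroup G} [N.Normal] {r} {P} (h : Rels ((QuotientGroup.mk' N).comp π) r P) {z : A}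
    (hz : N ≤ (Subgroup.normalClosure {z}).map π) :
    Rels π r fun C => ∀ (M : Subgroup C.J) [M.Normal] (h : M ≤ N.comap C.φ), C.ρ z ∈ M → P (C.quot M h) := by
  obtain ⟨R, a, b, c⟩ := h
  choose w w1 w2 using fun x : {x // x ∈ R} => hz ((QuotientGroup.eq_one_iff (π x)).1 (b x x.2))
  refine ⟨R.attach.map fun x => x.1 * (w x)⁻¹, by simpa, by simp +contextual [w2, ← @eq_comm _ _ (_ * _)], fun C e M _ h hM => c _ fun x hx => (QuotientGroup.eq_one_iff _).2 ?_⟩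
  have := e _ (List.mem_map_of_mem (List.mem_attach R ⟨x, hx⟩))
  rw [map_mul, map_inv, mul_inv_eq_one] at this
  exact this ▸ (Subgroup.normalClosure_le_normal (N := M.comap C.ρ) (Set.singleton_subset_iff.2 hM)) (w1 _)
theorem HasPres.of_center {ι : Type} [Fintype ι] {g : ι → G} (hs : Function.Surjective (FreeGroup.lift g)) {r} [IsCyclic (Subgroup.center G)]
    (h : HasPres (fun i => QuotientGroup.mk' (Subgroup.center G) (g i)) r) : HasPres g (r + Fintype.card ι + 1) := by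
  obtain ⟨⟨z, hz⟩, h1⟩ := IsCyclic.exists_generator (α := Subgroup.center G)
  obtain ⟨w, rfl⟩ := hs z
  have e : FreeGroup.lift (fun i => QuotientGroup.mk' (Subgroup.center G) (g i)) = (QuotientGroup.mk' _).comp (FreeGroup.lift g) := by ext; simp
  have h2 := h.2
  rw [e] at h2
  refine ⟨hs, (((h2.quot (z := w) fun x hx => ?_).and (Rels.finset .univ fun i _ => Rels.comm (a := .of i) (b := w)
    (Subgroup.mem_center_iff.1 hz _))).and (Rels.eq (a := w ^ orderOf (FreeGroup.lift g w)) (b := 1) (by simp))).imp (by simp)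
      fun C ⟨⟨a, b⟩, c⟩ => (injective_iff_map_eq_one _).2 fun x hx => ?_⟩
  · obtain ⟨k, e⟩ := h1 ⟨x, hx⟩
    exact ⟨w ^ k, Subgroup.zpow_mem _ (Subgroup.subset_normalClosure (Set.mem_singleton w)) k, (map_zpow _ _ _).trans (congrArg Subtype.val e)⟩
  have b' : ∀ y, Commute y (C.ρ w) := fun y => Subgroup.mem_centralizer_singleton_iff.1
    (C.top_le (fun i => Subgroup.mem_centralizer_singleton_iff.2 (b i (by simp))) (Subgroup.mem_top y))
  have : (Subgroup.zpowers (C.ρ w)).Normal := ⟨by rintro _ ⟨k, rfl⟩ y; simp [((b' y).zpow_right k).eq]⟩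
  obtain ⟨k, rfl⟩ := C.quot_inj (a (Subgroup.zpowers (C.ρ w))
    (Subgroup.zpowers_le_of_mem (by simpa [C.comp] using hz)) (Subgroup.mem_zpowers _)) hx
  obtain ⟨k, rfl⟩ := orderOf_dvd_iff_zpow_eq_one.2 (by simpa [C.comp] using hx)
  simp only [map_pow, map_one] at c
  simp [_root_.zpow_mul, c]

variable {K : Type*} [Field K]
theorem addsub_top {η : K} (h : Function.Surjective (aeval η : ℤ[X] → K)) {B : AddSubgroup K} (h1 : ∀ k : ℕ, η ^ k ∈ B) : B = ⊤ :=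
  eq_top_iff.2 fun t _ => by
    obtain ⟨f, rfl⟩ := h t
    rw [aeval_eq_sum_range]; exact sum_mem fun i _ => zsmul_mem (h1 i) _
theorem span_small [Fintype K] {p r : ℕ} [Fact p.Prime] [CharP K p] {η : K} (h : Function.Surjective (aeval η : ℤ[X] → K))
    (hr : Fintype.card K < p ^ (r + 1)) {B : AddSubgroup K} (h1 : ∀ k < r, η ^ k ∈ B) : B = ⊤ := by
  let _ := ZMod.algebra K p
  have hm := minpoly.monic (Algebra.IsIntegral.isIntegral (R := ZMod p) η)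
  obtain ⟨g, hg, h1', h2⟩ := lifts_and_natDegree_eq_and_monic
    (map_surjective _ (ZMod.ringHom_surjective (Int.castRingHom (ZMod p))) (minpoly (ZMod p) η)) hm
  have h3 : g.natDegree ≤ r := by
    have := Module.card_eq_pow_finrank (K := ZMod p) (V := K)
    rw [this, ZMod.card, Nat.pow_lt_pow_iff_right (Fact.out : p.Prime).one_lt] at hr
    have := minpoly.natDegree_le (A := ZMod p) η
    omega
  have h4 : g ≠ 1 := fun e => (h1' ▸ minpoly.natDegree_pos (Algebra.IsIntegral.isIntegral η) : 0 < g.natDegree).ne' (by simp [e])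
  refine eq_top_iff.2 fun t _ => ?_
  obtain ⟨f, rfl⟩ := h t
  rw [← aeval_modByMonic_eq_self_of_root (q := g) (by
    rw [← aeval_map_algebraMap (ZMod p) η g, show algebraMap ℤ (ZMod p) = Int.castRingHom _ from rfl, hg]; simp),
    aeval_eq_sum_range' ((natDegree_modByMonic_lt f h2 h4).trans_le h3)]
  exact sum_mem fun i hi => zsmul_mem (h1 i (by simpa using hi)) _
theorem subring_small' [Fintype K] (p : ℕ) [Fact p.Prime] [CharP K p] {A : Subring K} (hA : A ≠ ⊤) :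
    ∃ n ≠ 0, (p ^ n) ^ 2 ≤ Fintype.card K ∧ ∀ a ∈ A, a ^ p ^ n = a := by
  classical
  let B : Subfield K := { A with
    inv_mem' := fun x hx => by
      by_cases h : x = 0
      · simp [h]
      have h1 := FiniteField.pow_card_sub_one_eq_one x h
      have h2 : 1 < Fintype.card K := Fintype.one_lt_card
      rw [show Fintype.card K - 1 = Fintype.card K - 2 + 1 by omega, pow_succ] at h1
      exact eq_inv_of_mul_eq_one_left h1 ▸ A.pow_mem hx _ }
  obtain ⟨n, -, hn⟩ := FiniteField.card B p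
  have h1 := Module.card_eq_pow_finrank (K := B) (V := K)
  have h2 : 2 ≤ Module.finrank B K := by
    by_contra h
    have h3 : Module.finrank B K = 1 := by have := Module.finrank_pos (R := B) (M := K); omega
    rw [h3, pow_one, ← Nat.card_eq_fintype_card, ← Nat.card_eq_fintype_card] at h1
    exact hA (eq_top_iff.2 fun x _ => (AddSubgroup.eq_top_of_card_eq B.toAddSubgroup h1.symm).ge (AddSubgroup.mem_top x))
  exact ⟨n, n.ne_zero, hn ▸ h1 ▸ Nat.pow_le_pow_right Fintype.card_pos h2, fun a ha => by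
    simpa [hn] using congrArg Subtype.val (FiniteField.pow_card (⟨a, ha⟩ : B))⟩
theorem upres_pow {p : ℕ} [Fact p.Prime] [CharP K p] {x : K → G} {η : K} {s u : A} (hx : Tor (.id G) x η (π s) (π u) x)
    (h3 : Function.Surjective (aeval η : ℤ[X] → K)) {k l : ℕ} (h6 : Function.Surjective (aeval (η ^ l) : ℤ[X] → K)) (e : η ^ k = 1 + η ^ l) :
    Rels π 5 fun C => ∃ y, Tor C.φ x η (C.ρ s) (C.ρ u) y := by
  have h4 : ∀ k, π (s ^ k) * π u * (π (s ^ k))⁻¹ = x (η ^ k) := fun k => by rw [map_pow, ← hx.one, hx.pow, mul_one]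
  have h7 : Tor (.id G) x (η ^ l) (π (s ^ l)) (π u) x := hx.of_comm h3 (by simp) (h4 l)
  obtain ⟨w, a, b⟩ := exists_xw h7 h6 η
  refine ((upres_baum (p := p) h7 h6 (h4 k) e).and
    (Rels.eq (a := s * u * s⁻¹) (b := w) (by simpa [a] using h4 1))).imp le_rfl fun C ⟨c, d⟩ => ?_
  obtain ⟨y, c⟩ := c (by simp)
  exact ⟨y, c.of_comm h6 (by simp) (by simpa [b C y c] using d)⟩
/-- the parameters of elements commuting with `g` -/
def Tor.cent {J : Type*} [Group J] {φ : J →* G} {x : K → G} {η : K} {s u : J} {y : K → J} (h : Tor φ x η s u y) (g : J) : AddSubgroup K where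
  carrier := {t | Commute g (y t)}
  zero_mem' := by simp [h.zero]
  add_mem' a b := by rw [Set.mem_setOf, h.add]; exact a.mul_right b
  neg_mem' a := by rw [Set.mem_setOf, h.neg]; exact a.inv_right
theorem rs_norm [Finite K] {y : K → G} (hy : ∀ a b, y (a + b) = y a * y b) (g : G) (e : ∀ t, ∃ t', g * y t * g⁻¹ = y t') :
    g ∈ Subgroup.normalizer (H12.rangeSub y hy : Set G) :=
  have : Finite (H12.rangeSub y hy : Set G) := Set.finite_range y
  Subgroup.mem_normalizer_fintype (by rintro _ ⟨t, rfl⟩; exact (e t).imp fun _ => Eq.symm)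
theorem borel_fin {π : FreeGroup (Fin 2) →* G} {K' : Type*} [Field K'] [Finite K] [Finite K'] {x₀ : K → G} (add : ∀ a b, x₀ (a + b) = x₀ a * x₀ b)
    [(H12.rangeSub x₀ add).Normal] {x : K' → G ⧸ H12.rangeSub x₀ add} {m : ℕ} (i1 : ∀ t, x₀ t = 1 → t = 0)
    (i2 : ∀ t (k : ℤ), x t * QuotientGroup.mk (π (.of 1) ^ k) = 1 → t = 0 ∧ (m : ℤ) ∣ k) (C : Cov π) {η₀ η z y} (a : Tor C.φ x₀ η₀ (C.ρ (.of 1)) z y)
    (b : ∀ t, Commute (C.ρ (.of 0)) (y t)) (c : ∀ (M : Subgroup C.J) [M.Normal] (h : M ≤ (H12.rangeSub x₀ add).comap C.φ), z ∈ M →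
      ∃ y, Tor (C.quot M h).φ x η ((C.quot M h).ρ (.of 1)) ((C.quot M h).ρ (.of 0)) y) (d : C.ρ (.of 1) ^ m = 1) : Function.Injective C.φ := by
  refine (injective_iff_map_eq_one _).2 fun g hg => ?_
  have : (H12.rangeSub y a.add).Normal := Subgroup.normalizer_eq_top_iff.1 (top_le_iff.1 (C.top_le fun k => by
    fin_cases k
    exacts [rs_norm _ _ fun t => ⟨t, by simp [(b t).eq]⟩, rs_norm _ _ fun t => ⟨_, a.conj t⟩]))
  have hM : H12.rangeSub y a.add ≤ (H12.rangeSub x₀ add).comap C.φ := by rintro _ ⟨t, rfl⟩; exact ⟨t, (a.map t).symm⟩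
  obtain ⟨y', c⟩ := c _ hM ⟨1, a.one⟩
  have : (H12.rangeSub y' c.add).Normal := Subgroup.normalizer_eq_top_iff.1 (top_le_iff.1 (Cov.top_le _ fun k => by
    fin_cases k
    exacts [Subgroup.le_normalizer ⟨1, c.one⟩, rs_norm _ _ fun t => ⟨_, c.conj t⟩]))
  obtain ⟨_, ⟨t, rfl⟩, _, ⟨k, rfl⟩, e⟩ := Subgroup.mem_sup_of_normal_left.1 ((C.quot _ hM).top_le
    (M := H12.rangeSub y' c.add ⊔ Subgroup.zpowers ((C.quot _ hM).ρ (.of 1))) (fun k => by
    fin_cases k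
    exacts [Subgroup.mem_sup_left ⟨1, c.one⟩, Subgroup.mem_sup_right (Subgroup.mem_zpowers _)]) (Subgroup.mem_top (QuotientGroup.mk g)))
  have e' := congrArg (C.quot _ hM).φ e
  rw [map_mul, c.map, map_zpow, Cov.comp] at e'
  obtain ⟨rfl, k, rfl⟩ := i2 t k (e'.trans (show QuotientGroup.mk (C.φ g) = 1 by simp [hg]))
  obtain ⟨t, rfl⟩ := (QuotientGroup.eq_one_iff g).1 (e.symm.trans (by
    have : (C.quot _ hM).ρ (.of 1) ^ m = 1 := (map_pow (QuotientGroup.mk' _) _ _).symm.trans (by rw [d]; rfl)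
    change _ = (1 : (C.quot _ hM).J)
    simp only [c.zero, _root_.zpow_mul, zpow_natCast, this]; simp))
  rw [i1 t ((a.map t).symm.trans hg), a.zero]
end abstract

variable {F : Type*} [Field F] {q : ℕ} [Finite F] [hF : Fact (Nat.card F = q ^ 2)]
theorem u3_gen : ∃ ζ : Fˣ, (∀ a, ∃ k : ℕ, ζ ^ k = a) ∧ (∀ c : F, c ^ q * c = 1 → ∃ k : ℕ, (ζ.1 ^ q / ζ) ^ k = c) ∧
    (∀ m, (ζ.1 ^ q / ζ) ^ m = 1 → q + 1 ∣ m) ∧ ∀ k ≠ 0, ζ.1 ^ k = 1 → q ^ 2 ≤ k + 1 := by
  obtain ⟨ζ, h⟩ := IsCyclic.exists_generator (α := Fˣ)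
  have h1 := fun a => mem_powers_iff_mem_zpowers.2 (h a)
  have q1 : 1 < q := by have := Finite.one_lt_card (α := F); rw [hF.1] at this; nlinarith
  obtain ⟨r, rfl⟩ := Nat.exists_eq_add_of_le' q1.le
  have h2 : ∀ k, ζ.1 ^ k = 1 → r * (r + 1 + 1) ∣ k := fun k e => by
    have := orderOf_dvd_of_pow_eq_one (Units.ext (by simpa using e) : ζ ^ k = 1)
    rwa [orderOf_eq_card_of_forall_mem_zpowers h, Nat.card_units, hF.1, show (r + 1) ^ 2 = r * (r + 1 + 1) + 1 by ring, Nat.add_sub_cancel] at this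
  have h3 : ζ.1 ^ (r + 1) / ζ = ζ.1 ^ r := by rw [pow_succ, mul_div_cancel_right₀ _ ζ.ne_zero]
  refine ⟨ζ, h1, fun c e => ?_, fun m e => ?_, fun k a e => by have := Nat.le_of_dvd (by omega) (h2 k e); nlinarith⟩
  · obtain ⟨k, hk⟩ := h1 (.mk0 c (right_ne_zero_of_mul_eq_one e))
    obtain rfl : ζ.1 ^ k = c := by simpa using congrArg Units.val hk
    obtain ⟨l, rfl⟩ := Nat.dvd_of_mul_dvd_mul_right (by omega) (h2 (k * (r + 1 + 1)) (by rw [pow_mul, pow_succ, e]))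
    exact ⟨l, by rw [h3, pow_mul]⟩
  · exact Nat.dvd_of_mul_dvd_mul_left (by omega) (h2 (r * m) (by rw [pow_mul, ← h3, e]))

theorem u3_big {p : ℕ} [Fact p.Prime] [CharP F p] (hp : p ∣ q) (hq : q ≠ 2 ∧ q ≠ 5 ∧ q ≠ 8) {ζ : Fˣ} (h1 : ∀ a, ∃ k : ℕ, ζ ^ k = a)
    (h2 : ∀ m, (ζ.1 ^ q / ζ) ^ m = 1 → q + 1 ∣ m) {η : F} (hη : η = ζ.1 ^ q * ζ.1 ^ q / ζ) : ∃ k l : ℕ, η ^ k = 1 + η ^ l ∧ (η ^ l) ^ q * η ^ l = 1 ∧
      Function.Surjective (aeval (η ^ l) : ℤ[X] → F) ∧ ∀ m : ufix F q, (η ^ k) ^ q * η ^ k * m = 1 → Function.Surjective (aeval m : ℤ[X] → ufix F q) := by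
  have q1 : 1 < q := by have := Finite.one_lt_card (α := F); rw [hF.1] at this; nlinarith
  have e1 : η ^ q = ζ * ζ / ζ ^ q := by simp [hη, div_pow, mul_pow, cq_cq]
  have n : ∀ c : F, c ≠ 0 → c ^ q = c → c ∈ Submonoid.powers η := fun c c0 e => by
    obtain ⟨y, rfl⟩ := ex_norm e
    obtain ⟨k, hk⟩ := h1 (.mk0 y (right_ne_zero_of_mul c0))
    obtain rfl : ζ.1 ^ k = y := by simpa using congrArg Units.val hk
    exact ⟨(q + 1) * k, by simp only [pow_mul, pow_succ, e1]; rw [hη, pow_right_comm _ k, ← mul_pow _ _ k]; congr 1; field_simp⟩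
  obtain ⟨μ, m0, m1, x, hx, m2⟩ : ∃ μ : F, μ ≠ 0 ∧ μ ∈ Submonoid.powers η ∧ ∃ x, x = μ ^ q / μ ∧ ∀ j, x ^ j = 1 → q + 1 ∣ 3 * j :=
    ⟨ζ ^ 3, by simp, ⟨q * 2 + 1, by simp only [pow_mul, pow_succ, e1]; rw [hη]; field_simp⟩, _, rfl, fun j e => h2 _ (by
      rw [pow_mul, div_pow, pow_right_comm, e])⟩
  have m3 : μ⁻¹ ∈ Submonoid.powers η := by
    convert mul_mem (pow_mem m1 q) (n (μ ^ q * μ)⁻¹ (by simp [m0]) (by simp [mul_pow, cq_cq, mul_comm])) using 1; field_simp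
  have x1 : x ^ q * x = 1 := by rw [hx, div_pow, cq_cq]; field_simp
  have x0 := right_ne_zero_of_mul_eq_one x1
  have x2 : x * x ≠ 1 := fun e => by
    have := m2 2 (by rw [sq, e])
    have : q ≤ 5 := by have := Nat.le_of_dvd (by omega) this; omega
    interval_cases q <;> omega
  obtain ⟨l, hl⟩ : x ∈ Submonoid.powers η := by rw [hx, div_eq_mul_inv]; exact mul_mem (pow_mem m1 q) m3
  obtain ⟨k, hk⟩ : 1 + x ∈ Submonoid.powers η := by
    convert mul_mem (n (μ + μ ^ q) (fun e => x2 ?_) (by rw [cq_add, cq_cq, add_comm])) m3 using 1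
    · rw [hx]; field_simp
    · rw [hx, eq_neg_of_add_eq_zero_right e]; field_simp
  simp only at hk hl
  have := Fintype.ofFinite (ufix F q)
  have k1 : ∀ A : Subring (ufix F q), (∃ m ∈ A, ((1 + x) ^ q * (1 + x) * m.1 = 1 ∨ m.1 = (1 + x) ^ q * (1 + x))) → A = ⊤ := fun A ⟨m, hm, e⟩ => by
    by_contra hA
    obtain ⟨n, n0, n1, n2⟩ := subring_small' p hA
    rw [← Nat.card_eq_fintype_card, card_ufix] at n1
    have n3 : m.1 ^ p ^ n = m := congrArg Subtype.val (n2 m hm)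
    have n4 : ((1 + x) ^ q * (1 + x)) ^ p ^ n = (1 + x) ^ q * (1 + x) := by
      rcases e with e | e
      · rw [eq_inv_of_mul_eq_one_left e, inv_pow, n3]
      · rwa [← e]
    have n5 : 2 ≤ p ^ n := le_self_pow (Fact.out : p.Prime).one_le n0 |>.trans' (Fact.out : p.Prime).two_le
    have n7 : p ^ n = 3 → 3 ∣ q := fun e => (Nat.prime_dvd_prime_iff_eq Fact.out Nat.prime_three).1 (e ▸ dvd_pow_self p n0) ▸ hp
    rw [cq_add, one_pow, eq_inv_of_mul_eq_one_left x1, mul_pow, add_pow_char_pow, add_pow_char_pow, one_pow, inv_pow] at n4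
    generalize p ^ n = r at *
    obtain ⟨r, rfl⟩ := Nat.exists_eq_add_of_le' n5
    have n6 : (x ^ (r + 1) - 1) * (x ^ (r + 3) - 1) = 0 := by
      rw [pow_add, pow_add] at *; field_simp at n4; linear_combination n4
    rcases mul_eq_zero.1 n6 with e | e <;> have a := m2 _ (sub_eq_zero.1 e) <;> have b := Nat.le_of_dvd (by omega) a <;>
      obtain rfl | rfl : r = 0 ∨ r = 1 := by (have : r < 2 := by nlinarith); omega
    all_goals (have : q ≤ 11 := by omega); interval_cases q <;> omega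
  refine ⟨k, l, by rw [hk, hl], hl ▸ x1, hl ▸ aeval_surj fun A hA => eq_top_iff.2 fun y _ => ?_, fun m e => aeval_surj fun A hA => k1 A ⟨m, hA, .inl (hk ▸ e)⟩⟩
  have a1 : ∀ c : F, c ^ q = c → c ∈ A := fun c e => (k1 (A.comap (ufix F q).subtype) ⟨⟨(1 + x) ^ q * (1 + x), mem_ufix.2 (by
    rw [mul_pow, cq_cq, mul_comm])⟩, mul_mem (pow_mem (add_mem (one_mem _) hA) q) (add_mem (one_mem _) hA), .inr rfl⟩).ge (Subring.mem_top ⟨c, e⟩)
  have d : x - x ^ q ≠ 0 := fun d => x2 (by linear_combination x1 + x * d)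
  obtain ⟨b, b1, b2⟩ : ∃ b : F, b ^ q = b ∧ y - y ^ q = b * (x - x ^ q) :=
    ⟨_, by rw [div_pow, cq_sub, cq_sub, cq_cq, cq_cq, ← neg_div_neg_eq, neg_sub, neg_sub], (div_mul_cancel₀ _ d).symm⟩
  simpa using add_mem (a1 (y - b * x) (by rw [cq_sub, mul_pow, b1]; linear_combination -b2)) (mul_mem (a1 b b1) hA)

theorem uB_pres (hq : q ≠ 2) {ζ : Fˣ} (h1 : ∀ a, ∃ k : ℕ, ζ ^ k = a) (h2 : ∀ m, (ζ.1 ^ q / ζ) ^ m = 1 → q + 1 ∣ m)
    (h3 : ∀ k ≠ 0, ζ.1 ^ k = 1 → q ^ 2 ≤ k + 1) {i : F} (i0 : i ≠ 0) (hi : i ^ q = -i) :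
    ∃ u : uB F q, HasPres ![u, ⟨_, uH_mem ζ⟩] 15 := by
  obtain ⟨p, e, hp, _, hqe⟩ := exists_q_eq_pow hF.1
  have := Fact.mk hp
  have := Fintype.ofFinite F
  have := Fintype.ofFinite (ufix F q)
  have q1 : 1 < q := by have := Finite.one_lt_card (α := F); rw [hF.1] at this; nlinarith
  have cF : Fintype.card F = q ^ 2 := by rw [← hF.1, Nat.card_eq_fintype_card]
  have cK : Fintype.card (ufix F q) = q := by rw [← Nat.card_eq_fintype_card, card_ufix]
  choose s hs using fun a : F => ex_tr_eq (q := q) (c := -(a ^ q * a)) (by rw [cq_neg, mul_pow, cq_cq, mul_comm])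
  obtain ⟨X, hX⟩ : ∃ X : ∀ a s : F, s + s ^ q + a ^ q * a = 0 → uB F q, ∀ a s e, (X a s e).1 = uX a s e := ⟨fun a s e => ⟨_, uX_mem a s e⟩, fun _ _ _ => rfl⟩
  obtain ⟨x₀, hx₀⟩ : ∃ x₀ : ufix F q → uB F q, ∀ t, x₀ t = X 0 (i * t) (by simp [mul_pow, hi, mem_ufix.1 t.2]) := ⟨_, fun _ => rfl⟩
  have add : ∀ a b, x₀ (a + b) = x₀ a * x₀ b := fun a b => Subtype.ext (by simp [hx₀, hX, uX_mul, mul_add])
  obtain ⟨h, hh, hh'⟩ : ∃ h : uB F q, h = ⟨_, uH_mem ζ⟩ ∧ h.1 = uH ζ := ⟨_, rfl, rfl⟩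
  rw [← hh]
  obtain ⟨η₀, hη₀⟩ : ∃ η₀ : ufix F q, η₀.1 = ζ ^ q * ζ := ⟨⟨_, mem_ufix.2 (by rw [mul_pow, cq_cq, mul_comm])⟩, rfl⟩
  obtain ⟨η, hη⟩ : ∃ η : F, η = ζ.1 ^ q * ζ.1 ^ q / ζ := ⟨_, rfl⟩
  have t0 : Tor (.id _) x₀ η₀ h (x₀ 1) x₀ := ⟨add, rfl, fun t => Subtype.ext (by simp [hx₀, hX, hh', uH_uX, hη₀, mul_left_comm]), fun _ => rfl⟩
  have g0 : ∀ a : ufix F q, a ≠ 0 → ∃ k : ℕ, η₀ ^ k = a := fun a a0 => by
    obtain ⟨y, hy⟩ := ex_norm (mem_ufix.1 a.2)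
    obtain ⟨k, hk⟩ := h1 (.mk0 y (by rintro rfl; simp [eq_comm, a0] at hy))
    exact ⟨k, Subtype.ext (by simp [hη₀, ← hy, ← show ζ.1 ^ k = y by simpa using congrArg Units.val hk, mul_pow, pow_right_comm])⟩
  have s0 : Function.Surjective (aeval η₀ : ℤ[X] → ufix F q) := fun t => by
    by_cases e : t = 0
    exacts [⟨0, by simp [e]⟩, let ⟨k, e⟩ := g0 t e; ⟨.X ^ k, by simpa⟩]
  have e1 : η ^ q = ζ * ζ / ζ ^ q := by simp [hη, div_pow, mul_pow, cq_cq]
  have e2 : ∀ k, (η ^ k) ^ q * η ^ k = (η₀ ^ k).1 := fun k => by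
    rw [pow_right_comm, ← mul_pow, e1, hη, SubmonoidClass.coe_pow, hη₀]; congr 1; field_simp
  have s1 : Function.Surjective (aeval η : ℤ[X] → F) := aeval_surj fun A hA => eq_top_iff.2 fun t _ => (addsub_top (B := A.toAddSubgroup)
    (aeval_surj_pow ζ.ne_zero (cF ▸ h3) three_ne_zero (.inr ⟨rfl, fun e => hq (by nlinarith)⟩)) fun k => A.pow_mem (by
      convert pow_mem hA (q * 2 + 1) using 1; simp only [pow_mul, pow_succ, e1]; rw [hη]; field_simp) k).ge (AddSubgroup.mem_top t)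
  have cen : ∀ a s e t, Commute (X a s e) (x₀ t) := fun a s e t => Subtype.ext (by simp [hx₀, hX, uX_mul, cq_zero, add_comm])
  have dec : ∀ g : uB F q, ∃ a s e, ∃ k : ℕ, g = X a s e * h ^ k := fun g => by
    obtain ⟨a, s, e, l, hl⟩ := uB_eq g.2
    obtain ⟨k, rfl⟩ := h1 l
    exact ⟨a, s, e, k, Subtype.ext (by simp [hl, hX, hh'])⟩
  let N := H12.rangeSub x₀ add
  have : N.Normal := ⟨by
    rintro _ ⟨t, rfl⟩ g
    obtain ⟨a, s, e, k, rfl⟩ := dec g
    exact ⟨η₀ ^ k * t, by rw [← mul_inv_cancel_right (x₀ _) (X a s e), ← (cen _ _ _ _).eq, ← t0.pow]; group⟩⟩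
  obtain ⟨x, hx⟩ : ∃ x : F → uB F q ⧸ N, ∀ a s e, X a s e = x a := ⟨fun a => X a (s a) (by rw [hs]; ring), fun a t e =>
    (QuotientGroup.eq.2 (show _ ∈ Set.range x₀ from ⟨⟨(t - s a) / i, mem_ufix.2 (by rw [div_pow, hi, cq_sub, div_neg, ← neg_div]; congr 1; linear_combination hs a - e)⟩,
      eq_inv_mul_iff_mul_eq.2 (Subtype.ext (by simp [hx₀, hX, uX_mul, mul_div_cancel₀, i0]))⟩)).symm⟩
  obtain ⟨u, hu⟩ : ∃ u, u = X 1 (s 1) (by rw [hs]; ring) := ⟨_, rfl⟩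
  let π := FreeGroup.lift ![u, h]
  have π0 : π (.of 0) = u := by simp [π]
  have π1 : π (.of 1) = h := by simp [π]
  have t1 : Tor (.id _) x η ((QuotientGroup.mk' N).comp π (.of 1)) ((QuotientGroup.mk' N).comp π (.of 0)) x :=
    ⟨fun a b => by
      rw [← hx a (s a) (by rw [hs]; ring), ← hx b (s b) (by rw [hs]; ring), ← QuotientGroup.mk_mul]
      exact (hx _ _ _).symm.trans (congrArg _ (Subtype.ext (by rw [Subgroup.coe_mul, hX, hX, hX, uX_mul]))),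
    by simp [π0, hu, hx], fun a => by
      rw [← hx a (s a) (by rw [hs]; ring), MonoidHom.comp_apply, π1, QuotientGroup.mk'_apply, ← QuotientGroup.mk_mul, ← QuotientGroup.mk_inv,
        ← QuotientGroup.mk_mul, hη]
      exact (congrArg _ (Subtype.ext (by rw [Subgroup.coe_mul, Subgroup.coe_mul, Subgroup.coe_inv, hX, hX, hh', uH_uX]))).trans (hx _ _ _),
    fun _ => rfl⟩
  have k1 : ∀ a, ∃ t e, X a t e ∈ π.range := fun a => by
    obtain ⟨w, hw, -⟩ := exists_xw t1 s1 a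
    obtain ⟨t, ht⟩ := QuotientGroup.eq.1 ((hx a (s a) (by rw [hs]; ring)).trans hw.symm)
    exact ⟨s a + i * t, by simp [cq_add, mul_pow, hi, mem_ufix.1 t.2]; linear_combination hs a, w,
      (inv_mul_eq_iff_eq_mul.1 ht.symm).trans (Subtype.ext (by simp [hx₀, hX, uX_mul]))⟩
  obtain ⟨z, hz⟩ : x₀ 1 ∈ π.range := by
    obtain ⟨t, e, a⟩ := k1 1
    obtain ⟨t', e', a'⟩ := k1 ζ
    have d : ζ.1 ^ q - ζ ≠ 0 := fun d => by
      have := Nat.le_of_dvd one_pos (h2 1 (by rw [pow_one, sub_eq_zero.1 d, div_self ζ.ne_zero])); omega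
    obtain ⟨k, hk⟩ := g0 (⟨(ζ.1 ^ q - ζ) / i, mem_ufix.2 (by rw [div_pow, hi, cq_sub, cq_cq, div_neg, ← neg_div, neg_sub])⟩ : ufix F q)⁻¹
      (inv_ne_zero fun e => div_ne_zero d i0 (congrArg Subtype.val e))
    have := mul_mem (inv_mem (mul_mem a' a)) (mul_mem a a')
    rw [show (X ζ t' e' * X 1 t e)⁻¹ * (X 1 t e * X ζ t' e') = x₀ (η₀ ^ k)⁻¹ from inv_mul_eq_iff_eq_mul.2 (Subtype.ext (by
      simp only [hk, inv_inv, hx₀, hX, Subgroup.coe_mul, uX_mul]; exact uX_congr (by ring) (by field_simp; ring)))] at this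
    have := mul_mem (mul_mem (pow_mem (show h ∈ π.range from ⟨_, π1⟩) k) this) (inv_mem (pow_mem (show h ∈ π.range from ⟨_, π1⟩) k))
    rwa [t0.pow, mul_inv_cancel₀ (hk ▸ inv_ne_zero fun e => div_ne_zero d i0 (congrArg Subtype.val e))] at this
  rw [← hz, ← π1] at t0
  have hN : N ≤ (Subgroup.normalClosure {z}).map π := by
    rintro _ ⟨t, rfl⟩
    obtain ⟨f, rfl⟩ := s0 t
    exact ⟨word (.of 1) z f, word_mem fun i _ => Subgroup.normalClosure_normal.conj_mem _ (Subgroup.subset_normalClosure (Set.mem_singleton z)) _, by rw [map_word, t0.ev.word]⟩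
  have surj : Function.Surjective π := fun g => by
    obtain ⟨a, s, e, k, rfl⟩ := dec g
    obtain ⟨t, e', b⟩ := k1 a
    obtain ⟨w, -, hw⟩ := hN (QuotientGroup.eq.1 ((hx a t e').trans (hx a s e).symm))
    exact mul_mem (by simpa using mul_mem b (show _ ∈ π.range from ⟨w, hw⟩)) (pow_mem (show h ∈ π.range from ⟨_, π1⟩) k)
  obtain ⟨r, r', hr, R1, R2⟩ : ∃ r r', r + r' ≤ 14 ∧ Rels π r (fun C => ∃ y, Tor C.φ x₀ η₀ (C.ρ (.of 1)) (C.ρ z) y ∧ ∀ t, Commute (C.ρ (.of 0)) (y t)) ∧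
      Rels ((QuotientGroup.mk' N).comp π) r' fun C => ∃ y, Tor C.φ x η (C.ρ (.of 1)) (C.ρ (.of 0)) y := by
    by_cases c : q = 3 ∨ q = 5 ∨ q = 8
    · have : e ≤ 3 := by
        by_contra h
        have := (Nat.pow_le_pow_left hp.two_le 4).trans (Nat.pow_le_pow_right hp.pos (show 4 ≤ e by omega)); omega
      have a : Fintype.card (ufix F q) < p ^ (e + 1) := by rw [cK, hqe]; exact Nat.pow_lt_pow_right hp.one_lt (by omega)
      refine ⟨e + 1 + e, 2 * e + 1, by omega, ((upres_small t0 s0 a).and (Rels.finset (Finset.range e) fun k _ => Rels.comm (a := .of 0) (b := cj (.of 1) z k)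
        (by rw [map_cj, t0.cj, π0, hu]; exact cen _ _ _ _))).imp (by simp) fun C ⟨⟨y, b⟩, c⟩ => ⟨y, b, fun t => (span_small s0 a (B := b.cent _) fun k hk =>
          show Commute _ _ by simpa [map_cj, b.cj] using c k (by simpa)).ge (AddSubgroup.mem_top t)⟩,
        upres_small (p := p) t1 s1 (by rw [cF, hqe, ← pow_mul]; exact Nat.pow_lt_pow_right hp.one_lt (by omega))⟩
    obtain ⟨k, l, a1, a2, a3, a4⟩ := u3_big (p := p) (hqe ▸ dvd_pow_self p (by rintro rfl; simp_all)) (by omega) h1 h2 hη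
    obtain ⟨j, hj⟩ := g0 (1 + η₀) fun e => by
      have e' : ζ.1 ^ q * ζ = -1 := by rw [← hη₀]; exact eq_neg_of_add_eq_zero_right (congrArg Subtype.val e)
      have := h3 ((q + 1) * 2) (by omega) (by rw [pow_mul, pow_succ ζ.1, e']; simp)
      have : q < 4 := by nlinarith
      omega
    obtain ⟨c, hc⟩ : (π (.of 0 * cj (.of 1) (.of 0) l))⁻¹ * π (cj (.of 1) (.of 0) k) ∈ N := QuotientGroup.eq.1 (by
      change (QuotientGroup.mk' N).comp π _ = (QuotientGroup.mk' N).comp π _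
      rw [map_mul, map_cj, map_cj, t1.cj, t1.cj, a1, t1.add, t1.one])
    obtain ⟨w, w1, w2⟩ := exists_xw t0 s0 c
    have k0 : η₀ ^ k ≠ 0 := pow_ne_zero _ fun e => by simpa [hη₀] using congrArg Subtype.val e
    refine ⟨6, 5, by omega, (((upres_baum (p := p) t0 s0 (b := .of 1 ^ j) (by rw [map_pow, ← t0.one, t0.pow, mul_one]) hj).and
      (Rels.comm (a := .of 0) (b := z) (by rw [hz, π0, hu]; exact cen _ _ _ _))).and (Rels.eq (a := cj (.of 1) (.of 0) k)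
        (b := .of 0 * cj (.of 1) (.of 0) l * w) (by rw [map_mul, w1, hc, mul_inv_cancel_left]))).imp le_rfl fun C ⟨⟨a, b⟩, d⟩ => ?_, upres_pow (p := p) t1 s1 a3 a1⟩
    obtain ⟨y, a⟩ := a (by simp)
    refine ⟨y, a, fun t => (addsub_top (a4 (η₀ ^ k)⁻¹ (by rw [e2]; exact congrArg Subtype.val (mul_inv_cancel₀ k0))) (B := a.cent _) fun m => ?_).ge
      (AddSubgroup.mem_top t)⟩
    induction m with
    | zero => exact show Commute _ (y _) by rwa [pow_zero, a.one]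
    | succ m ih =>
      replace ih : Commute _ (y _) := ih
      have b1 := ih.conj (C.ρ (.of 1) ^ l)
      rw [a.pow, show η₀ ^ l = 1 from Subtype.ext (e2 l ▸ a2), one_mul] at b1
      have b2 : Commute (cj (C.ρ (.of 1)) (C.ρ (.of 0)) k) (y ((η₀ ^ k)⁻¹ ^ m)) := by
        rw [← map_cj, d, map_mul, map_mul, map_cj, w2 C y a]
        exact (ih.mul_left b1).mul_left (by rw [Commute, SemiconjBy, ← a.add, ← a.add, add_comm])
      rw [← mul_inv_cancel_left₀ k0 (_ ^ m), ← a.pow, ← pow_succ'] at b2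
      exact show Commute _ _ by simpa [cj, mul_assoc] using b2.conj (C.ρ (.of 1) ^ k)⁻¹
  refine ⟨u, surj, ((R1.and (R2.quot hN)).and (Rels.eq (a := .of 1 ^ orderOf ζ) (b := 1) (by
      rw [map_pow, π1, map_one]; exact Subtype.ext (by simp [hh', ← map_pow])))).imp (by omega)
    fun C ⟨⟨⟨y, a, b⟩, c⟩, d⟩ => borel_fin add (fun t e => ?_) (fun t k e => ?_) C a b c (by simpa using d)⟩
  · simpa [hx₀, hX, uX_val, i0] using congrFun (congrFun (congrArg (·.1.1.1) e) 0) 2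
  rw [← hx t (s t) (by rw [hs]; ring), π1] at e
  obtain ⟨t', e'⟩ := (QuotientGroup.eq_one_iff (X t _ _ * h ^ k)).1 e
  replace e' := congrArg (·.1) e'
  simp only [hx₀, hX, Subgroup.coe_mul, SubgroupClass.coe_zpow, hh', ← map_zpow] at e'
  replace e' := congrArg (·.1.1) e'
  simp only [U3.mul_val, uX_val, uH_val] at e'
  have e1 := congrFun (congrFun e' 0) 0
  have e2 := congrFun (congrFun e' 1) 2
  simp [Matrix.mul_apply, Fin.sum_univ_three, zpow_ne_zero] at e1 e2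
  exact ⟨e2, orderOf_dvd_iff_zpow_eq_one.2 (Units.ext (by simpa using e1.symm))⟩

theorem U3_pg (hq : q ≠ 2) : PG (U3 F q) 3 21 := by
  obtain ⟨ζ, h1, hθ, h2, h3⟩ := u3_gen (F := F) (q := q)
  have d : ζ.1 - ζ.1 ^ q ≠ 0 := fun d => by
    have := Nat.le_of_dvd one_pos (h2 1 (by rw [pow_one, ← sub_eq_zero.1 d, div_self ζ.ne_zero])); have := q_ne (q := q) F; omega
  obtain ⟨i, i0, hi⟩ : ∃ i : F, i ≠ 0 ∧ i ^ q = -i := ⟨_, d, by rw [cq_sub, cq_cq, neg_sub]⟩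
  obtain ⟨a₀, ha⟩ := ex_norm (q := q) (c := -(i * ζ + (i * ζ) ^ q)) (by rw [cq_neg, cq_add, cq_cq, add_comm])
  have a0 : a₀ ≠ 0 := by rintro rfl; rw [mul_pow, hi] at ha; exact mul_ne_zero i0 d (by linear_combination ha)
  obtain ⟨u, hu⟩ := uB_pres hq h1 h2 h3 i0 hi
  let π := FreeGroup.lift ![u.1, uH ζ, uT]
  obtain ⟨w, w1, w2⟩ := hu.rel' (π := π) (uB F q).subtype ![.of 0, .of 1] fun i => by fin_cases i <;> simp [π]
  have π2 : π (.of 2) = uT := by simp [π]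
  have k : ∀ a s, s ≠ 0 → Rels π 1 fun C => ∀ e, ∃ b b' : uB F q, uT * uX a s e * uT = b.1 * uT * b'.1 ∧
      C.ρ (.of 2) * C.ρ (w ⟨_, uX_mem a s e⟩) * C.ρ (.of 2) = C.ρ (w b) * C.ρ (.of 2) * C.ρ (w b') := fun a s s0 => by
    by_cases e : s + s ^ q + a ^ q * a = 0; swap
    · exact (Rels.triv fun _ h => (e h).elim).imp zero_le_one fun _ h => h
    obtain ⟨a', s', e', b, hb⟩ := uB_br (g := uT * uX a s e * uT) (by simp [uB, U3.mul_val, uT_val, uX_val, s0])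
    exact (Rels.eq (a := .of 2 * w ⟨_, uX_mem a s e⟩ * .of 2) (b := w ⟨_, uX_mem a' s' e'⟩ * .of 2 * w b) (by simpa [w1, π2] using hb)).imp le_rfl
      fun C h _ => ⟨⟨_, uX_mem a' s' e'⟩, b, hb, by simpa using h⟩
  refine ⟨_, .of_sec (fun g => ?_) (((((w2.and (Rels.eq (a := .of 2 * .of 2) (b := 1) (by simp [π2, uT_sq]))).and
    (Rels.eq (a := .of 2 * w ⟨_, uH_mem ζ⟩ * .of 2) (b := w ⟨_, uT_uH ζ⟩) (by simp [π2, w1]))).and (k 0 i i0)).and
    (Rels.finset (Finset.range 3) fun j _ => k ((ζ.1 ^ q / ζ) ^ j * a₀) (i * ζ) (by simp [i0]))).imp (by simp)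
      fun C ⟨⟨⟨⟨⟨σ, f1, f2⟩, a⟩, b⟩, c⟩, d⟩ => ?_)⟩
  · by_cases h : g ∈ uB F q
    · exact ⟨_, w1 ⟨g, h⟩⟩
    obtain ⟨a, s, e, b, rfl⟩ := uB_br h
    exact ⟨w ⟨_, uX_mem a s e⟩ * .of 2 * w b, by simp [show FreeGroup.lift _ = π from rfl, w1, π2]⟩
  have f3 : ∀ b, C.ρ (w b) = σ b := congrFun f2
  simp only [map_mul, map_one, f3] at a b c d
  obtain ⟨f, e1, e2⟩ := U3_hom σ h1 hθ i0 hi a b (by rw [ha]; ring) a0 (by
    rintro _ _ e (⟨rfl, rfl⟩ | ⟨j, hj, rfl, rfl⟩)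
    exacts [c e, d j (by simpa) e])
  have e3 : ∀ b : uB F q, C.φ (f b) = b := fun b => by rw [e1, ← f3, C.comp, w1]; rfl
  refine ⟨f, fun g => ?_, fun k => ?_⟩
  · by_cases h : g ∈ uB F q
    · exact e3 ⟨g, h⟩
    obtain ⟨a, s, e, b, rfl⟩ := uB_br h
    rw [map_mul, map_mul, map_mul, map_mul, e3, e3 ⟨_, uX_mem a s e⟩, e2, C.comp, π2]
  · fin_cases k
    exacts [⟨_, (e1 _).trans (f1 0)⟩, ⟨_, (e1 _).trans (f1 1)⟩, ⟨_, e2⟩]
theorem SU3_pg (hq : q ≠ 2) : PG (SU 3 F q) 3 21 := let ⟨e⟩ := U3_equiv (F := F) (q := q); (U3_pg hq).equiv e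
theorem SU_center {n : ℕ} (hn : 2 ≤ n) : IsCyclic (Subgroup.center (SU n F q)) := by
  have k := fun z : Subgroup.center (SU n F q) => center_SU hn z.2
  choose c hc using k
  have e : ∀ z, c z = uac z.1 (ev ⟨0, by omega⟩) ⟨0, by omega⟩ := fun z => by simp [hc]
  exact isCyclic_of_injective_ringHom (⟨⟨c, by simp [e]⟩, fun a b => by
    simp only [e (a * b), Subgroup.coe_mul, uac_mul, hc]; simp⟩ : Subgroup.center (SU n F q) →* F) fun a b h => Subtype.ext (SU_ext fun i => by rw [hc, hc]; exact congrArg (· • _) h)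
end H09
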