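import Mathlib
import Cfsg.Agent.H09.U3b
import Cfsg.Agent.H09.Phan12
import Cfsg.Agent.H09.PresSLn
import Cfsg.Agent.H09.PresSp
/-! Bounded presentations of `SU_n(q)`, I: gluing blocks along monomial elements. -/
namespace H09
open Matrix Cfsg Equiv Equiv.Perm
open scoped MatrixGroups
variable {F : Type*} [Field F] {q n m : ℕ} {J : Type*} [Group J] [Finite F] [hF : Fact (Nat.card F = q ^ 2)]
local notation "B" => hermForm _ F q

theorem suPad_trans {r : ℕ} (e : Fin m ↪ Fin n) (e' : Fin r ↪ Fin m) (g : SU r F q) : suPad e (suPad e' g) = suPad (e'.trans e) g :=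
  Subtype.ext (Subtype.ext (padM_padM e e' g.1.1).symm)

theorem SU_ext_v {g h : SU n F q} (H : ∀ v, uac g v = uac h v) : g = h := SU_ext fun _ => H _

theorem conj_pad {g : SU n F q} {e e' : Fin m ↪ Fin n} (h : ∀ i, uac g (ev (e i)) = ev (e' i)) (x : SU m F q) :
    g * suPad e x * g⁻¹ = suPad e' x := mul_inv_eq_iff_eq_mul.2 (SU_ext_v fun y => by
  have h1 : ∀ w, uac g (incl F e *ᵥ w) = incl F e' *ᵥ w := fun w => by
    have : g.1.1 * incl F e = incl F e' := by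
      ext a i
      have := congrFun (h i) a
      rw [uac_ev] at this
      simp [incl, Matrix.mul_apply, this, Pi.single_apply]
    rw [uac, mulVec_mulVec, this]
  have h2 : uac g y ∘ e' = y ∘ e := funext fun i => by
    rw [Function.comp, Function.comp, ← hB_ev (q := q) (uac g y), ← h, hB_uac, hB_ev]
  rw [uac_mul, uac_mul, uac_suPad, uac_suPad, uac_add, h1, h2])

theorem ex_mono (σ : Perm (Fin n)) (d : Fin n → F) (h : ∀ i, d i ^ q * d i = 1) (h' : ((sign σ : ℤˣ) : ℤ) * ∏ i, d i = 1) :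
    ∃ g : SU n F q, ∀ i, uac g (ev i) = d i • ev (σ i) := by
  refine ⟨⟨⟨(diagonal d).submatrix σ.symm id, by rw [det_permute, det_diagonal, sign_symm, h']⟩, mem_SU_iff.2 ?_⟩, fun i => funext fun a => ?_⟩
  · change ((diagonal d).submatrix σ.symm id)ᵀ * ((diagonal d).submatrix σ.symm id).map _ = 1
    rw [transpose_submatrix, ← submatrix_map, submatrix_mul_equiv, submatrix_id_id, diagonal_transpose, diagonal_map (map_zero _),
      diagonal_mul_diagonal, ← diagonal_one]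
    congr; ext i; rw [mul_comm]; exact h i
  · rw [uac_ev]; simp [diagonal_apply, Pi.single_apply, symm_apply_eq]; split_ifs with e <;> simp [e]

theorem ex_pw : ∃ pw : alternatingGroup (Fin n) →* SU n F q, ∀ σ i, uac (pw σ) (ev i) = ev (σ.1 i) := by
  choose g hg using fun σ : alternatingGroup (Fin n) => ex_mono (F := F) (q := q) σ.1 1 (by simp) (by simp [mem_alternatingGroup.1 σ.2])
  simp only [Pi.one_apply, one_smul] at hg
  exact ⟨.mk' g fun a b => SU_ext fun i => by simp [uac_mul, hg], hg⟩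

theorem ex_cyc : ∃ s : SU n F q, ∀ k (i j : Fin n), j.1 = i + k → uac (s ^ k) (ev i) = ev j := by
  rcases n with - | n
  · exact ⟨1, fun _ i => i.elim0⟩
  obtain ⟨s, hs⟩ := ex_mono (F := F) (q := q) (finRotate (n + 1)) (fun i => if i = Fin.last n then (-1) ^ n else 1)
    (fun i => by split_ifs; exacts [by rw [← pow_mul, mul_comm n, pow_mul, cq_neg, ← mul_pow]; simp, by simp])
    (by simp [sign_finRotate, ← mul_pow])
  refine ⟨s, fun k => ?_⟩
  induction k with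
  | zero => exact fun i j e => by simp [Fin.ext (show j.1 = i by omega)]
  | succ k ih =>
    intro i j e
    have : (⟨i + k, by omega⟩ : Fin (n + 1)) ≠ Fin.last n := by simp [Fin.ext_iff]; omega
    rw [pow_succ', uac_mul, ih i ⟨i + k, by omega⟩ rfl, hs, if_neg this, one_smul]
    congr; ext; rw [coe_finRotate_of_ne_last this, e]; rfl

abbrev pq0 : SU m F q →* SU (m + 1) F q := suPad (shift 0 (by omega))
abbrev pq1 : SU m F q →* SU (m + 1) F q := suPad (shift 1 (by omega))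

theorem blk_gen (hm : m = 2 ∨ m = 3) (hn : m + 1 ≤ n) {H : Subgroup (SU n F q)} (h : ∀ i (e : i + (m + 1) ≤ n) x, suPad (shift i e) x ∈ H) (g) :
    g ∈ H := sbl_gen3 (by omega) le_rfl (fun j _ e => by
  have k : ∀ i, i + (m + 1) ≤ n → sbl F q n i (i + (m + 1)) ≤ H := fun i e g hg => let ⟨x, hx⟩ := (sbl_iff e).1 hg; hx ▸ h i e x
  by_cases c : j + (m + 1) ≤ n
  exacts [(sbl_mono le_rfl (by omega)).trans (k j c), (sbl_mono (by omega) (by omega)).trans (k (j - 1) (by omega))]) (sbl_top.ge trivial)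

theorem phan_m (hm : m = 2 ∧ 4 ≤ q ∨ m = 3) (hn : m + 1 ≤ n) (ψ : SU (m + 1) F q →* J) (t : ℕ → J)
    (h1 : ∀ i, i + (m + 1) ≤ n → ∀ x, t i * ψ (pq1 x) * (t i)⁻¹ = t (i + 1) * ψ (pq0 x) * (t (i + 1))⁻¹)
    (hc : ∀ i j, i + 2 ≤ j → j + m ≤ n → ∀ x y, (i + m ≤ j ∨ x ∈ sbl F q m 0 2 ∨ y ∈ sbl F q m 1 m) →
      Commute (t i * ψ (pq0 x) * (t i)⁻¹) (t j * ψ (pq0 y) * (t j)⁻¹)) {φ : J →* SU n F q}
    (hφ : ∀ i (e : i + (m + 1) ≤ n) x, φ (t i * ψ x * (t i)⁻¹) = suPad (shift i e) x) :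
    ∃ Φ : SU n F q →* J, (∀ x, φ (Φ x) = x) ∧ ∀ i, i + (m + 1) ≤ n → ∀ x, t i * ψ x * (t i)⁻¹ ∈ Φ.range := by
  obtain ⟨Φ, h⟩ : ∃ Φ : SU n F q →* J, ∀ i (e : i + (m + 1) ≤ n) x, Φ (suPad (shift i e) x) = t i * ψ x * (t i)⁻¹ := by
    obtain ⟨rfl, hq⟩ | rfl := hm
    · exact phan3' hq hn (fun i => (MulAut.conj (t i)).toMonoidHom.comp ψ) (fun i => ((MulAut.conj (t i)).toMonoidHom.comp ψ).comp pq0)
        (fun _ _ _ => rfl) h1 fun i j a b x y => hc i j a b x y (.inl a)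
    · exact phan4' hn (fun i => ((MulAut.conj (t i)).toMonoidHom.comp ψ).comp pq0) (fun i => (MulAut.conj (t i)).toMonoidHom.comp ψ)
        (fun _ _ _ => rfl) h1 (fun i j a b x y => hc i j a b _ y (.inr (.inl (suPad_sbl _ x))))
        (fun i j a b x y => hc i j (by omega) b x y (.inl a)) fun i j a b x y => hc i j a b x _ (.inr (.inr (suPad_sbl _ y)))
  exact ⟨Φ, blk_gen (H := (φ.comp Φ).eqLocus (.id _)) (by omega) hn fun i e x => show φ (Φ _) = _ by rw [h, hφ]; rfl,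
    fun i e x => ⟨_, h i e x⟩⟩

theorem SU_cyc (hm : m = 2 ∧ 4 ≤ q ∨ m = 3) (hn : m + 2 ≤ n) (h5 : n ≤ 5) {d r} (hg : PG (SU (m + 1) F q) d r)
    (h2 : ∃ a b : SU m F q, Subgroup.closure {a, b} = ⊤) (h2' : ∃ a b : SU 2 F q, Subgroup.closure {a, b} = ⊤) :
    PG (SU n F q) (d + 1) (r + 11) := by
  obtain ⟨g, hg⟩ := hg
  obtain ⟨a, b, hab⟩ := h2
  obtain ⟨u, v, huv⟩ := h2'
  obtain ⟨s, hs⟩ := ex_cyc (n := n) (F := F) (q := q)
  have s1 : ∀ {l} k j (e : j + l ≤ n) (e' : k + j + l ≤ n) (x : SU l F q), s ^ k * suPad (shift j e) x * (s ^ k)⁻¹ = suPad (shift (k + j) e') x :=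
    fun k j e e' => conj_pad fun i => hs _ _ _ (by simp; omega)
  obtain ⟨ν, hν⟩ : ∃ ν : SU (m + 1) F q →* SU n F q, ν = suPad (shift 0 (by omega)) := ⟨_, rfl⟩
  have m2 : 0 + 2 ≤ m := by omega
  obtain ⟨A, hA⟩ : ∃ A : SU 2 F q →* SU m F q, A = suPad (shift 0 m2) := ⟨_, rfl⟩
  have n0 : ∀ x, ν (pq0 x) = suPad (shift 0 (by omega)) x := fun x => by rw [hν, suPad_shift]
  have n1 : ∀ x, ν (pq0 (A x)) = suPad (shift 0 (by omega)) x := fun x => by rw [n0, hA, suPad_shift]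
  obtain ⟨π, hπ⟩ : ∃ π, π = FreeGroup.lift (Sum.elim (fun i => ν (g i)) fun _ : Fin 1 => s) := ⟨_, rfl⟩
  obtain ⟨w, w1, w2⟩ := hg.rel' (π := π) ν (fun i => .of (.inl i)) (by simp [hπ])
  obtain ⟨S, hS⟩ : ∃ S : FreeGroup (Fin d ⊕ Fin 1), S = .of (.inr 0) := ⟨_, rfl⟩
  have hS' : π S = s := by simp [hπ, hS]
  let N := Subgroup.closure {y | ∃ i, i + (m + 1) ≤ n ∧ ∃ x, S ^ i * w x * (S ^ i)⁻¹ = y}
  have hN : ∀ x, x ∈ N.map π := blk_gen (m := m) (by omega) (by omega) fun i e x => ⟨_, Subgroup.subset_closure ⟨i, e, x, rfl⟩, by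
    simp only [map_mul, map_inv, map_pow, hS', w1, hν]; exact s1 i 0 _ e x⟩
  have cm : ∀ {k l l'} (e : 0 + l ≤ n) (e' : 0 + l' ≤ n) (x : SU l F q) (y : SU l' F q), l ≤ k → k + l' ≤ n →
      Commute (suPad (shift 0 e) x) (s ^ k * suPad (shift 0 e') y * (s ^ k)⁻¹) := fun e e' x y c c' => by
    rw [s1 _ 0 e' c']
    exact ubl_comm (Set.disjoint_left.2 fun i => by simp; omega) (suPad_sbl e x) (suPad_sbl _ y)
  have R1 := Rels.list (π := π) [a, b] fun x _ => Rels.eq (a := w (pq1 x)) (b := S * w (pq0 x) * S⁻¹) (by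
    simp only [map_mul, map_inv, hS', w1, n0]; rw [hν, suPad_shift, ← s1 1 0 (by omega) (by omega), pow_one])
  have R2 := Rels.list (π := π) [u, v] fun x _ => Rels.list [a, b] fun y _ =>
    Rels.comm (a := w (pq0 (A x))) (b := S ^ 2 * w (pq0 y) * (S ^ 2)⁻¹) (by
      simp only [map_mul, map_inv, map_pow, hS', w1, n1]; rw [n0]; exact cm _ _ _ _ le_rfl (by omega))
  have R3 : Rels π 4 fun C => n = 5 → ∀ x ∈ [a, b], ∀ y ∈ [u, v], Commute (C.ρ (w (pq0 x))) (C.ρ (S ^ 3 * w (pq0 (A y)) * (S ^ 3)⁻¹)) := by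
    by_cases c : n = 5
    · exact (Rels.list [a, b] fun x _ => Rels.list [u, v] fun y _ => Rels.comm (by
        simp only [map_mul, map_inv, map_pow, hS', w1, n1]; rw [n0]; exact cm _ _ _ _ (by omega) (by omega))).imp le_rfl fun _ h _ => h
    · exact (Rels.triv fun _ h => absurd h c).imp (by simp) fun _ h => h
  refine HasPres.pg (g := Sum.elim (fun i => ν (g i)) fun _ : Fin 1 => s) (r := r + 11) (.of_sec ?_ ?_) (by simp) (by simp) <;> rw [← hπ]
  · exact fun x => Subgroup.map_le_range _ _ (hN x)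
  refine ((((w2.and R1).and R2).and R3).and (Rels.mem (hN (π S)))).imp (by simp) fun C ⟨⟨⟨⟨⟨ψ, f1, f2⟩, r1⟩, r2⟩, r3⟩, r4⟩ => ?_
  have f3 : ∀ x, C.ρ (w x) = ψ x := congrFun f2
  simp only [map_mul, map_inv, map_pow, f3] at r1 r2 r3
  have f4 : C.φ (C.ρ S) = s := (C.comp _).trans hS'
  have q1 : ∀ x, ψ (pq1 x) = C.ρ S * ψ (pq0 x) * (C.ρ S)⁻¹ := DFunLike.congr_fun (MonoidHom.eq_of_eqOn_dense hab (f := ψ.comp pq1)
    (g := (MulAut.conj (C.ρ S)).toMonoidHom.comp (ψ.comp pq0)) fun x p => r1 x (by simpa using p))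
  have q2 := comm_gen (f := (ψ.comp pq0).comp A) (g := (MulAut.conj (C.ρ S ^ 2)).toMonoidHom.comp (ψ.comp pq0)) huv hab r2
  have q3 := fun c => comm_gen (f := ψ.comp pq0) (g := (MulAut.conj (C.ρ S ^ 3)).toMonoidHom.comp ((ψ.comp pq0).comp A)) hab huv (r3 c)
  obtain ⟨Φ, p1, p2⟩ := phan_m hm (by omega) ψ (C.ρ S ^ ·) (fun i _ x => by rw [q1, pow_succ]; group) (fun i j e e' x y c => by
    obtain ⟨k, rfl⟩ : ∃ k, j = i + k := ⟨j - i, by omega⟩
    suffices Commute (ψ (pq0 x)) (C.ρ S ^ k * ψ (pq0 y) * (C.ρ S ^ k)⁻¹) by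
      simpa only [pow_add, mul_assoc, _root_.mul_inv_rev, MulAut.conj_apply] using this.map (MulAut.conj (C.ρ S ^ i))
    by_cases c1 : x ∈ sbl F q m 0 2 ∧ k = 2
    · obtain ⟨c1, rfl⟩ := c1
      obtain ⟨x, rfl⟩ := (sbl_iff m2).1 c1
      rw [← hA]; exact q2 x y
    subst hA
    obtain ⟨rfl, -⟩ | rfl := hm
    · obtain rfl : k = 3 := by have := mt (fun e => And.intro (sbl_top.ge (Subgroup.mem_top x)) e) c1; omega
      obtain ⟨z, hz⟩ := (sbl_iff m2).1 (sbl_top.ge (Subgroup.mem_top y))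
      exact hz ▸ q3 (by omega) x z
    obtain rfl : k = 2 := by omega
    obtain ⟨y, rfl⟩ := (sbl_iff (k := 1) (m := 2) le_rfl).1 ((c.resolve_left (by omega)).resolve_left fun e => c1 ⟨e, rfl⟩)
    rw [show pq0 (suPad (shift 1 _) y) = pq1 (p01 y) by rw [suPad_shift, suPad_shift], q1]
    simpa [pow_succ, mul_assoc] using q3 (by omega) x y) (φ := C.φ) fun i e x => by
      rw [map_mul, map_mul, map_inv, map_pow, f4, ← f3, C.comp, w1, hν]; exact s1 i 0 _ e x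
  refine ⟨Φ, p1, Sum.forall.2 ⟨fun i => f1 i ▸ by simpa using p2 0 (by omega) (g i), fun i => ?_⟩⟩
  rw [Subsingleton.elim i 0, ← hS]
  refine (Subgroup.map_le_iff_le_comap.2 ((Subgroup.closure_le _).2 ?_) : _ ≤ Φ.range) r4
  rintro _ ⟨i, e, x, rfl⟩
  simpa [f3] using p2 i e x

end H09
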