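import Mathlib
import Cfsg.Agent.H09.SUn1
/-! Bounded presentations of `SU_n(q)`, II: gluing along the alternating group. -/
namespace H09
open Matrix Cfsg Equiv Equiv.Perm
open scoped MatrixGroups
variable {F : Type*} [Field F] {q n m : ℕ} {J : Type*} [Group J] [Finite F] [hF : Fact (Nat.card F = q ^ 2)]

theorem alt_gen3 (hn : 3 ≤ n) {H : Subgroup (Perm (Fin n))} (h : ∀ i (e : i + 2 < n), tc ⟨i, by omega⟩ ⟨i + 1, by omega⟩ ⟨i + 2, e⟩ ∈ H) :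
    AltOn Set.univ ≤ H := by
  have k : ∀ i (e : i + 2 < n), AltOn (seg n i (i + 3)) ≤ H := fun i e => (altOn_mono fun a => by simp [Fin.ext_iff]; omega).trans
    (altOn_le (X := {⟨i + 2, e⟩}) (a := ⟨i, by omega⟩) (b := ⟨i + 1, by omega⟩) (Fin.ne_of_val_ne (by simp)) fun x p _ _ => p ▸ h i e)
  have : ∀ i, i + 2 < n → AltOn (seg n 0 (i + 3)) ≤ H := fun i => by
    induction i with
    | zero => exact k 0
    | succ i ih => exact fun e => (altOn_mono fun a => by simp; omega).trans (altOn_union (a := ⟨i + 1, by omega⟩) (b := ⟨i + 2, by omega⟩)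
        (Fin.ne_of_val_ne (by simp)) (by simp) (by simp) (ih (by omega)) (k _ e))
  exact (altOn_mono fun a => by simp; omega).trans (this (n - 3) (by omega))

theorem ex_alt3 (hn : 5 ≤ n) {a b c a' b' c' : Fin n} (h : a ≠ b ∧ a ≠ c ∧ b ≠ c) (h' : a' ≠ b' ∧ a' ≠ c' ∧ b' ≠ c') :
    ∃ σ : alternatingGroup (Fin n), σ.1 a = a' ∧ σ.1 b = b' ∧ σ.1 c = c' := by
  have k : ∀ {a b c : Fin n}, a ≠ b ∧ a ≠ c ∧ b ≠ c → Function.Injective ![a, b, c] := fun h i j => by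
    fin_cases i <;> fin_cases j <;> simp [h, h.1.symm, h.2.1.symm, h.2.2.symm]
  obtain ⟨σ, e⟩ := exists_alt' (k h) (k h') (by simpa)
  exact ⟨σ, e 0, e 1, e 2⟩

theorem alt_core (hm : m = 2 ∧ 4 ≤ q ∨ m = 3) (hn : 6 ≤ n) (e0 : 0 + m ≤ n) (e1 : m + m ≤ n) (e2 : 0 + (m + 1) ≤ n) (e3 : 0 + 3 ≤ m + 1)
    {pw : alternatingGroup (Fin n) →* SU n F q} (hpw : ∀ σ i, uac (pw σ) (ev i) = ev (σ.1 i)) {φ : J →* SU n F q} {ψ : SU (m + 1) F q →* J}
    {f : alternatingGroup (Fin n) →* J} (hψ : ∀ x, φ (ψ x) = suPad (shift 0 e2) x) (hf : ∀ σ, φ (f σ) = pw σ)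
    (r1 : ∀ σ, (∀ i, σ.1 (shift 0 e0 i) = shift 0 e0 i) → ∀ x, Commute (f σ) (ψ (pq0 x))) {τ τ₁ τ₂ c : alternatingGroup (Fin n)}
    (hτ : ∀ i j : Fin n, i.1 ≤ m → j.1 = (i + 1) % (m + 1) → τ.1 i = j) (r2 : ∀ x, ψ (pq1 x) = f τ * ψ (pq0 x) * (f τ)⁻¹)
    (h1 : ∀ i, τ₁.1 (shift 0 e0 i) = shift m e1 i) (r3 : ∀ x y, Commute (ψ (pq0 x)) (f τ₁ * ψ (pq0 y) * (f τ₁)⁻¹)) {a b : Fin n} (ab : a ≠ b)
    (ha : m ≤ a.1 ∧ m ≤ b.1) (h2 : ∀ i, τ₂.1 (shift 0 e0 i) = swap a b (shift m e1 i))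
    (r4 : m ≠ 2 → ∀ x y, Commute (ψ (pq0 x)) (f τ₂ * ψ (pq0 y) * (f τ₂)⁻¹))
    (hc : c.1 = tc ⟨0, by omega⟩ ⟨1, by omega⟩ ⟨2, by omega⟩) {P} (r5 : f c = ψ (suPad (shift 0 e3) P)) :
    ∃ Φ : SU n F q →* J, (∀ x, φ (Φ x) = x) ∧ (∀ x, ψ x ∈ Φ.range) ∧ ∀ σ, f σ ∈ Φ.range := by
  have K0 : ∀ {σ σ' g}, Commute (f (σ'⁻¹ * σ)) g → f σ * g * (f σ)⁻¹ = f σ' * g * (f σ')⁻¹ := fun {σ σ' g} h => by
    rw [← mul_inv_cancel_left σ' σ, map_mul, mul_assoc (f σ'), h.eq]; group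
  have K : ∀ σ σ', (∀ i, σ.1 (shift 0 e0 i) = σ'.1 (shift 0 e0 i)) → ∀ x, f σ * ψ (pq0 x) * (f σ)⁻¹ = f σ' * ψ (pq0 x) * (f σ')⁻¹ :=
    fun σ σ' h x => K0 (r1 _ (fun i => by simp [h]) x)
  have D : ∀ σ σ', (∀ i j, σ.1 (shift 0 e0 i) ≠ σ'.1 (shift 0 e0 j)) → ∀ x y,
      Commute (f σ * ψ (pq0 x) * (f σ)⁻¹) (f σ' * ψ (pq0 y) * (f σ')⁻¹) := fun σ σ' h x y => by
    have i1 : Function.Injective (Sum.elim (shift 0 e0) (shift m e1)) :=
      (shift 0 e0).injective.sumElim (shift m e1).injective fun i j => by simp [Fin.ext_iff]; omega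
    have i2 := (σ.1.injective.comp (shift 0 e0).injective).sumElim (σ'.1.injective.comp (shift 0 e0).injective) h
    have k : ∀ κ τ : alternatingGroup (Fin n), (∀ i, κ.1 (shift 0 e0 i) = σ.1 (shift 0 e0 i)) → (∀ i, κ.1 (τ.1 (shift 0 e0 i)) = σ'.1 (shift 0 e0 i)) →
        Commute (ψ (pq0 x)) (f τ * ψ (pq0 y) * (f τ)⁻¹) → Commute (f σ * ψ (pq0 x) * (f σ)⁻¹) (f σ' * ψ (pq0 y) * (f σ')⁻¹) := fun κ τ a b c => by
      rw [← K _ _ a, ← K (κ * τ) _ b]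
      simpa only [map_mul f, mul_assoc, _root_.mul_inv_rev, MulAut.conj_apply] using c.map (MulAut.conj (f κ))
    by_cases c : m = 2
    · obtain ⟨κ, e⟩ := exists_alt' (i1.comp finSumFinEquiv.symm.injective) (i2.comp finSumFinEquiv.symm.injective) (by simp; omega)
      replace e := fun i => e (finSumFinEquiv i)
      simp only [Function.comp, symm_apply_apply] at e
      exact k κ τ₁ (fun i => e (.inl i)) (fun i => h1 i ▸ e (.inr i)) (r3 x y)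
    obtain ⟨κ, e | e⟩ := exists_alt i1 i2 ab
    · exact k κ τ₁ (fun i => e (.inl i)) (fun i => h1 i ▸ e (.inr i)) (r3 x y)
    · refine k κ τ₂ (fun i => .trans ?_ (e (.inl i))) (fun i => h2 i ▸ e (.inr i)) (r4 c x y)
      rw [Sum.elim_inl, swap_apply_of_ne_of_ne] <;> simp [Fin.ext_iff] <;> omega
  choose σ hσ using fun i => show ∃ σ : alternatingGroup (Fin n), ∀ a b : Fin n, a.1 ≤ m → b.1 = i + a → σ.1 a = b by
    by_cases c : i ≤ n
    · obtain ⟨σ, e⟩ := exists_alt' (shift (m := min (m + 1) (n - i)) (n := n) 0 (by omega)).injective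
        (shift (m := min (m + 1) (n - i)) (n := n) i (by omega)).injective (by simp; omega)
      exact ⟨σ, fun a b p q => by convert e ⟨a, by omega⟩ <;> simp [Fin.ext_iff, q]⟩
    · exact ⟨1, fun a b _ _ => by omega⟩
  have t1 : ∀ i, i + (m + 1) ≤ n → ∀ x, f (σ i) * ψ (pq1 x) * (f (σ i))⁻¹ = f (σ (i + 1)) * ψ (pq0 x) * (f (σ (i + 1)))⁻¹ := fun i e x => by
    rw [← K (σ i * τ) _ fun k => ?_, r2]
    · simp [mul_assoc]
    rw [hσ (i + 1) _ ⟨i + 1 + k, by omega⟩ (by simp) (by simp), Subgroup.coe_mul, Perm.mul_apply,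
      hτ _ ⟨k + 1, by omega⟩ (by simp) (by simp [Nat.mod_eq_of_lt]), hσ] <;> simp <;> omega
  obtain ⟨Φ, p1, p2⟩ := phan_m hm (by omega) ψ (fun i => f (σ i)) t1 (fun i j e e' x y c => by
    have s : ∀ i, i + m ≤ n → ∀ k, ((σ i).1 (shift 0 e0 k)).1 = i + k := fun i e k => by
      rw [hσ i _ ⟨i + k, by omega⟩ (by simp) (by simp)]
    by_cases c1 : i + m ≤ j
    · exact D _ _ (fun k l => by rw [Ne, Fin.ext_iff, s i (by omega), s j e']; omega) x y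
    obtain rfl : m = 3 := by omega
    have s1 : ∀ x, ψ (pq0 (p12 x)) = f τ * ψ (pq0 (p01 x)) * (f τ)⁻¹ := fun x => by rw [← r2, suPad_shift, suPad_shift]
    have K2 : ∀ γ, γ.1 ⟨0, by omega⟩ = ⟨0, by omega⟩ → γ.1 ⟨1, by omega⟩ = ⟨1, by omega⟩ → ∀ x, Commute (f γ) (ψ (pq0 (p01 x))) := fun γ g0 g1 x => by
      obtain ⟨γ', p, e⟩ := altOn_union (A := {i : Fin n | 3 ≤ i.1}) (B := {i | i.1 = 2 ∨ 4 ≤ i.1}) (a := ⟨4, by omega⟩) (b := ⟨5, by omega⟩)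
        (by simp) (by simp) (by simp) (H := ((Subgroup.centralizer {ψ (pq0 (p01 x))}).comap f).map (alternatingGroup _).subtype)
        (fun γ h => ⟨⟨γ, h.1⟩, fun _ e => e ▸ (r1 _ (fun i => h.2 _ (by simp)) _).symm, rfl⟩) (fun γ h => ⟨⟨γ, h.1⟩, fun _ e => e ▸ by
          have := (r1 (τ * ⟨γ, h.1⟩ * τ⁻¹) (fun i => by
            rw [← hτ ⟨(i + 3) % 4, by omega⟩ (shift 0 e0 i) (by simp; omega) (by simp; omega)]
            simpa using h.2 _ (by simp; omega)) (p12 x)).map (MulAut.conj (f τ)⁻¹)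
          simpa [s1, mul_assoc] using this.symm.eq, rfl⟩) (x := γ.1) ⟨γ.2, fun a h => by
            obtain rfl | rfl : a = ⟨0, by omega⟩ ∨ a = ⟨1, by omega⟩ := by simp [Fin.ext_iff] at h ⊢; omega
            exacts [g0, g1]⟩
      exact (Subtype.ext e : γ' = γ) ▸ (p _ rfl).symm
    obtain ⟨k, hk⟩ : ∃ k : Fin n, k.1 < i ∨ i + 4 < k.1 := by
      by_cases c : i = 0
      exacts [⟨⟨5, by omega⟩, by simp [c]⟩, ⟨⟨0, by omega⟩, by simp; omega⟩]
    have s2 : ∀ γ l (e : l + 1 < n), i ≤ l → l ≤ i + 3 → γ.1 ⟨0, by omega⟩ = ⟨l, by omega⟩ → γ.1 ⟨1, by omega⟩ = ⟨l + 1, e⟩ →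
        ∃ γ', (∀ a : Fin 3, (γ'.1 (shift 0 e0 a)).1 = if a.1 = 2 then k.1 else l + a) ∧
          ∀ x, f γ * ψ (pq0 (p01 x)) * (f γ)⁻¹ = f γ' * ψ (pq0 (p01 x)) * (f γ')⁻¹ := fun γ l e a b g0 g1 => by
      obtain ⟨γ', u0, u1, u2⟩ := ex_alt3 (by omega) (a := ⟨0, by omega⟩) (b := ⟨1, by omega⟩) (c := ⟨2, by omega⟩) (a' := ⟨l, by omega⟩)
        (b' := ⟨l + 1, e⟩) (c' := k) (by simp) (by simp [Fin.ext_iff]; omega)
      refine ⟨γ', fun a => ?_, fun x => K0 (K2 _ (by simp [g0, ← u0]) (by simp [g1, ← u1]) x)⟩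
      fin_cases a
      exacts [congrArg Fin.val u0, congrArg Fin.val u1, congrArg Fin.val u2]
    rcases c.resolve_left c1 with c | c
    · obtain ⟨x, rfl⟩ := (sbl_iff (k := 0) (m := 2) (n := 3) (Nat.le_succ 2)).1 c
      obtain ⟨γ, u, v⟩ := s2 (σ i) i (by omega) le_rfl (by omega) (hσ _ _ _ (by simp) rfl) (hσ _ _ _ (by simp) rfl)
      rw [v]; exact D _ _ (fun a b => by rw [Ne, Fin.ext_iff, u, s j e']; split_ifs <;> omega) _ y
    · obtain ⟨y, rfl⟩ := (sbl_iff (k := 1) (m := 2) (n := 3) le_rfl).1 c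
      obtain ⟨γ, u, v⟩ := s2 (σ j * τ) (j + 1) (by omega) (by omega) (by omega)
        ((congrArg (σ j).1 (hτ _ ⟨1, by omega⟩ (by simp) rfl)).trans (hσ _ _ _ (by simp) rfl))
        ((congrArg (σ j).1 (hτ _ ⟨2, by omega⟩ (by simp) rfl)).trans (hσ _ _ _ (by simp) rfl))
      have := D (σ i) γ (fun a b => by rw [Ne, Fin.ext_iff, u, s i (by omega)]; split_ifs <;> omega) x (p01 y)
      rw [← v] at this
      simpa [s1, mul_assoc] using this) (φ := φ) fun i e x => by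
        rw [map_mul, map_mul, map_inv, hf, hψ]; exact conj_pad (fun k => by rw [hpw, hσ i _ (shift i e k) (by simp; omega) (by simp)]) x
  have p3 : ∀ γ, f γ ∈ Φ.range := fun γ => by
    obtain ⟨γ', p, e⟩ := alt_gen3 (by omega) (H := (Φ.range.comap f).map (alternatingGroup _).subtype) (fun i e => ⟨σ i * c * (σ i)⁻¹, by
      change f _ ∈ Φ.range
      rw [map_mul, map_mul, map_inv, r5]
      by_cases c : i + (m + 1) ≤ n
      · exact p2 i c _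
      obtain rfl : m = 3 := by omega
      obtain ⟨i, rfl⟩ : ∃ j, i = j + 1 := ⟨i - 1, by omega⟩
      exact t1 i (by omega) P ▸ p2 i (by omega) _, by
        change (σ i).1 * c.1 * (σ i).1⁻¹ = _
        rw [hc, conj_tc]; congr <;> apply hσ <;> simp <;> omega⟩) (x := γ.1) ⟨γ.2, by simp⟩
    exact (Subtype.ext e : γ' = γ) ▸ p
  exact ⟨Φ, p1, fun x => (mul_mem_cancel_left (p3 _)).1 ((mul_mem_cancel_right (inv_mem (p3 _))).1 (p2 0 e2 x)), p3⟩

theorem SU_alt (hm : m = 2 ∧ 4 ≤ q ∨ m = 3) (hn : 6 ≤ n) {d r} (hg : PG (SU (m + 1) F q) d r)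
    (h2 : ∃ a b : SU m F q, Subgroup.closure {a, b} = ⊤) : PG (SU n F q) (d + 3) (r + if m = 2 then 18 else 22) := by
  obtain ⟨g, hg⟩ := hg
  obtain ⟨ga, hga⟩ := (alt_pg (n := n) (by omega)).1 (by omega)
  obtain ⟨u, v, huv⟩ := h2
  obtain ⟨pw, hpw⟩ := ex_pw (n := n) (F := F) (q := q)
  obtain ⟨pw', hpw'⟩ := ex_pw (n := 3) (F := F) (q := q)
  have e0 : 0 + m ≤ n := by omega
  have e1 : m + m ≤ n := by omega
  have e2 : 0 + (m + 1) ≤ n := by omega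
  have e3 : 0 + 3 ≤ m + 1 := by omega
  have e4 : 0 + 0 + 3 ≤ n := by omega
  obtain ⟨ν, hν⟩ : ∃ ν : SU (m + 1) F q →* SU n F q, ν = suPad (shift 0 e2) := ⟨_, rfl⟩
  have n0 : ∀ x, ν (pq0 x) = suPad (shift 0 e0) x := fun x => by rw [hν, suPad_shift]
  obtain ⟨π, hπ⟩ : ∃ π, π = FreeGroup.lift (Sum.elim (fun i => ν (g i)) fun i => pw (ga i)) := ⟨_, rfl⟩
  obtain ⟨w, w1, w2⟩ := hg.rel' (π := π) ν (fun i => .of (.inl i)) (by simp [hπ])
  obtain ⟨w', w3, w4⟩ := hga.rel' (π := π) pw (fun i => .of (.inr i)) (by simp [hπ])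
  obtain ⟨a, ha⟩ : ∃ a : Fin n, a.1 = m := ⟨⟨m, by omega⟩, rfl⟩
  obtain ⟨b, hb⟩ : ∃ a : Fin n, a.1 = m + 1 := ⟨⟨m + 1, by omega⟩, rfl⟩
  obtain ⟨c, hc⟩ : ∃ a : Fin n, a.1 = m + 2 := ⟨⟨m + 2, by omega⟩, rfl⟩
  have ab : a ≠ b := by simp [Fin.ext_iff]; omega
  obtain ⟨δ, d1, d2, d3⟩ := gen2 (X := Finset.univ.filter fun i : Fin n => m ≤ i.1) ab (x := c) (by simp [Fin.ext_iff]; omega)
    (by simp [Fin.ext_iff]; omega) (by simp; omega) (by simp; omega) (by simp; omega) 1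
  have d4 := tc_mem (X := {i : Fin n | m ≤ i.1}) ab (x := c) (by simp [Fin.ext_iff]; omega) (by simp; omega) (by simp; omega) (by simp; omega)
  obtain ⟨τ, hτ⟩ := exists_alt' (shift 0 e2).injective ((shift 0 e2).injective.comp (finRotate _).injective) (by simp; omega)
  replace hτ : ∀ i j : Fin n, i.1 ≤ m → j.1 = (i + 1) % (m + 1) → τ.1 i = j := fun i j p e => by
    convert hτ ⟨i, by omega⟩ <;> simp [Fin.ext_iff, Fin.val_add, e]
  obtain ⟨τ₁, h1⟩ := exists_alt' (shift 0 e0).injective (shift m e1).injective (by simp; omega)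
  obtain ⟨τ₂, h2⟩ := exists_alt' (shift 0 e0).injective ((swap a b).injective.comp (shift m e1).injective) (by simp; omega)
  have cj : ∀ γ (e : Fin m ↪ Fin n), (∀ i, γ.1 (shift 0 e0 i) = e i) → ∀ x, π (w' γ * w (pq0 x) * (w' γ)⁻¹) = suPad e x := fun γ e h x => by
    rw [map_mul, map_mul, map_inv, w3, w1, n0, conj_pad fun i => by rw [hpw, h]]
  have cm : ∀ γ (e : Fin m ↪ Fin n), (∀ i, γ.1 (shift 0 e0 i) = e i) → (∀ i, m ≤ (e i).1) → Rels π 4 fun C => ∀ x ∈ [u, v], ∀ y ∈ [u, v],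
      Commute (C.ρ (w (pq0 x))) (C.ρ (w' γ * w (pq0 y) * (w' γ)⁻¹)) := fun γ e h h' => Rels.list [u, v] fun x _ => Rels.list [u, v] fun y _ =>
    .comm (a := w (pq0 x)) (b := w' γ * w (pq0 y) * (w' γ)⁻¹) (by
    rw [cj γ e h, w1, n0]
    refine ubl_comm (Set.disjoint_left.2 ?_) (suPad_sbl e0 x) ((suPad_range e).le ⟨y, rfl⟩)
    rintro _ p ⟨i, rfl⟩; have := h' i; simp at p; omega)
  have R1 := Rels.list (π := π) [(⟨_, d4.1⟩ : alternatingGroup _), ⟨δ, d2⟩] fun γ p => Rels.list [u, v] fun x _ =>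
    Rels.comm (a := w' γ) (b := w (pq0 x)) (by
      have := cj γ (shift 0 e0) (fun i => by
        obtain rfl | rfl : γ = _ ∨ γ = _ := by simpa only [List.mem_cons, List.not_mem_nil, or_false] using p
        exacts [d4.2 _ (by simp), d1 _ (by simp)]) x
      rw [map_mul, map_mul, map_inv, ← n0, ← w1] at this
      exact mul_inv_eq_iff_eq_mul.1 this)
  have R2 := Rels.list (π := π) [u, v] fun x _ => Rels.eq (a := w (pq1 x)) (b := w' τ * w (pq0 x) * (w' τ)⁻¹) (by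
    rw [cj τ (shift 1 (by omega)) fun i => hτ _ _ (by simp) (by simp [Nat.mod_eq_of_lt, add_comm]), w1, hν, suPad_shift])
  have R4 : Rels π (if m = 2 then 0 else 4) fun C => m ≠ 2 → ∀ x ∈ [u, v], ∀ y ∈ [u, v],
      Commute (C.ρ (w (pq0 x))) (C.ρ (w' τ₂ * w (pq0 y) * (w' τ₂)⁻¹)) := by
    split_ifs with e
    · exact .triv fun _ h => absurd e h
    · exact (cm τ₂ ((shift m e1).trans (swap a b).toEmbedding) h2 fun i => by
        simp only [Function.Embedding.trans_apply, coe_toEmbedding, swap_apply_def]; split_ifs <;> first | omega | simp).imp le_rfl fun _ h _ => h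
  have d5 : tc (⟨0, by omega⟩ : Fin n) ⟨1, by omega⟩ ⟨2, by omega⟩ ∈ alternatingGroup _ := by simp [tc]
  have R5 := Rels.eq (π := π) (a := w' ⟨_, d5⟩) (b := w (suPad (shift 0 e3) (pw' ⟨tc 0 1 2, by simp [tc]⟩))) (by
    rw [w3, w1, hν, suPad_shift]
    refine SU_ext fun i => ?_
    rw [hpw]
    by_cases c : i.1 < 3
    · obtain ⟨k, rfl⟩ : ∃ k, i = shift (0 + 0) e4 k := ⟨⟨i, c⟩, by simp [Fin.ext_iff]⟩
      rw [uac_suPad, show ev (shift _ e4 k) ∘ shift _ e4 = ev k from funext fun j => by simp [Pi.single_apply], hpw', mulVec_sub, incl_vec, incl_vec,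
        add_sub_cancel]
      congr 1; fin_cases k <;> simp [tc_apply, Fin.ext_iff]
    · rw [suPad_sbl _ _ i (by simp; omega), tc_apply (by simp) (by simp) (by simp)]
      simp only [Fin.ext_iff]; split_ifs <;> first | omega | rfl)
  refine HasPres.pg (g := Sum.elim (fun i => ν (g i)) fun i => pw (ga i)) (r := r + if m = 2 then 18 else 22) (.of_sec ?_ ?_) (by simp)
    (by simp) <;> rw [← hπ]
  · exact fun x => blk_gen (m := m) (H := π.range) (by omega) (by omega) (fun i e x => by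
      obtain ⟨γ, h⟩ := exists_alt' (shift 0 e2).injective (shift i e).injective (by simp; omega)
      exact ⟨w' γ * w x * (w' γ)⁻¹, by rw [map_mul, map_mul, map_inv, w3, w1, hν, conj_pad fun i => by rw [hpw, h]]⟩) x
  refine ((((((w2.and w4).and R1).and R2).and (cm τ₁ _ h1 (by simp))).and R4).and R5).imp (by simp; split_ifs <;> omega)
    fun C ⟨⟨⟨⟨⟨⟨⟨ψ, f1, f2⟩, f, f1', f2'⟩, r1⟩, r2⟩, r3⟩, r4⟩, r5⟩ => ?_
  have f3 : ∀ x, C.ρ (w x) = ψ x := congrFun f2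
  have f3' : ∀ x, C.ρ (w' x) = f x := congrFun f2'
  simp only [map_mul, map_inv, f3, f3'] at r1 r2 r3 r4 r5
  have cg := fun γ => comm_gen (f := ψ.comp pq0) (g := (MulAut.conj (f γ)).toMonoidHom.comp (ψ.comp pq0)) huv huv
  obtain ⟨Φ, p1, p2, p3⟩ := alt_core hm hn e0 e1 e2 e3 hpw (φ := C.φ) (fun x => by rw [← f3, C.comp, w1, hν]) (fun x => by rw [← f3', C.comp, w3])
    (fun σ h x => by
      refine ((Subgroup.closure_le ((Subgroup.centralizer {f σ}).comap (ψ.comp pq0))).2 (fun y p _ e => e ▸ ?_) (huv.ge (Subgroup.mem_top x)) _ rfl :)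
      obtain ⟨γ, p, e⟩ := (Subgroup.closure_le (((Subgroup.centralizer {ψ (pq0 y)}).comap f).map (alternatingGroup _).subtype)).2
        (Set.pair_subset ⟨⟨_, d4.1⟩, fun _ e => e ▸ (r1 _ (by simp) y (by simpa using p)).symm, rfl⟩
          ⟨⟨δ, d2⟩, fun _ e => e ▸ (r1 _ (by simp) y (by simpa using p)).symm, rfl⟩) (d3 (x := σ.1) ⟨σ.2, fun i e => by
            simpa [show shift 0 e0 ⟨i, by simpa using e⟩ = i by simp [Fin.ext_iff]] using h ⟨i, by simpa using e⟩⟩)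
      exact (Subtype.ext e : γ = σ) ▸ (p _ rfl).symm) hτ
    (DFunLike.congr_fun (MonoidHom.eq_of_eqOn_dense huv (f := ψ.comp pq1) (g := (MulAut.conj (f τ)).toMonoidHom.comp (ψ.comp pq0))
      fun x p => r2 x (by simpa using p))) h1 (cg τ₁ r3) ab (by omega) h2 (fun c => cg τ₂ (r4 c)) rfl r5
  exact ⟨Φ, p1, Sum.forall.2 ⟨fun i => f1 i ▸ p2 _, fun i => f1' i ▸ p3 _⟩⟩

end H09
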