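import Mathlib
import Cfsg.Agent.H09.SUn2
/-! Two-element generation of `SU₂(q)` and `SU₃(q)`. -/
namespace H09
open Matrix Cfsg
open scoped MatrixGroups
variable {F : Type*} [Field F] {q n m : ℕ} [Finite F] [hF : Fact (Nat.card F = q ^ 2)]
local notation "B" => hermForm _ F q

theorem two_map {G G' : Type*} [Group G] [Group G'] (e : G ≃* G') (h : ∃ a b : G, Subgroup.closure {a, b} = ⊤) :
    ∃ a b : G', Subgroup.closure {a, b} = ⊤ :=
  let ⟨a, b, h⟩ := h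
  ⟨e a, e b, by simpa [MonoidHom.map_closure, Set.image_insert_eq] using congrArg (Subgroup.map e.toMonoidHom) h⟩

theorem SU2_two : ∃ a b : SU 2 F q, Subgroup.closure {a, b} = ⊤ := let ⟨_, j, _⟩ := su2_sl2 (F := F) (q := q); two_map j (SL_two_gen 2)

/-- the first coordinates of the root elements in `H` -/
def uA (H : Subgroup (U3 F q)) : AddSubgroup F where
  carrier := {a | ∃ s e, uX a s e ∈ H}
  zero_mem' := ⟨0, by simp [cq_zero], by rw [uX_zero]; exact one_mem _⟩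
  add_mem' := fun ⟨_, e, a⟩ ⟨_, e', b⟩ => ⟨_, _, uX_mul _ _ _ _ e e' ▸ mul_mem a b⟩
  neg_mem' := fun {a} ⟨s, e, h⟩ => ⟨s ^ q, by rw [cq_cq, cq_neg]; linear_combination e, by
    convert inv_mem h using 1
    rw [eq_inv_iff_mul_eq_one, uX_mul, uX_congr (b := 0) (t := 0) (by simp) (by rw [cq_neg]; linear_combination e), uX_zero]⟩

theorem mem_uA {H : Subgroup (U3 F q)} {a} : a ∈ uA H ↔ ∃ s e, uX a s e ∈ H := Iff.rfl

theorem uX_all {H : Subgroup (U3 F q)} (h : uA H = ⊤) (a s e) : uX a s e ∈ H := by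
  obtain ⟨t, ht⟩ := ex_tr_eq (q := q) (c := (1 : F)) (by simp)
  obtain ⟨s', e', h1⟩ := mem_uA.1 (h.ge (AddSubgroup.mem_top a))
  obtain ⟨u, e2, h2⟩ := mem_uA.1 (h.ge (AddSubgroup.mem_top 1))
  obtain ⟨v, e3, h3⟩ := mem_uA.1 (h.ge (AddSubgroup.mem_top ((s' - s) * t)))
  refine (mul_mem_cancel_left (mul_mem h3 h2)).1 ?_
  convert mul_mem (mul_mem h2 h3) h1 using 1
  simp only [uX_mul]
  refine uX_congr (by ring) ?_
  simp only [cq_add, mul_pow, cq_sub, one_pow]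
  linear_combination (s' - s) * ht - t ^ q * (e' - e)

theorem U3_top {H : Subgroup (U3 F q)} (h : uA H = ⊤) (ht : uT ∈ H) : H = ⊤ := by
  have h1 : ∀ l, uH l ∈ H := fun l => by
    obtain ⟨a, ha⟩ := ex_norm (q := q) (c := -(l.1 + l.1 ^ q)) (by rw [cq_neg, cq_add, cq_cq, add_comm])
    have e : l.1 + l.1 ^ q + a ^ q * a = 0 := by linear_combination ha
    obtain ⟨b, s, e', c, hc⟩ := uB_br (g := uT * uX a l e * uT) fun h => by simpa [U3.mul_val, uT_val, uX_val] using h.2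
    obtain ⟨b', s', e'', k, hk⟩ := uB_eq c.2
    have := congrArg (·.1.1 2 0) hc
    rw [hk] at hc this
    obtain rfl : l = k := Units.ext (by simpa [U3.mul_val, uT_val, uX_val, uH_val] using this)
    exact (mul_mem_cancel_left (uX_all h _ _ _)).1 ((mul_mem_cancel_left (mul_mem (uX_all h _ _ _) ht)).1
      (hc ▸ mul_mem (mul_mem ht (uX_all h _ _ _)) ht))
  have h2 : uB F q ≤ H := fun g hg => let ⟨_, _, _, l, e⟩ := uB_eq hg; e ▸ mul_mem (uX_all h _ _ _) (h1 l)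
  refine eq_top_iff.2 fun g _ => by_cases (h2 ·) fun c => ?_
  obtain ⟨_, _, _, b, rfl⟩ := uB_br c
  exact mul_mem (mul_mem (uX_all h _ _ _) ht) (h2 b.2)

theorem U3_two (hq : q ≠ 2) : ∃ a b : U3 F q, Subgroup.closure {a, b} = ⊤ := by
  obtain ⟨ζ, h1, -, -, h2⟩ := u3_gen (F := F) (q := q)
  obtain ⟨s, hs⟩ := ex_tr_eq (q := q) (c := (-1 : F)) (by simp [cq_neg])
  have e : s + s ^ q + 1 ^ q * 1 = 0 := by simp [hs]
  have q2 := H10.two_le_q hF.1
  refine ⟨uH ζ, uX 1 s e * uT, ?_⟩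
  generalize hH : Subgroup.closure {uH ζ, uX 1 s e * uT} = H
  have m1 : ∀ l, uH l ∈ H := fun l => let ⟨k, e⟩ := h1 l; e ▸ map_pow (uH (q := q)) ζ k ▸ pow_mem (hH ▸ Subgroup.subset_closure (by simp)) k
  have m2 : uX 1 s e * uT ∈ H := hH ▸ Subgroup.subset_closure (by simp)
  have m3 : ∀ l : Fˣ, ∀ a ∈ uA H, l.1 ^ q * l.1 ^ q / l * a ∈ uA H := fun l a ⟨s, e, h⟩ =>
    ⟨_, _, uH_uX l a s e ▸ mul_mem (mul_mem (m1 l) h) (inv_mem (m1 l))⟩
  obtain ⟨η, hη⟩ : ∃ η, η = ζ.1 ^ q * ζ.1 ^ q / ζ := ⟨_, rfl⟩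
  have m4 : η ^ q - η ≠ 0 := fun c => by
    have := h2 (3 * (q - 1)) (by omega) (mul_right_cancel₀ (pow_ne_zero 3 ζ.ne_zero) (by
      rw [← pow_add, show 3 * (q - 1) + 3 = q * 3 by omega, pow_mul]
      simp only [hη, div_pow, mul_pow, cq_cq] at c
      field_simp at c; linear_combination -c))
    obtain ⟨k, rfl⟩ : ∃ k, q = k + 3 := ⟨q - 3, by omega⟩
    simp at this; nlinarith
  have m5 : ∀ c a, a ∈ uA H → c * a ∈ uA H := fun c a h => by
    have k : ∀ c : F, c ^ q = c → ∀ a ∈ uA H, c * a ∈ uA H := fun c e a h => by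
      by_cases c0 : c = 0
      · simp [c0]
      simpa [e, c0] using m3 (.mk0 c c0) a h
    convert add_mem (k ((c * η ^ q - c ^ q * η) / (η ^ q - η)) ?_ a h) (k ((c ^ q - c) / (η ^ q - η)) ?_ _ (hη ▸ m3 ζ a h)) using 1
    · field_simp; ring
    all_goals simp only [div_pow, cq_sub, mul_pow, cq_cq]; rw [← neg_div_neg_eq]; congr 1 <;> ring
  obtain ⟨l, hl⟩ := eq_uH' (q := q) (uT_uH ζ) (by simpa [← mul_assoc, uT_sq, mul_assoc _ uT uT] using uH_mem ζ)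
  have m6 : 1 - η⁻¹ ^ q ∈ uA H := by
    have a1 := mul_mem (mul_mem (mul_mem m2 (m1 ζ)) (inv_mem m2)) (inv_mem (m1 l))
    obtain ⟨u, e', a2⟩ : ∃ u e', (uX 1 s e)⁻¹ = uX (-1) u e' := ⟨s ^ q, by rw [cq_cq, cq_neg]; linear_combination e, by
      rw [inv_eq_iff_mul_eq_one, uX_mul, uX_congr (b := 0) (t := 0) (by simp) (by linear_combination e), uX_zero]⟩
    rw [_root_.mul_inv_rev, inv_eq_of_mul_eq_one_right uT_sq, a2, show ∀ a b c d e : U3 F q, a * b * c * (b * d) * e = a * (b * c * b * d * e) from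
      fun _ _ _ _ _ => by group, hl, uH_uX, uX_mul] at a1
    have : (ζ.1 ^ q)⁻¹ = l := by simpa [U3.mul_val, uT_val, uH_val] using congrArg (·.1.1 0 0) hl
    refine ⟨_, _, (uX_congr ?_ rfl).subst a1⟩
    simp only [← this, hη, inv_pow, div_pow, mul_pow, cq_cq]; field_simp; ring
  have m7 : uA H = ⊤ := eq_top_iff.2 fun c _ => by
    have : 1 - η⁻¹ ^ q ≠ 0 := fun c => m4 (by
      have : η⁻¹ = 1 := by simpa [cq_cq] using congrArg (· ^ q) (sub_eq_zero.1 c).symm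
      simp [inv_eq_one.1 this])
    exact div_mul_cancel₀ c this ▸ m5 (c / (1 - η⁻¹ ^ q)) _ m6
  exact U3_top m7 ((mul_mem_cancel_left (uX_all m7 _ _ _)).1 m2)

theorem U3_equiv' {P : GL (Fin 3) F} (hP : ∀ u v, hermForm 3 F q (P.1 *ᵥ u) (P.1 *ᵥ v) = hyF q u v) :
    ∃ e : U3 F q ≃* SU 3 F q, ∀ g, (e g).1.1 * P.1 = P.1 * g.1.1 := by
  refine ⟨((slConj P).subgroupMap _).trans (MulEquiv.subgroupCongr ?_), fun g => (show (slConj P g.1).1 * _ = _ by simp [slConj_val])⟩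
  ext g
  obtain ⟨g, rfl⟩ := (slConj P).surjective g
  refine (Subgroup.mem_map_iff_mem (f := (slConj P : SL(3, F) →* SL(3, F))) (slConj P).injective).trans (mem_U3.trans ?_)
  change _ ↔ ∀ u v, hermForm 3 F q ((slConj P g).1 *ᵥ u) ((slConj P g).1 *ᵥ v) = hermForm 3 F q u v
  simp only [slConj_val, ← mulVec_mulVec, hP]
  refine ⟨fun h u v => by rw [h, ← hP]; simp, fun h u v => by simpa [hP] using h (P.1 *ᵥ u) (P.1 *ᵥ v)⟩

theorem SU32_two (hq : q = 2) : ∃ (ω : F) (u u' : SU 3 F q), ω ^ q * ω = 1 ∧ u ^ 4 = 1 ∧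
    u'.1.1 * diagonal ![ω, 1, 1] = diagonal ![ω, 1, 1] * u.1.1 ∧ Subgroup.closure {u, u'} = ⊤ := by
  have := charP_q (F := F) (hq ▸ Nat.prime_two : q.Prime)
  subst hq
  obtain ⟨ω, hω⟩ := ex_tr_eq (q := 2) (c := (1 : F)) (by simp)
  have h2 : (2 : F) = 0 := CharP.cast_eq_zero F 2
  have e1 : ω + ω ^ 2 + 1 ^ 2 * 1 = 0 := by grind
  have e2 : ω + ω ^ 2 + ω ^ 2 * ω = 0 := by grind
  have e3 : (1 : F) + 1 ^ 2 + 0 ^ 2 * 0 = 0 := by grind
  have a1 : uX 1 ω e1 * uX 1 ω e1 = uX 0 1 e3 := by rw [uX_mul]; exact uX_congr (by grind) (by grind)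
  have a2 : uX ω ω e2 * uX ω ω e2 = uX 0 1 e3 := by rw [uX_mul]; exact uX_congr (by grind) (by grind)
  have a3 : (uT * uX ω ω e2 * uT).1.1 * !![0, 0, ω ^ 2; 0, 1, 0; ω ^ 2, 0, ω ^ 2] = !![0, 0, ω ^ 2; 0, 1, 0; ω ^ 2, 0, ω ^ 2] * (uX 1 ω e1).1.1 := by
    simp only [U3.mul_val, uX_val, uT_val, mul_fin_three]
    ext i j; fin_cases i <;> fin_cases j <;> simp <;> grind
  have a4 : uT = uX 0 1 e3 * (uT * uX 0 1 e3 * uT) * uX 0 1 e3 := U3.ext (by
    simp only [U3.mul_val, uX_val, uT_val, mul_fin_three]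
    ext i j; fin_cases i <;> fin_cases j <;> simp <;> grind)
  obtain ⟨P, hP⟩ : ∃ P : GL (Fin 3) F, P.1 = !![1, 0, ω + 1; 1, 0, ω; 0, 1, 0] := ⟨.mkOfDetNeZero _ (by simp [det_fin_three]), rfl⟩
  have a5 : diagonal ![ω, 1, 1] * P.1 = P.1 * !![0, 0, ω ^ 2; 0, 1, 0; ω ^ 2, 0, ω ^ 2] := by
    ext i j; fin_cases i <;> fin_cases j <;> simp [hP, Matrix.mul_apply, Fin.sum_univ_three, diagonal_apply] <;> grind
  obtain ⟨e, he⟩ := U3_equiv' (q := 2) (P := P) fun u v => by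
    simp [hP, hermForm, hyF, mulVec, dotProduct, Fin.sum_univ_three]
    grind
  refine ⟨ω, e (uX 1 ω e1), e (uT * uX ω ω e2 * uT), by grind, ?_, P.isUnit.mul_right_cancel ?_, ?_⟩
  · rw [← map_pow, show 4 = 2 * 2 from rfl, pow_mul, sq (uX _ _ _), a1, sq, uX_mul, uX_congr (b := 0) (t := 0) (by simp) (by grind), uX_zero, map_one]
  · rw [mul_assoc, a5, ← mul_assoc, he, mul_assoc _ _ P.1, he, ← mul_assoc, a5, mul_assoc P.1, mul_assoc P.1, a3]
  rw [← Set.image_pair, ← MulEquiv.coe_toMonoidHom, ← MonoidHom.map_closure]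
  generalize hH : Subgroup.closure {uX 1 ω e1, uT * uX ω ω e2 * uT} = H
  have m1 : uX 1 ω e1 ∈ H := hH ▸ Subgroup.subset_closure (by simp)
  have m2 : uT * uX ω ω e2 * uT ∈ H := hH ▸ Subgroup.subset_closure (by simp)
  have m3 : uT ∈ H := by
    have := mul_mem (mul_mem (mul_mem m1 m1) (mul_mem m2 m2)) (mul_mem m1 m1)
    rwa [show ∀ a b : U3 F 2, a * b * a * (a * b * a) = a * (b * (a * a) * b) * a from fun _ _ => by simp only [mul_assoc], uT_sq, mul_one,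
      a1, a2, ← a4] at this
  rw [U3_top (H := H) (eq_top_iff.2 fun c _ => ?_) m3]
  · simp
  have b1 : 1 ∈ uA H := ⟨_, _, m1⟩
  have b2 : ω ∈ uA H := ⟨_, _, (mul_mem_cancel_left m3).1 ((mul_mem_cancel_right m3).1 m2)⟩
  have : c = 0 ∨ c = 1 ∨ c = ω ∨ c = 1 + ω := by have := cq_cq (q := 2) c; grind
  rcases this with rfl | rfl | rfl | rfl
  exacts [zero_mem _, b1, b2, add_mem b1 b2]

theorem SU3_two : ∃ a b : SU 3 F q, Subgroup.closure {a, b} = ⊤ := by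
  by_cases hq : q = 2
  · obtain ⟨_, a, b, -, -, -, h⟩ := SU32_two (F := F) hq; exact ⟨a, b, h⟩
  · exact let ⟨e⟩ := U3_equiv (F := F) (q := q); two_map e (U3_two hq)

end H09
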