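import Mathlib
import Cfsg.Prelude.Def_MonsterType
import Cfsg.Agent.H09.AutPSL1
import Cfsg.Agent.H02.PCore
import Cfsg.Agent.H02.Basic
import Cfsg.Agent.H04.Extraspecial

/-! # Affine groups `2^(n+1) : L_{n+1}(2)` and centralizers of transvections over `F₂` -/

namespace H09

open Matrix Cfsg
open scoped commutatorElement

section slblk
variable {F : Type*} [Field F] {n : ℕ}

/-- `diag(1, B)` -/
def oneBlkMat (B : Matrix (Fin n) (Fin n) F) : Matrix (Fin (n + 1)) (Fin (n + 1)) F :=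
  of (Fin.cons (Pi.single 0 1) fun i => Fin.cons 0 (B i))

@[simp] theorem oneBlkMat_00 (B : Matrix (Fin n) (Fin n) F) : oneBlkMat B 0 0 = 1 := by
  simp [oneBlkMat]
@[simp] theorem oneBlkMat_0s (B : Matrix (Fin n) (Fin n) F) (j : Fin n) :
    oneBlkMat B 0 j.succ = 0 := by simp [oneBlkMat]
@[simp] theorem oneBlkMat_s0 (B : Matrix (Fin n) (Fin n) F) (i : Fin n) :
    oneBlkMat B i.succ 0 = 0 := by simp [oneBlkMat]
@[simp] theorem oneBlkMat_ss (B : Matrix (Fin n) (Fin n) F) (i j : Fin n) :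
    oneBlkMat B i.succ j.succ = B i j := by simp [oneBlkMat]

theorem oneBlkMat_mul (A B : Matrix (Fin n) (Fin n) F) :
    oneBlkMat (A * B) = oneBlkMat A * oneBlkMat B := by
  ext i j
  refine Fin.cases ?_ (fun i => ?_) i <;> refine Fin.cases ?_ (fun j => ?_) j <;>
    simp [mul_apply, Fin.sum_univ_succ]

theorem oneBlkMat_one : oneBlkMat (1 : Matrix (Fin n) (Fin n) F) = 1 := by
  ext i j
  refine Fin.cases ?_ (fun i => ?_) i <;> refine Fin.cases ?_ (fun j => ?_) j <;>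
    simp [one_apply, (Fin.succ_ne_zero _).symm]

theorem det_of_row_zero {A : Matrix (Fin (n + 1)) (Fin (n + 1)) F} (h0 : A 0 0 = 1)
    (h : ∀ j : Fin n, A 0 j.succ = 0) : A.det = (A.submatrix Fin.succ Fin.succ).det := by
  rw [det_succ_row_zero, Fin.sum_univ_succ]
  simp [h0, h]

theorem det_of_col_zero {A : Matrix (Fin (n + 1)) (Fin (n + 1)) F} (h0 : A 0 0 = 1)
    (h : ∀ j : Fin n, A j.succ 0 = 0) : A.det = (A.submatrix Fin.succ Fin.succ).det := by
  rw [det_succ_column_zero, Fin.sum_univ_succ]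
  simp [h0, h]

/-- `B ↦ diag(1, B)` -/
def oneBlk : Matrix.SpecialLinearGroup (Fin n) F →* Matrix.SpecialLinearGroup (Fin (n + 1)) F where
  toFun B := ⟨oneBlkMat B.1, by
    rw [det_of_row_zero (by simp) (by simp)]
    exact (congrArg det (by ext i j; simp)).trans B.2⟩
  map_one' := sl_ext oneBlkMat_one
  map_mul' A B := sl_ext (oneBlkMat_mul _ _)

theorem oneBlk_val (B : Matrix.SpecialLinearGroup (Fin n) F) : (oneBlk B).1 = oneBlkMat B.1 := rfl

theorem oneBlk_injective : Function.Injective (oneBlk (F := F) (n := n)) := fun A B h =>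
  sl_ext (by
    ext i j
    have := congrFun (congrFun (congrArg Subtype.val h) i.succ) j.succ
    simpa [oneBlk_val] using this)

/-- stabilizer of a row vector -/
def rowStab {ι : Type} [Fintype ι] [DecidableEq ι] (φ : ι → F) :
    Subgroup (Matrix.SpecialLinearGroup ι F) where
  carrier := {A | φ ᵥ* A.1 = φ}
  one_mem' := by simp
  mul_mem' := fun {a b} ha hb => by
    change φ ᵥ* (a.1 * b.1) = φ
    rw [← vecMul_vecMul, ha, hb]
  inv_mem' := fun {a} ha => by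
    change φ ᵥ* (a⁻¹).1 = φ
    conv_lhs => rw [← ha]
    rw [vecMul_vecMul, sl_mul_inv, vecMul_one]

theorem mem_rowStab {ι : Type} [Fintype ι] [DecidableEq ι] {φ : ι → F}
    {A : Matrix.SpecialLinearGroup ι F} : A ∈ rowStab φ ↔ φ ᵥ* A.1 = φ := Iff.rfl

theorem vecMul_one_add_vecMulVec {ι : Type} [Fintype ι] [DecidableEq ι] (x v φ : ι → F) :
    x ᵥ* (1 + vecMulVec v φ) = x + (x ⬝ᵥ v) • φ := by
  rw [vecMul_add, vecMul_one, vecMul_vecMulVec]

theorem hypSub_le_rowStab {ι : Type} [Fintype ι] [DecidableEq ι] (φ : ι → F) :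
    hypSub φ ≤ rowStab φ := fun s hs => by
  obtain ⟨v, h, hs⟩ := mem_hypSub.1 hs
  rw [mem_rowStab, hs, vecMul_one_add_vecMulVec, h, zero_smul, add_zero]

theorem conj_mem_hypSub {ι : Type} [Fintype ι] [DecidableEq ι] {φ : ι → F}
    {g s : Matrix.SpecialLinearGroup ι F} (hg : g ∈ rowStab φ) (hs : s ∈ hypSub φ) :
    g * s * g⁻¹ ∈ hypSub φ := by
  obtain ⟨v, h, hs⟩ := mem_hypSub.1 hs
  refine mem_hypSub.2 ⟨g.1 *ᵥ v, by rw [dotProduct_mulVec, hg, h], ?_⟩
  rw [conj_tv g hs, (rowStab φ).inv_mem hg]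

theorem mem_hypSub_of_fix {ι : Type} [Fintype ι] [DecidableEq ι] {φ : ι → F} (hφ : φ ≠ 0)
    {A : Matrix.SpecialLinearGroup ι F} (hA : A ∈ rowStab φ)
    (h : ∀ w, φ ⬝ᵥ w = 0 → A.1 *ᵥ w = w) : A ∈ hypSub φ := by
  obtain ⟨u, hu⟩ := exists_dot_one hφ
  rw [dotProduct_comm] at hu
  refine mem_hypSub.2 ⟨A.1 *ᵥ u - u, by rw [dotProduct_sub, dotProduct_mulVec, hA, sub_self], ?_⟩
  refine toLin'.injective (LinearMap.ext fun x => ?_)
  rw [toLin'_apply, toLin'_apply, one_add_vecMulVec_mulVec]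
  have h1 := h (x - (φ ⬝ᵥ x) • u) (by simp [hu])
  rw [mulVec_sub, mulVec_smul, sub_eq_iff_eq_add] at h1
  rw [h1, smul_sub]; abel

/-- a normal `p`-subgroup of the stabilizer of a hyperplane vector consists of transvections -/
theorem le_hypSub_of_normal {ι : Type} [Fintype ι] [DecidableEq ι] [Finite F] (p : ℕ) [Fact p.Prime]
    [CharP F p] {φ : ι → F} (hφ : φ ≠ 0) {R : Subgroup (Matrix.SpecialLinearGroup ι F)}
    (hR : IsPGroup p R) (hle : R ≤ rowStab φ)
    (hn : ∀ g ∈ rowStab φ, ∀ r ∈ R, g * r * g⁻¹ ∈ R) : R ≤ hypSub φ := by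
  let _ : DistribMulAction (Matrix.SpecialLinearGroup ι F) (ι → F) :=
    { smul := fun g v => g.1 *ᵥ v
      one_smul := fun v => one_mulVec v
      mul_smul := fun g h v => (mulVec_mulVec v g.1 h.1).symm
      smul_zero := fun g => mulVec_zero _
      smul_add := fun g => mulVec_add _ }
  let W : Submodule F (ι → F) := LinearMap.ker (dotProductBilin F F φ : (ι → F) →ₗ[F] F)
  have hW : ∀ w, w ∈ W ↔ φ ⬝ᵥ w = 0 := fun w => Iff.rfl
  intro A hA
  refine mem_hypSub_of_fix hφ (hle hA) fun u hu => ?_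
  by_cases h0 : u = 0
  · simp [h0]
  have : Nontrivial W := ⟨⟨⟨u, hu⟩, 0, fun h => h0 (congrArg Subtype.val h)⟩⟩
  obtain ⟨w, hw, hw0, hfix⟩ := exists_fixed_ne_zero hR W.toAddSubgroup (fun g hg v hv => by
    change φ ⬝ᵥ (g.1 *ᵥ v) = 0
    rw [dotProduct_mulVec, hle hg]; exact hv) (char_dvd_card_of_nontrivial (F := F) (V := W) p)
  replace hfix : ∀ g ∈ R, g.1 *ᵥ w = w := hfix
  by_cases hc : ∀ ψ, ψ ⬝ᵥ u = 0 → ψ ⬝ᵥ w = 0
  · obtain ⟨c, rfl⟩ := mem_span_of_dot hc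
    have hc0 : c ≠ 0 := fun h => hw0 (by simp [h])
    have := hfix A hA
    rw [mulVec_smul] at this
    exact smul_right_injective _ hc0 this
  push Not at hc
  obtain ⟨ψ, h1, h2⟩ := hc
  have ht : slTv u ψ h1 ∈ rowStab φ := by
    rw [mem_rowStab, slTv_val, vecMul_one_add_vecMulVec, hu, zero_smul, add_zero]
  have h3 := hfix _ (hn _ ((rowStab φ).inv_mem ht) A hA)
  rw [inv_inv] at h3
  have h4 : A.1 *ᵥ ((slTv u ψ h1).1 *ᵥ w) = (slTv u ψ h1).1 *ᵥ w := by
    conv_rhs => rw [← h3]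
    rw [sl_val_mul, sl_val_mul, mulVec_mulVec, mulVec_mulVec, ← mul_assoc, ← mul_assoc, sl_mul_inv,
      one_mul]
  rw [slTv_val, one_add_vecMulVec_mulVec, mulVec_add, hfix A hA, mulVec_smul, add_right_inj] at h4
  exact smul_right_injective _ h2 h4

theorem exists_hyp_mul_oneBlk {A : Matrix.SpecialLinearGroup (Fin (n + 1)) F}
    (hA : A ∈ rowStab (Pi.single 0 1 : Fin (n + 1) → F)) :
    ∃ s ∈ hypSub (Pi.single 0 1 : Fin (n + 1) → F), ∃ B, A = s * oneBlk B := by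
  have h : ∀ j, A.1 0 j = (Pi.single 0 1 : Fin (n + 1) → F) j := fun j => by
    have := congrFun (mem_rowStab.1 hA) j
    simpa using this
  have h0 : A.1 0 0 = 1 := by simpa using h 0
  have h1 : ∀ j : Fin n, A.1 0 j.succ = 0 := fun j => by simpa using h j.succ
  refine ⟨slTv (Fin.cons 0 fun i => A.1 i.succ 0) (Pi.single 0 1) (by simp),
    mem_hypSub.2 ⟨_, by simp, rfl⟩, ⟨A.1.submatrix Fin.succ Fin.succ, by
      rw [← det_of_row_zero h0 h1, A.2]⟩, sl_ext ?_⟩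
  change A.1 = (1 + vecMulVec _ _) * oneBlkMat (A.1.submatrix Fin.succ Fin.succ)
  rw [add_mul, one_mul, vecMulVec_mul]
  ext i j
  refine Fin.cases ?_ (fun i => ?_) i <;> refine Fin.cases ?_ (fun j => ?_) j <;>
    simp [vecMulVec_apply, h0, h1]

theorem oneBlk_mem_rowStab (B : Matrix.SpecialLinearGroup (Fin n) F) :
    oneBlk B ∈ rowStab (Pi.single 0 1 : Fin (n + 1) → F) := by
  rw [mem_rowStab, oneBlk_val]
  ext j
  refine Fin.cases ?_ (fun j => ?_) j <;> simp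

theorem eq_one_of_oneBlk_mem_hypSub {B : Matrix.SpecialLinearGroup (Fin n) F}
    (h : oneBlk B ∈ hypSub (Pi.single 0 1 : Fin (n + 1) → F)) : B = 1 := by
  obtain ⟨v, -, hv⟩ := mem_hypSub.1 h
  refine sl_ext ?_
  ext i j
  have := congrFun (congrFun hv i.succ) j.succ
  simpa [oneBlk_val, vecMulVec_apply, one_apply] using this

end slblk

theorem eq_bot_of_fpf_four {G : Type*} [Group G] {K : Subgroup G} (hK : Odd (Nat.card K))
    {a b : G} (ha : a ∈ Subgroup.normalizer (K : Set G)) (hb : b ∈ Subgroup.normalizer (K : Set G))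
    (ha2 : a * a = 1) (hb2 : b * b = 1) (hab2 : a * b * (a * b) = 1)
    (h : ∀ k ∈ K, Commute k a ∨ Commute k b ∨ Commute k (a * b) → k = 1) : K = ⊥ := by
  have : Finite K := Nat.finite_of_card_ne_zero (by rintro h0; simp [h0] at hK)
  have key : ∀ c (hc : c ∈ Subgroup.normalizer (K : Set G)), c * c = 1 →
      (∀ k ∈ K, Commute k c → k = 1) → ∀ k ∈ K, c * k * c⁻¹ = k⁻¹ := by
    intro c hc hc2 h1 k hk
    have := MonoidHom.FixedPointFree.coe_eq_inv_of_involutive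
      (φ := K.normalizerMonoidHom ⟨c, hc⟩) (fun g hg => Subtype.ext (h1 _ g.2 (by
        have := congrArg Subtype.val hg
        change c * g.1 * c⁻¹ = g.1 at this
        rw [mul_inv_eq_iff_eq_mul] at this
        exact this.symm))) (fun g => by
          rw [← MulAut.mul_apply, ← map_mul]
          have : (⟨c, hc⟩ * ⟨c, hc⟩ : Subgroup.normalizer (K : Set G)) = 1 := Subtype.ext hc2
          rw [this, map_one, MulAut.one_apply])
    exact congrArg Subtype.val (congrFun this ⟨k, hk⟩)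
  rw [Subgroup.eq_bot_iff_forall]
  intro k hk
  have h1 := key a ha ha2 (fun k hk hc => h k hk (Or.inl hc))
  have h2 := key b hb hb2 (fun k hk hc => h k hk (Or.inr (Or.inl hc)))
  have h3 := key _ (mul_mem ha hb) hab2 (fun k hk hc => h k hk (Or.inr (Or.inr hc))) k hk
  refine h k hk (Or.inr (Or.inr ?_))
  have h4 : a * b * k * (a * b)⁻¹ = k := by
    calc a * b * k * (a * b)⁻¹ = a * (b * k * b⁻¹) * a⁻¹ := by group
      _ = k := by rw [h2 k hk, h1 _ (inv_mem hk), inv_inv]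
  rw [mul_inv_eq_iff_eq_mul] at h4
  exact h4.symm

/-- an affine group `2^(n+1) : L_{n+1}(2)` inside `G` containing the centralizers of its
translations -/
structure Aff (n : ℕ) (G : Type*) [Group G] where
  e : (Fin (n + 1) → ZMod 2) → G
  θ : Matrix.SpecialLinearGroup (Fin (n + 1)) (ZMod 2) →* G
  e_add : ∀ x y, e (x + y) = e x * e y
  e_inj : Function.Injective e
  rel : ∀ A x, e x * θ A = θ A * e (x ᵥ* A.1)
  cent : ∀ x ≠ 0, ∀ g, Commute g (e x) → ∃ A y, g = θ A * e y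

namespace Aff
variable {n : ℕ} {G : Type*} [Group G] (a : Aff n G)

local notation "SL₂" => Matrix.SpecialLinearGroup (Fin (n + 1)) (ZMod 2)
local notation "e₀" => (Pi.single 0 1 : Fin (n + 1) → ZMod 2)

theorem e_zero : a.e 0 = 1 := by
  have := a.e_add 0 0
  rwa [add_zero, left_eq_mul] at this

theorem e_self (x) : a.e x * a.e x = 1 := by
  rw [← a.e_add, CharTwo.add_self_eq_zero, a.e_zero]

theorem e_inv (x) : (a.e x)⁻¹ = a.e x := inv_eq_of_mul_eq_one_right (a.e_self x)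

theorem e_comm (x y) : Commute (a.e x) (a.e y) := by
  change _ * _ = _ * _
  rw [← a.e_add, ← a.e_add, add_comm]

theorem mul_eq (A B : SL₂) (x y) :
    a.θ A * a.e x * (a.θ B * a.e y) = a.θ (A * B) * a.e (x ᵥ* B.1 + y) := by
  rw [map_mul, a.e_add, mul_assoc, ← mul_assoc (a.e x), a.rel]
  simp only [mul_assoc]

theorem inv_eq (A : SL₂) (x) : (a.θ A * a.e x)⁻¹ = a.θ A⁻¹ * a.e (x ᵥ* (A⁻¹).1) := by
  rw [_root_.mul_inv_rev, a.e_inv, ← map_inv, a.rel]

theorem rel' (A : SL₂) (x y) : a.e x * (a.θ A * a.e y) = a.θ A * a.e y * a.e (x ᵥ* A.1) := by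
  rw [← mul_assoc, a.rel, mul_assoc, mul_assoc, (a.e_comm _ _).eq]

theorem commute_iff {A : SL₂} {x y} : Commute (a.θ A * a.e y) (a.e x) ↔ x ᵥ* A.1 = x := by
  change _ * _ = _ * _ ↔ _
  rw [a.rel', mul_right_inj, a.e_inj.eq_iff, eq_comm]

theorem unique {A B : SL₂} {x y} (h : a.θ A * a.e x = a.θ B * a.e y) : A = B ∧ x = y := by
  have h1 : A = B := sl_ext (by
    refine toLinearMapRight'.injective (LinearMap.ext fun w => ?_)
    have := a.rel' A w x
    rw [h, a.rel', mul_right_inj] at this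
    exact (a.e_inj this).symm)
  subst h1
  exact ⟨rfl, a.e_inj (mul_left_cancel h)⟩

theorem θ_injective : Function.Injective a.θ := fun A B h =>
  (a.unique (x := 0) (y := 0) (by rw [h])).1

/-- the preimage of `S` in the affine group -/
def sub (S : Subgroup SL₂) : Subgroup G where
  carrier := {g | ∃ A ∈ S, ∃ y, g = a.θ A * a.e y}
  one_mem' := ⟨1, one_mem _, 0, by simp [a.e_zero]⟩
  mul_mem' := by
    rintro _ _ ⟨A, hA, x, rfl⟩ ⟨B, hB, y, rfl⟩
    exact ⟨_, mul_mem hA hB, _, a.mul_eq ..⟩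
  inv_mem' := by
    rintro _ ⟨A, hA, x, rfl⟩
    exact ⟨_, inv_mem hA, _, a.inv_eq ..⟩

theorem mem_sub {S : Subgroup SL₂} {g : G} :
    g ∈ a.sub S ↔ ∃ A ∈ S, ∃ y, g = a.θ A * a.e y := Iff.rfl

theorem e_mem (S : Subgroup SL₂) (y) : a.e y ∈ a.sub S := ⟨1, one_mem _, y, by simp⟩

theorem θ_mem {S : Subgroup SL₂} {A} (h : A ∈ S) : a.θ A ∈ a.sub S :=
  ⟨A, h, 0, by simp [a.e_zero]⟩

theorem mem_of_θ_mem {S : Subgroup SL₂} {A} (h : a.θ A ∈ a.sub S) : A ∈ S := by
  obtain ⟨B, hB, y, h⟩ := h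
  rwa [(a.unique (A := A) (B := B) (x := 0) (y := y) (by rw [a.e_zero, mul_one, h])).1]

theorem sub_mono {S T : Subgroup SL₂} (h : S ≤ T) : a.sub S ≤ a.sub T :=
  fun _ ⟨A, hA, y⟩ => ⟨A, h hA, y⟩

theorem card_sub (S : Subgroup SL₂) : Nat.card (a.sub S) = Nat.card S * 2 ^ (n + 1) := by
  have := Nat.card_eq_of_bijective
    (fun p : S × (Fin (n + 1) → ZMod 2) => (⟨_, p.1.1, p.1.2, p.2, rfl⟩ : a.sub S))
    ⟨fun p q h => by
      have := a.unique (congrArg Subtype.val h)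
      exact Prod.ext (Subtype.ext this.1) this.2, by
      rintro ⟨_, A, hA, y, rfl⟩
      exact ⟨(⟨A, hA⟩, y), rfl⟩⟩
  rw [← this]
  simp

theorem conj_mem {S T : Subgroup SL₂} (h : ∀ g ∈ T, ∀ s ∈ S, g * s * g⁻¹ ∈ S) {g s : G}
    (hg : g ∈ a.sub T) (hs : s ∈ a.sub S) : g * s * g⁻¹ ∈ a.sub S := by
  obtain ⟨A, hA, x, rfl⟩ := hg
  obtain ⟨B, hB, y, rfl⟩ := hs
  rw [a.inv_eq, a.mul_eq, a.mul_eq]
  exact ⟨_, h A hA B hB, _, rfl⟩

theorem le_normalizer {S T : Subgroup SL₂} (h : ∀ g ∈ T, ∀ s ∈ S, g * s * g⁻¹ ∈ S) :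
    a.sub T ≤ Subgroup.normalizer (a.sub S : Set G) := fun g hg =>
  Subgroup.mem_normalizer_iff.2 fun s => ⟨a.conj_mem h hg, fun hs => by
    simpa [mul_assoc] using a.conj_mem h (inv_mem hg) hs⟩

theorem e₀_ne : e₀ ≠ 0 := fun h => by simpa using congrFun h 0

theorem centralizer_z : Subgroup.centralizer {a.e e₀} = a.sub (rowStab e₀) := by
  ext g
  rw [Subgroup.mem_centralizer_singleton_iff]
  constructor
  · intro h
    obtain ⟨A, y, rfl⟩ := a.cent _ e₀_ne g h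
    exact ⟨A, a.commute_iff.1 h, y, rfl⟩
  · rintro ⟨A, hA, y, rfl⟩
    exact a.commute_iff.2 hA

theorem card_Q : Nat.card (a.sub (hypSub e₀)) = 2 ^ (2 * n + 1) := by
  rw [card_sub, card_hypSub e₀_ne]
  simp [← pow_add]; ring

theorem pCoreOf_eq : pCoreOf 2 (a.sub (rowStab e₀)) = a.sub (hypSub e₀) := by
  have hQ : a.sub (hypSub e₀) ≤ pCoreOf 2 (a.sub (rowStab e₀)) :=
    H02.le_pCoreOf (a.sub_mono (hypSub_le_rowStab _))
      (a.le_normalizer fun g hg s hs => conj_mem_hypSub hg hs) (IsPGroup.of_card a.card_Q)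
  refine le_antisymm (fun g hg => ?_) hQ
  obtain ⟨A, hA, y, rfl⟩ := H02.pCoreOf_le _ hg
  refine ⟨A, le_hypSub_of_normal 2 e₀_ne
    (R := (pCoreOf 2 (a.sub (rowStab e₀))).comap a.θ)
    ((H02.pCoreOf_isPGroup _).comap_of_injective _ a.θ_injective)
    (fun B hB => a.mem_of_θ_mem (H02.pCoreOf_le _ hB)) (fun B hB r hr => ?_) ?_, y, rfl⟩
  · rw [Subgroup.mem_comap, map_mul, map_mul, map_inv]
    exact (Subgroup.mem_normalizer_iff.1 (H02.le_normalizer_pCoreOf _ (a.θ_mem hB)) _).1 hr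
  · exact (mul_mem_cancel_right (hQ (a.e_mem _ y))).1 hg

theorem e_smul_mem (c : ZMod 2) : a.e (c • e₀) ∈ Subgroup.zpowers (a.e e₀) := by
  have : ∀ c : ZMod 2, c = 0 ∨ c = 1 := by decide
  rcases this c with rfl | rfl
  · simp [a.e_zero]
  · simp

theorem aes : H04.AES 2 (a.sub (hypSub e₀)) (a.e e₀) := by
  have hc : a.e e₀ ∈ Subgroup.centralizer (a.sub (hypSub e₀) : Set G) := by
    rintro _ ⟨A, hA, y, rfl⟩
    exact a.commute_iff.2 (hypSub_le_rowStab _ hA)
  have hp : ∀ x ∈ a.sub (hypSub e₀), x ^ 2 ∈ Subgroup.zpowers (a.e e₀) := by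
    rintro _ ⟨A, hA, y, rfl⟩
    have h1 : A * A = 1 := by rw [← sq]; exact (IsTv.of_hypSub hA).pow_eq_one
    obtain ⟨v, -, hv⟩ := mem_hypSub.1 hA
    rw [sq, a.mul_eq, h1, map_one, one_mul, hv, vecMul_one_add_vecMulVec, add_right_comm,
      CharTwo.add_self_eq_zero, zero_add]
    exact a.e_smul_mem _
  refine ⟨orderOf_eq_prime (by rw [sq, a.e_self]) fun h => e₀_ne (a.e_inj (h.trans a.e_zero.symm)),
    a.e_mem _ _, hc, fun x hx y hy => ?_, hp⟩
  have h1 : Commute y (x ^ 2)⁻¹ := by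
    obtain ⟨k, hk⟩ := hp x hx
    rw [← hk]
    exact ((show Commute y _ from hc y hy).zpow_right k).inv_right
  have h2 : ⁅x, y⁆ = (x * y) ^ 2 * (y⁻¹ * (y * (x ^ 2)⁻¹)) * (y ^ 2)⁻¹ := by
    rw [h1.eq, commutatorElement_def, sq, sq, sq]; group
  rw [h2, inv_mul_cancel_left]
  exact mul_mem (mul_mem (hp _ (mul_mem hx hy)) (inv_mem (hp x hx))) (inv_mem (hp y hy))

theorem eq_one_of_fix {A : SL₂} (h : ∀ x, x ᵥ* A.1 = x) : A = 1 :=
  sl_ext (toLinearMapRight'.injective (LinearMap.ext fun w => by simpa using h w))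

theorem centralizer_Q_le :
    Subgroup.centralizer (a.sub (hypSub e₀) : Set G) ≤ Subgroup.zpowers (a.e e₀) := by
  intro g hg
  obtain ⟨A, y, rfl⟩ := a.cent _ e₀_ne g (hg _ (a.e_mem _ _)).symm
  obtain rfl := eq_one_of_fix fun x => a.commute_iff.1 (hg _ (a.e_mem _ x)).symm
  obtain ⟨c, rfl⟩ := mem_span_of_dot (u := y) (v := e₀) fun ψ hψ => by
    rw [dotProduct_comm] at hψ
    have h1 : Commute (a.θ (slTv ψ e₀ hψ) * a.e 0) (a.e y) := by
      have := hg _ (a.θ_mem (mem_hypSub.2 ⟨ψ, hψ, slTv_val _ _ hψ⟩))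
      rw [map_one, one_mul] at this
      rwa [a.e_zero, mul_one]
    rw [a.commute_iff, slTv_val, vecMul_one_add_vecMulVec, add_eq_left] at h1
    rw [dotProduct_comm]
    simpa using congrFun h1 0
  rw [map_one, one_mul]
  exact a.e_smul_mem c

theorem eq_bot_of_odd (hn : 1 ≤ n) {K : Subgroup G} (hK : Odd (Nat.card K))
    (h : ∀ x, a.e x ∈ Subgroup.normalizer (K : Set G)) : K = ⊥ := by
  have hfin : Finite K := Nat.finite_of_card_ne_zero (by rintro h0; simp [h0] at hK)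
  have h2 : ∀ k ∈ K, k * k = 1 → k = 1 := fun k hk hk2 => by
    have h3 : orderOf k ∣ 2 := orderOf_dvd_of_pow_eq_one (by rw [sq, hk2])
    exact orderOf_eq_one_iff.1 (Nat.eq_one_of_dvd_coprimes (Nat.coprime_two_left.2 hK) h3
      (K.orderOf_dvd_natCard hk))
  have key : ∀ x ≠ 0, ∀ k ∈ K, Commute k (a.e x) → k = 1 := by
    intro x hx k hk hc
    obtain ⟨A, y, rfl⟩ := a.cent x hx k hc
    obtain rfl : A = 1 := eq_one_of_fix fun w => by
      have h3 := mul_mem (inv_mem hk) ((Subgroup.mem_normalizer_iff.1 (h w) _).1 hk)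
      rw [a.rel', a.e_inv, mul_assoc, inv_mul_cancel_left, ← a.e_add] at h3
      have := a.e_inj ((h2 _ h3 (a.e_self _)).trans a.e_zero.symm)
      rwa [CharTwo.add_eq_zero] at this
    refine h2 _ hk ?_
    rw [map_one, one_mul, a.e_self]
  have h01 : (0 : Fin (n + 1)) ≠ Fin.last n := fun h => by
    have := congrArg Fin.val h; simp at this; omega
  refine eq_bot_of_fpf_four hK (h e₀) (h (Pi.single (Fin.last n) 1)) (a.e_self _) (a.e_self _)
    (by rw [← a.e_add, a.e_self]) ?_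
  rintro k hk (h1 | h1 | h1)
  · exact key _ e₀_ne k hk h1
  · exact key _ (fun h => by simpa using congrFun h (Fin.last n)) k hk h1
  · rw [← a.e_add] at h1
    exact key _ (fun h => by simpa [h01] using congrFun h 0) k hk h1

theorem main [Finite G] (hn : 1 ≤ n) {C Q : Subgroup G} (hC : C = Subgroup.centralizer {a.e e₀})
    (hQ : Q = pCoreOf 2 C) : IsExtraspecial 2 Q ∧ Nat.card Q = 2 ^ (2 * n + 1) ∧
    (∃ E : Subgroup G, E ≤ Q ∧ IsElementaryAbelian 2 E ∧ Nat.card E = 2 ^ (n + 1)) ∧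
    IsLargeExtraspecial Q ∧ ∃ K : Subgroup G, K ≤ C ∧ Q ⊓ K = ⊥ ∧ Q ⊔ K = C ∧
      Nonempty (K ≃* Matrix.SpecialLinearGroup (Fin n) (ZMod 2)) := by
  rw [a.centralizer_z] at hC
  subst hC
  rw [a.pCoreOf_eq] at hQ
  subst hQ
  have hZ : (Subgroup.center (a.sub (hypSub e₀))).map (a.sub (hypSub e₀)).subtype =
      Subgroup.zpowers (a.e e₀) := by
    rw [H04.map_subtype_center]
    exact le_antisymm (inf_le_right.trans a.centralizer_Q_le) a.aes.zpowers_le
  have hE : IsExtraspecial 2 (a.sub (hypSub e₀)) := by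
    refine H04.isExtraspecial_of_aes a.aes (inf_le_right.trans a.centralizer_Q_le) fun hc => ?_
    have := Subgroup.card_le_of_le ((Subgroup.le_centralizer _).trans a.centralizer_Q_le)
    rw [a.card_Q, Nat.card_zpowers, a.aes.ord] at this
    have h2 : 2 ^ 3 ≤ 2 ^ (2 * n + 1) := Nat.pow_le_pow_right (by norm_num) (by omega)
    omega
  refine ⟨hE, a.card_Q, ⟨a.sub ⊥, a.sub_mono bot_le, ⟨⟨⟨?_⟩⟩, ?_⟩, by simp [a.card_sub]⟩,
    ⟨hE, ?_, ?_, fun K hK hN => a.eq_bot_of_odd hn hK fun x => hN (a.e_mem _ x)⟩,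
    (a.θ.comp oneBlk).range, ?_, ?_, ?_,
    ⟨(MonoidHom.ofInjective (f := a.θ.comp oneBlk)
      (a.θ_injective.comp oneBlk_injective)).symm⟩⟩
  · rintro ⟨_, _, rfl, x, rfl⟩ ⟨_, _, rfl, y, rfl⟩
    refine Subtype.ext ?_
    simpa using (a.e_comm x y).eq
  · rintro _ ⟨_, rfl, x, rfl⟩
    simp [sq, a.e_self]
  · rw [hZ]
    exact le_antisymm a.centralizer_Q_le (a.aes.zpowers_le.trans inf_le_right)
  · rw [hZ]
    refine le_trans (Subgroup.centralizer_le (by simp)) (a.centralizer_z.le.trans ?_)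
    exact a.le_normalizer fun g hg s hs => conj_mem_hypSub hg hs
  · rintro _ ⟨B, rfl⟩
    exact a.θ_mem (oneBlk_mem_rowStab B)
  · rw [eq_bot_iff]
    rintro _ ⟨h, B, rfl⟩
    rw [eq_one_of_oneBlk_mem_hypSub (a.mem_of_θ_mem h), map_one]
    exact one_mem _
  · refine le_antisymm (sup_le (a.sub_mono (hypSub_le_rowStab _)) ?_) ?_
    · rintro _ ⟨B, rfl⟩
      exact a.θ_mem (oneBlk_mem_rowStab B)
    · rintro _ ⟨A, hA, y, rfl⟩
      obtain ⟨s, hs, B, rfl⟩ := exists_hyp_mul_oneBlk hA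
      rw [map_mul]
      exact mul_mem (Subgroup.mul_mem_sup (a.θ_mem hs) ⟨B, rfl⟩)
        (Subgroup.mem_sup_left (a.e_mem _ y))

end Aff

theorem mulVec_eq_of_commute_tv {ι : Type} [Fintype ι] [DecidableEq ι] {F : Type*} [Field F]
    (hF : ∀ c : F, c ≠ 0 → c = 1) {g t : Matrix.SpecialLinearGroup ι F} {v φ : ι → F} (hv : v ≠ 0)
    (hφ : φ ≠ 0) (ht : t.1 = 1 + vecMulVec v φ) (h : Commute g t) :
    g.1 *ᵥ v = v ∧ φ ᵥ* g.1 = φ := by
  have h1 := congrArg Subtype.val h.eq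
  rw [sl_val_mul, sl_val_mul, ht, mul_add, add_mul, mul_one, one_mul, add_right_inj,
    mul_vecMulVec, vecMulVec_mul] at h1
  obtain ⟨u, hu⟩ := exists_dot_one hφ
  have h2 := congrArg (· *ᵥ u) h1
  simp only [vecMulVec_mulVec, dotProduct_comm φ u, hu] at h2
  have h3 : g.1 *ᵥ v = v := by
    by_cases h0 : (φ ᵥ* g.1) ⬝ᵥ u = 0
    · have := congrArg ((g⁻¹).1 *ᵥ ·) h2
      simp only [h0, mulVec_mulVec, sl_inv_mul, MulOpposite.op_one, one_smul, one_mulVec,
        MulOpposite.op_zero, zero_smul, mulVec_zero] at this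
      exact absurd this hv
    · simpa [hF _ h0] using h2
  rw [h3] at h1
  exact ⟨h3, (vecMulVec_right_cancel hv h1).symm⟩

/-- the vector stabilizer in `SL_{n+2}(2)` -/
def slAff (n : ℕ) : Aff n (Matrix.SpecialLinearGroup (Fin (n + 2)) (ZMod 2)) where
  e x := slTv (Pi.single 0 1) (Fin.cons 0 x) (by simp)
  θ := oneBlk
  e_add x y := sl_ext (by
    rw [sl_val_mul, slTv_val, slTv_val, slTv_val, tv_mul (by simp)]
    congr 2
    ext i
    refine Fin.cases ?_ (fun i => ?_) i <;> simp)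
  e_inj x y h := by
    have := congrArg Subtype.val h
    rw [slTv_val, slTv_val, add_right_inj] at this
    exact Fin.cons_right_injective _ (vecMulVec_right_cancel Aff.e₀_ne this)
  rel A x := sl_ext (by
    rw [sl_val_mul, sl_val_mul, slTv_val, slTv_val, mul_add, add_mul, mul_one, one_mul,
      add_right_inj, mul_vecMulVec, vecMulVec_mul, oneBlk_val]
    congr 1
    · ext i
      refine Fin.cases ?_ (fun i => ?_) i <;> simp
    · ext i
      refine Fin.cases ?_ (fun i => ?_) i <;> simp [vecMul, dotProduct, Fin.sum_univ_succ])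
  cent x hx g h := by
    have h1 := (mulVec_eq_of_commute_tv (by decide) Aff.e₀_ne (fun h => hx (by
      ext i; simpa using congrFun h i.succ)) (slTv_val _ _ _) h).1
    have h0 : g.1 0 0 = 1 := by simpa using congrFun h1 0
    have h2 : ∀ j : Fin (n + 1), g.1 j.succ 0 = 0 := fun j => by simpa using congrFun h1 j.succ
    refine ⟨⟨g.1.submatrix Fin.succ Fin.succ, by rw [← det_of_col_zero h0 h2, g.2]⟩,
      fun j => g.1 0 j.succ, sl_ext ?_⟩
    change g.1 = oneBlkMat (g.1.submatrix Fin.succ Fin.succ) * (1 + vecMulVec _ _)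
    rw [mul_add, mul_one, mul_vecMulVec]
    ext i j
    refine Fin.cases ?_ (fun i => ?_) i <;> refine Fin.cases ?_ (fun j => ?_) j <;>
      simp [vecMulVec_apply, h0, h2]

theorem toGL_bijective_two {ι : Type*} [Fintype ι] [DecidableEq ι] : Function.Bijective
    (Matrix.SpecialLinearGroup.toGL : Matrix.SpecialLinearGroup ι (ZMod 2) →* GL ι (ZMod 2)) :=
  ⟨Matrix.SpecialLinearGroup.toGL_injective, by
    rw [← MonoidHom.range_eq_top, range_toGL_eq_ker_det, eq_top_iff]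
    exact fun g _ => Subsingleton.elim _ _⟩

end H09
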