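import Mathlib
import Cfsg.Agent.H09.RuB
/-! Symplectic groups in characteristic two: subgroups containing a complement to the transvections
in the unipotent radical of a point stabiliser (basic moves). -/
namespace H09
namespace Sk
variable {F V H : Type*} [Field F] [AddCommGroup V] [Module F V] [Group H] {S : Sk F V H} {L : Subgroup H} {g k : H}
  {r p p' z y a f u w : V} {b b' c s t κ : F}

variable (S) in
/-- symplectic space of finite dimension -/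
structure Sy : Prop where
  σ : ∀ a, S.σ a = a
  alt : ∀ x, S.h x x = 0
  sep : ∀ (W : Submodule F V) z, z ∉ W → ∃ p, (∀ w ∈ W, S.h p w = 0) ∧ S.h p z = 1

variable (S) in
/-- all short root elements at `r` occur, up to transvections -/
def Om (L : Subgroup H) (r : V) : Prop := r ≠ 0 ∧ ∀ p, S.h p r = 0 → ∃ b, S.Eg L r p b
variable (S) in
/-- irreducibility -/
def Irr (L : Subgroup H) : Prop := ∀ W : Submodule F V, (∀ g ∈ L, ∀ w ∈ W, S.ρ g w ∈ W) → W = ⊥ ∨ W = ⊤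

theorem veq {x y : V} (h : (1 : F) • x = (1 : F) • y) : x = y := by simpa using h

theorem Om.conj (o : S.Om L r) (hg : g ∈ L) : S.Om L (S.ρ g r) :=
  ⟨fun e => o.1 (by rw [← S.ρ_inv g r, e, map_zero]), fun p hp =>
    let ⟨b, a⟩ := o.2 (S.ρ g⁻¹ p) (by rw [← S.inv g, S.ρ_inv', hp]); ⟨b, by simpa using a.conj hg⟩⟩

theorem Irr.ex (I : S.Irr L) (hr : r ≠ 0) (hy : y ≠ 0) : ∃ g ∈ L, S.h (S.ρ g r) y ≠ 0 := by
  by_contra h
  push Not at h
  let W : Submodule F V :=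
    { carrier := {x | ∀ g ∈ L, S.h (S.ρ g x) y = 0}
      add_mem' := fun h1 h2 g m => by simp [h1 g m, h2 g m]
      zero_mem' := fun g m => by simp
      smul_mem' := fun c x h1 g m => by simp [h1 g m] }
  rcases I W (fun g m w h1 k m' => by rw [← ρ_mul]; exact h1 _ (mul_mem m' m)) with e | e
  · exact hr (e.le (show r ∈ W from h))
  · exact hy (S.nd y fun x => by simpa using e.ge (Submodule.mem_top (x := x)) 1 (one_mem _))

namespace Sy
variable [CharP F 2] (Y : S.Sy)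
include Y
theorem sm (x y) : S.h y x = S.h x y := by rw [S.skew, Y.σ, CharTwo.neg_eq]
theorem ok (o : S.h p r = 0) : S.Ok r p b := ⟨Y.alt _, o, by simp [Y.σ, Y.alt]⟩
theorem md (a : S.Eg L r p b) (s : F) (e : p' = p + s • r) : S.Eg L r p' b :=
  let ⟨o, g, m, i⟩ := a
  ⟨Y.ok (by simp [e, o.2.1, Y.alt]), g, m, fun y => by rw [i, e]; simp [Y.σ]; match_scalars <;> grind⟩
theorem sc (a : S.Eg L (s • r) p b) : S.Eg L r (s • p) (s * s * b) :=
  let ⟨o, g, m, i⟩ := a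
  ⟨Y.ok (by simpa [Y.σ] using o.2.1), g, m, fun y => by rw [i]; simp [Y.σ]; module⟩
theorem sc' (a : S.Eg L r (s • p) (s * s * b)) : S.Eg L (s • r) p b :=
  let ⟨o, g, m, i⟩ := a
  ⟨Y.ok (by simpa [Y.σ] using o.2.1), g, m, fun y => by rw [i]; simp [Y.σ]; module⟩
theorem ad (a : S.Eg L r p b) (a' : S.Eg L r p' b') : S.Eg L r (p + p') (b + b' + S.h p p') := Y.sm p p' ▸ a.mul a'
theorem df (a : S.Eg L r p b) (a' : S.Eg L r p b') : S.Eg L r 0 (b + b') :=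
  (Y.ad a a').congr rfl (veq (F := F) (by match_scalars; grind)) (by simp [Y.alt])
theorem sw (a : S.Eg L r (s • p) 0) (o : S.h r p = 0) : S.Eg L p (s • r) 0 := Y.σ s ▸ a.symm (Y.alt _) o
theorem om_smul (o : S.Om L r) (hs : s ≠ 0) : S.Om L (s • r) :=
  ⟨smul_ne_zero hs o.1, fun p hp => let ⟨b, a⟩ := o.2 (s • p) (by simpa [Y.σ] using hp)
    ⟨b / (s * s), Y.sc' (a.congr rfl rfl (by field_simp))⟩⟩
theorem sep1 (n : z ∉ F ∙ r) (t : F) : ∃ p, S.h p r = 0 ∧ S.h p z = t :=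
  let ⟨p, h1, h2⟩ := Y.sep _ z n
  ⟨t • p, by simp [h1 r (Submodule.mem_span_singleton_self r)], by simp [h2]⟩
theorem sep2 (n : z ∉ Submodule.span F {r, y}) : ∃ p, S.h p r = 0 ∧ S.h p y = 0 ∧ S.h p z = 1 :=
  let ⟨p, h1, h2⟩ := Y.sep _ z n
  ⟨p, h1 r (Submodule.subset_span (by simp)), h1 y (Submodule.subset_span (by simp)), h2⟩
theorem ex_om (I : S.Irr L) (o : S.Om L r) (hy : y ≠ 0) : ∃ g ∈ L, ∃ s ≠ (0 : F), S.h (s • S.ρ g r) y = 1 :=
  let ⟨g, m, n⟩ := I.ex o.1 hy; ⟨g, m, _, inv_ne_zero n, by simp [n]⟩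

/-- the basic commutator relation -/
theorem kk (a : S.Eg L r p b) (a' : S.Eg L z p' b') (o1 : S.h z r = 0) (o2 : S.h p' r = 0) :
    S.Eg L r (S.h p z • p' + (S.h p p' + b' * S.h p z) • z) (b' * (S.h p z * S.h p z)) := by
  obtain ⟨-, g, m, e⟩ := a'
  refine (Y.ad ((a.conj m).congr (r' := r) (by rw [e]; simp [Y.sm z r, Y.sm p' r, o1, o2]) rfl rfl) a).congr rfl ?_ ?_ <;> rw [e]
  · match_scalars <;> grind
  · simp [Y.alt, Y.sm p p', Y.sm p z]; grind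
theorem kk' (o : S.Om L r) (a' : S.Eg L z (s • r) κ) (o1 : S.h z r = 0) (n : z ∉ F ∙ r) (t : F) :
    S.Eg L r ((κ * t) • z) (κ * (t * t)) := by
  obtain ⟨p, h1, rfl⟩ := Y.sep1 n t
  obtain ⟨b, a⟩ := o.2 p h1
  exact Y.md (Y.kk a a' o1 (by simp [Y.alt])) (S.h p z * s) (by simp [h1, Y.σ]; match_scalars <;> grind)

/-- all transvections at one point give all transvections -/
theorem all_tv (I : S.Irr L) (o : S.Om L r) (hA : ∀ c, S.Eg L r 0 c) (y c) : S.Eg L y 0 c := by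
  have h1 : ∀ p b, S.h p r = 0 → S.Eg L r p b := fun p b h =>
    let ⟨b', a⟩ := o.2 p h; (a.addT (hA (b - b'))).congr rfl rfl (by ring)
  obtain ⟨k, mk, nk⟩ := I.ex o.1 o.1
  have h2 : ∀ y c, S.h y r ≠ 0 → S.Eg L y 0 c := fun y c n => by
    obtain ⟨p, b, o', e⟩ := mv (y := y) (y' := (S.h y r / S.h (S.ρ k r) r) • S.ρ k r) (Y.alt r) (Y.alt _) (Y.alt _)
      (by simp [nk]) (by simp [nk, n])
    obtain ⟨-, g, m, i⟩ := h1 p b o'.2.1
    exact ((Y.sc' (p := 0) (b := c) (((hA _).conj mk).congr rfl (by simp) rfl)).conj m).congr (e g i).1 (by simp) rfl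
  by_cases hy : y = 0
  · exact ⟨Y.ok (by simp), 1, one_mem _, fun x => by simp [hy]⟩
  obtain ⟨g, m, n⟩ := I.ex o.1 hy
  simpa using (h2 (S.ρ g⁻¹ y) c (by rwa [← S.inv g, S.ρ_inv', Y.sm])).conj m

omit [CharP F 2] in
theorem nsym (o : S.Om L z) (n : z ∉ F ∙ r) : r ∉ F ∙ z ∨ r = 0 := by
  by_contra h
  push Not at h
  obtain ⟨c, rfl⟩ := Submodule.mem_span_singleton.1 h.1
  exact n (Submodule.mem_span_singleton.2 ⟨c⁻¹, by rw [smul_smul, inv_mul_cancel₀ fun e => h.2 (by simp [e]), one_smul]⟩)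

variable [Finite F]
omit Y in
theorem sq (c : F) : ∃ s : F, s * s = c := let ⟨s, e⟩ := (isSquare_of_charTwo' (R := F)) c; ⟨s, e.symm⟩

/-- a non-zero `κ` forces the field of two elements -/
theorem kap (hA : ∀ r, S.Om L r → ¬ ∀ c, S.Eg L r 0 c) (o : S.Om L r) (o' : S.Om L z) (o1 : S.h z r = 0) (n : z ∉ F ∙ r)
    (a : S.Eg L z (s • r) κ) (κ0 : κ ≠ 0) : (∀ c : F, c = 0 ∨ c = 1) ∧ S.Eg L r z 1 := by
  have n' := (Y.nsym o' n).resolve_right o.1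
  have h1 : ∀ {r z s s' κ κ'}, S.Om L r → S.h z r = 0 → z ∉ F ∙ r → S.Eg L z (s • r) κ → S.Eg L z (s' • r) κ' →
      κ ≠ 0 → κ' ≠ 0 → κ = κ' := fun {r z s s' κ κ'} o o1 n a a' κ0 κ1 => by
    by_contra ne
    refine hA r o fun c => ?_
    obtain ⟨u, hu⟩ := sq (c / (κ⁻¹ + κ'⁻¹))
    have : κ⁻¹ + κ'⁻¹ ≠ 0 := fun e => ne (inv_injective (by rwa [CharTwo.add_eq_zero] at e))
    refine (Y.df (Y.kk' o a o1 n (u / κ)) ((Y.kk' o a' o1 n (u / κ')).congr rfl (by congr 1; field_simp) rfl)).congr rfl rfl ?_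
    rw [eq_div_iff this] at hu
    rw [← hu]; field_simp
  have h2 : ∀ c : F, c ≠ 0 → c = 1 := fun c c0 => by
    obtain ⟨u, hu⟩ := sq (c / κ)
    obtain ⟨v, hv⟩ := sq (1 / κ)
    exact h1 o' (S.sym o1) n' ((Y.kk' o a o1 n u).congr rfl rfl (by rw [hu]; field_simp))
      ((Y.kk' o a o1 n v).congr rfl rfl (by rw [hv]; field_simp)) c0 one_ne_zero
  obtain rfl := h2 κ κ0
  exact ⟨fun c => or_iff_not_imp_left.2 (h2 c), by simpa using Y.kk' o a o1 n 1⟩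

omit [Finite F] in
theorem big (o : S.Om L r) (o' : S.Om L z) (o1 : S.h z r = 0) (n : z ∉ F ∙ r)
    (d : ∀ x y x' y' : V, ∃ v, v ∉ Submodule.span F {x, y, x', y'}) : S.Eg L r z 0 := by
  have n' := (Y.nsym o' n).resolve_right o.1
  obtain ⟨z', h1, h2⟩ := Y.sep1 n 1
  obtain ⟨r', h3, h4⟩ := Y.sep1 n' 1
  obtain ⟨v, hv⟩ := d r z r' z'
  obtain ⟨p, h5, h6, h7⟩ := Y.sep2 (z := v - S.h v r • r' - S.h v z • z') (r := r) (y := z) fun h => hv (by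
    have k : ∀ x ∈ ({r, z, r', z'} : Set V), x ∈ Submodule.span F {r, z, r', z'} := fun x h => Submodule.subset_span h
    have := Submodule.span_mono (t := {r, z, r', z'}) (by intro x; simp; tauto) h
    simpa using add_mem (add_mem this (Submodule.smul_mem _ (S.h v z) (k z' (by simp)))) (Submodule.smul_mem _ (S.h v r) (k r' (by simp))))
  obtain ⟨b, a⟩ := o.2 p h5
  obtain ⟨b', a'⟩ := o'.2 (v - S.h v r • r' - S.h v z • z') (by simp [h2, h3])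
  simpa [h6, h7] using Y.kk a a' o1 (by simp [h1, h4])

omit [Finite F] in
theorem trans (I : S.Irr L) (h2 : ∀ c : F, c = 0 ∨ c = 1) (o : S.Om L r) (o1 : S.h z r = 0) (n : z ∉ F ∙ r) (n' : r ∉ F ∙ z)
    (a : S.Eg L z r 1) : ∃ f, S.h f r = 1 ∧ ∀ x y, S.h y x = 1 → ∃ g ∈ L, S.ρ g r = x ∧ S.ρ g f = y := by
  obtain ⟨f, f1, f2⟩ : ∃ f, S.h f r = 1 ∧ S.h f z = 1 := by
    obtain ⟨x, h1, h2⟩ := Y.sep1 n 1
    obtain ⟨y, h3, h4⟩ := Y.sep1 n' 1
    exact ⟨x + y, by simp [h1, h4], by simp [h2, h3]⟩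
  have t1 : ∀ y, S.h y r = 1 → ∃ g ∈ L, S.ρ g r = r ∧ S.ρ g f = y := fun y hy => by
    obtain ⟨b, -, g, m, e⟩ := o.2 (y + f) (by simp [hy, f1, CharTwo.add_self_eq_zero])
    have g1 : S.ρ g r = r := by rw [e]; simp [Y.alt, Y.sm y r, Y.sm f r, hy, f1, CharTwo.add_self_eq_zero]
    have g2 : S.ρ g f = y + (S.h f y + b) • r := by rw [e]; simp [Y.alt, f1, Y.σ]; match_scalars <;> grind
    rcases h2 (S.h f y + b) with h | h
    · exact ⟨g, m, g1, by simpa [h] using g2⟩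
    · obtain ⟨-, k, m', e'⟩ := a
      refine ⟨g * k, mul_mem m m', by rw [ρ_mul, e']; simpa [Y.alt, S.sym o1], ?_⟩
      rw [ρ_mul, show S.ρ k f = f + r by rw [e']; simp [f1, f2]; exact veq (F := F) (by match_scalars <;> grind), map_add, g1, g2, h]
      match_scalars <;> grind
  have t2 : ∀ x, S.h x r ≠ 0 → ∃ g ∈ L, S.ρ g r = x := fun x hx => by
    obtain ⟨k, m, e⟩ := I.ex o.1 o.1
    obtain ⟨g, m1, -, e1⟩ := t1 _ ((h2 _).resolve_left e)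
    obtain ⟨g', m2, -, e2⟩ := t1 _ ((h2 _).resolve_left hx)
    exact ⟨g' * g⁻¹ * k, mul_mem (mul_mem m2 (inv_mem m1)) m, by rw [ρ_mul, ρ_mul, ← e1, S.ρ_inv, e2]⟩
  refine ⟨f, f1, fun x y hy => ?_⟩
  obtain ⟨k, m, e⟩ := I.ex (y := x) o.1 (by rintro rfl; simp at hy)
  obtain ⟨g, m1, e1⟩ := t2 (S.ρ k⁻¹ x) (by rwa [← S.inv k, S.ρ_inv', Y.sm])
  have e2 : S.ρ (k * g) r = x := by rw [ρ_mul, e1, S.ρ_inv']
  obtain ⟨g', m2, e3, e4⟩ := t1 (S.ρ (k * g)⁻¹ y) (by rw [← S.inv (k * g), S.ρ_inv', e2, hy])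
  exact ⟨k * g * g', mul_mem (mul_mem m m1) m2, by rw [ρ_mul, e3, e2], by rw [ρ_mul, e4, S.ρ_inv']⟩
end Sy
end Sk
end H09
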