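import Mathlib
import Cfsg.Agent.H09.TwA
/-! Symplectic groups in characteristic two: construction of the invariant quadratic form. -/
namespace H09
namespace Sk
variable {F V H : Type*} [Field F] [AddCommGroup V] [Module F V] [Group H] {S : Sk F V H} {L : Subgroup H} {g k : H}
  {r p p' z y a f u u' w : V} {b b' c s t κ : F}

variable (S) in
/-- homogeneous values at both ends -/
def PP (L : Subgroup H) (a f u : V) : Prop := ∃ b, ∀ s : F, S.Eg L a (s • u) (s * s * b) ∧ S.Eg L f (s • u) (s * s * b)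
variable (S) in
/-- condition (Z) -/
def ZZ (L : Subgroup H) : Prop := ∀ r z (s κ : F), S.Om L r → S.Om L z → S.h z r = 0 → z ∉ F ∙ r → S.Eg L z (s • r) κ → κ = 0
variable (S) in
/-- a good hyperbolic pair -/
structure Gp (L : Subgroup H) (a f : V) : Prop where
  oa : S.Om L a
  of : S.Om L f
  h1 : S.h f a = 1
  ta : ∀ c, S.Eg L a 0 c → c = 0
  tf : ∀ c, S.Eg L f 0 c → c = 0
  pp : ∀ u, S.h u a = 0 → S.h u f = 0 → S.PP L a f u

namespace Sy
variable [CharP F 2] (Y : S.Sy)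
include Y
theorem pp_add (h : S.PP L a f u) (h' : S.PP L a f u') : S.PP L a f (u + u') :=
  let ⟨b, e⟩ := h; let ⟨b', e'⟩ := h'
  ⟨b + b' + S.h u u', fun s => ⟨(Y.ad (e s).1 (e' s).1).congr rfl (smul_add ..).symm (by simp [Y.σ]; ring),
    (Y.ad (e s).2 (e' s).2).congr rfl (smul_add ..).symm (by simp [Y.σ]; ring)⟩⟩
theorem third (o : S.Om L (f + c • a)) (h1 : S.h f a = 1) (e : S.Eg L a p c) (h2 : S.h p f = 0) : S.Om L (f + p) := by
  obtain ⟨o', g, m, e⟩ := e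
  convert o.conj m using 1
  rw [e]; simp [h1, Y.alt, Y.sm p f, h2, Y.sm p a, o'.2.1]; match_scalars <;> grind

theorem caseP (I : S.Irr L) (Z : S.ZZ L) (oa : S.Om L a) (oz : S.Om L z) (o1 : S.h z a = 0) (n : z ∉ F ∙ a) : ∃ f, S.Gp L a f := by
  obtain ⟨f, of, f1, f2⟩ : ∃ f, S.Om L f ∧ S.h f a = 1 ∧ S.h f z = 0 := by
    obtain ⟨k, m, s, s0, e⟩ := Y.ex_om I oa oa.1
    obtain ⟨p, h1, h2⟩ := Y.sep1 n (S.h (s • S.ρ k a) z)
    obtain ⟨b, -, g, m', e'⟩ := oa.2 p h1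
    refine ⟨_, (Y.om_smul (oa.conj m) s0).conj m', ?_, ?_⟩ <;> rw [e'] <;> generalize s • S.ρ k a = x at * <;>
      simp [e, h1, h2, Y.alt, S.sym o1, CharTwo.add_self_eq_zero]
  have nn : ∀ {a f w : V}, S.h f a = 1 → S.h w f = 0 → w ≠ 0 → a ∉ F ∙ w := fun {a f w} h1 h2 _ h => by
    obtain ⟨c, rfl⟩ := Submodule.mem_span_singleton.1 h
    simp [Y.σ, S.sym h2] at h1
  have f1' := Y.sm f a ▸ f1
  have p0 : ∀ w (c : F), S.Om L w → S.h w a = 0 → S.h w f = 0 → ∀ s : F, S.Eg L a (s • c • w) (s * s * 0) ∧ S.Eg L f (s • c • w) (s * s * 0) :=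
    fun w c o h1 h2 s => by
      obtain ⟨b, e⟩ := oa.2 ((s * c) • w) (by simp [h1])
      obtain ⟨b', e'⟩ := of.2 ((s * c) • w) (by simp [h2])
      obtain rfl := Z _ _ _ _ o oa (S.sym h1) (nn f1 h2 o.1) e
      obtain rfl := Z _ _ _ _ o of (S.sym h2) (nn f1' h1 o.1) e'
      simpa [mul_smul] using And.intro e e'
  have p1 : ∀ u, S.h u a = 0 → S.h u f = 0 → S.h u z ≠ 0 → S.PP L a f u := fun u h1 h2 h3 => by
    obtain ⟨b, e⟩ := oa.2 u h1
    obtain ⟨c, hc⟩ : ∃ c, c = b / S.h u z := ⟨_, rfl⟩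
    have e1 : S.Eg L a (u + c • z) 0 := (Y.ad e (p0 z c oz o1 (S.sym f2) 1).1).congr rfl (by simp) (by simp [Y.σ, hc, h3, CharTwo.add_self_eq_zero])
    have y1 : S.h (u + c • z) a = 0 := e1.1.2.1
    have y2 : S.h (u + c • z) f = 0 := by simp [h2, S.sym f2]
    have y3 : S.h (u + c • z) z ≠ 0 := by simpa [Y.alt]
    have y4 : u = (1 : F) • (u + c • z) + c • z := by match_scalars <;> grind
    generalize u + c • z = y at *
    have o2 := Y.third (c := 0) (by simpa using of) f1 e1 y2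
    obtain ⟨p, h4, h5⟩ := Y.sep1 (z := f) (r := f + y) (fun h => by
      obtain ⟨d, hd⟩ := Submodule.mem_span_singleton.1 h
      have h6 := congrArg (S.h · a) hd
      have h7 := congrArg (S.h · z) hd
      simp [f1, y1, f2, y3] at h6 h7
      simp [h6] at h7) 1
    obtain ⟨b', -, g, m, e2⟩ := o2.2 p h4
    have o3 : S.Om L y := by
      convert of.conj m using 1
      rw [e2]; simp [Y.alt, S.sym y2, Y.sm p f, h5]; exact veq (F := F) (by match_scalars <;> grind)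
    exact y4 ▸ Y.pp_add ⟨0, p0 y 1 o3 y1 y2⟩ ⟨0, p0 z c oz o1 (S.sym f2)⟩
  refine ⟨f, oa, of, f1, fun c e => Z z a 0 c oz oa (S.sym o1) (nn f1 (S.sym f2) oz.1) (by simpa),
    fun c e => Z z f 0 c oz of f2 (nn f1' o1 oz.1) (by simpa), fun u h1 h2 => ?_⟩
  by_cases h3 : S.h u z = 0
  · obtain ⟨v, v1, v2, v3⟩ := Y.sep2 (z := z) (r := a) (y := f) fun h => by
      obtain ⟨c, d, rfl⟩ := Submodule.mem_span_pair.1 h
      simp [Y.alt, f1, Y.σ] at o1 f2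
      exact oz.1 (by simp [o1, f2])
    convert Y.pp_add (p1 (u + v) (by simp [h1, v1]) (by simp [h2, v2]) (by simp [h3, v3])) (p1 v v1 v2 (by simp [v3])) using 1
    exact veq (F := F) (by match_scalars <;> grind)
  · exact p1 u h1 h2 h3

variable [Finite F]
theorem caseN0 (N : ∀ r z, S.Om L r → S.Om L z → S.h z r = 0 → z ∈ F ∙ r) (oa : S.Om L a) (of : S.Om L f) (f1 : S.h f a = 1)
    (p0 : p ≠ 0) (p1 : S.h p a = 0) (p2 : S.h p f = 0) :
    (∀ c, S.Eg L a 0 c → c = 0) ∧ (∀ c, ∃ t : F, S.Eg L a (t • p) c) ∧ ∀ c : F, S.Om L (f + c • a) → c = 0 := by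
  have h0 : ∀ t : F, S.Om L (f + t • p) → t = 0 := fun t o => by
    obtain ⟨d, hd⟩ := Submodule.mem_span_singleton.1 (N _ _ of o (by simp [Y.alt, p2]))
    have h6 := congrArg (S.h · a) hd
    simp [f1, p1] at h6
    simpa [h6, p0] using hd
  have h1 : ∀ t : F, S.Eg L a (t • p) 0 → t = 0 := fun t e => h0 t (Y.third (c := 0) (by simpa using of) f1 e (by simp [p2]))
  choose ψ hψ using fun t : F => oa.2 (t • p) (by simp [p1])
  have h2 : Function.Surjective ψ := Finite.surjective_of_injective fun t t' e => CharTwo.add_eq_zero.1 <| h1 _ <|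
    (Y.ad (hψ t) (hψ t')).congr rfl (add_smul ..).symm (by simp [e, Y.alt, CharTwo.add_self_eq_zero])
  have h3 : ∀ c, S.Eg L a 0 c → c = 0 := fun c e => by
    obtain ⟨t, rfl⟩ := h2 c
    obtain ⟨t', e'⟩ := h2 0
    obtain rfl := h1 t (((hψ t).addT e).congr rfl rfl (CharTwo.add_self_eq_zero _))
    obtain rfl := h1 t' (e' ▸ hψ t')
    exact e'
  refine ⟨h3, fun c => let ⟨t, e⟩ := h2 c; ⟨t, e ▸ hψ t⟩, fun c o => ?_⟩
  obtain ⟨t, rfl⟩ := h2 c
  obtain rfl := h0 t (Y.third o f1 (hψ t) (by simp [p2]))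
  exact h3 _ (by simpa using hψ 0)

theorem caseN (I : S.Irr L) (N : ∀ r z, S.Om L r → S.Om L z → S.h z r = 0 → z ∈ F ∙ r) (oa : S.Om L a)
    (d : ∀ x y : V, ∃ v, v ∉ Submodule.span F {x, y}) : ∃ f, S.Gp L a f := by
  obtain ⟨f, of, f1⟩ : ∃ f, S.Om L f ∧ S.h f a = 1 :=
    let ⟨k, m, s, s0, e⟩ := Y.ex_om I oa oa.1; ⟨_, Y.om_smul (oa.conj m) s0, e⟩
  have f1' := Y.sm f a ▸ f1
  obtain ⟨v, hv⟩ := d a f
  obtain ⟨p, p1, p2, p3⟩ := Y.sep2 hv
  have p0 : p ≠ 0 := by rintro rfl; simp at p3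
  have tf := (Y.caseN0 N of oa f1' p0 p2 p1).1
  refine ⟨f, oa, of, f1, (Y.caseN0 N oa of f1 p0 p1 p2).1, tf, fun u h1 h2 => ?_⟩
  by_cases u0 : u = 0
  · exact ⟨0, fun s => by simpa [u0] using And.intro (Eg.one (Y.alt a)) (Eg.one (Y.alt f))⟩
  have hh : ∀ l : F, l ≠ 0 → ∀ (s b : F), S.Eg L a (s • u) b → S.Eg L f (l • s • u) (l * l * b) := fun l l0 s b e => by
    obtain ⟨t, -, g, m, i⟩ := (Y.caseN0 N of oa f1' u0 h2 h1).2.1 l
    obtain ⟨b0, -, k, m', i'⟩ := oa.2 (l⁻¹ • t • u) (by simp [h1])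
    have e1 : S.ρ (k * g) a = l • (f + (l⁻¹ + b0) • a) := by
      rw [ρ_mul, i, i']; simp [Y.σ, Y.alt, f1, f1', h1, S.sym h1, S.sym h2]; match_scalars <;> grind
    have e2 := (Y.caseN0 N oa of f1 p0 p1 p2).2.2 (l⁻¹ + b0) (by
      have := Y.om_smul (oa.conj (mul_mem m' m)) (inv_ne_zero l0)
      rwa [e1, inv_smul_smul₀ l0] at this)
    exact Y.sc ((e.conj (mul_mem m' m)).congr (by rw [e1, e2]; simp) (by rw [ρ_mul, i, i']; simp [Y.alt, h1, h2]) rfl)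
  obtain ⟨b, e⟩ := oa.2 u h1
  refine ⟨b, fun s => ?_⟩
  by_cases s0 : s = 0
  · simpa [s0] using And.intro (Eg.one (Y.alt a)) (Eg.one (Y.alt f))
  have e1 : S.Eg L f (s • u) (s * s * b) := by simpa using hh s s0 1 b (by simpa)
  obtain ⟨b', e'⟩ := oa.2 (s • u) (by simp [h1])
  obtain rfl : b' = s * s * b := CharTwo.add_eq_zero.1 (tf _ (Y.df (by simpa using hh 1 one_ne_zero s b' e') e1))
  exact ⟨e', e1⟩

theorem quad (I : S.Irr L) (Z : S.ZZ L) (K : S.Gp L a f) (d : ∀ x y : V, ∃ v, v ∉ Submodule.span F {x, y}) :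
    ∃ Q : V → F, (∀ (s : F) y, Q (s • y) = s * s * Q y) ∧ (∀ x y, Q (x + y) = Q x + Q y + S.h x y) ∧ (∀ g ∈ L, ∀ y, Q (S.ρ g y) = Q y) ∧
      Q a = 0 ∧ Q f = 0 ∧ (∀ p, S.h p a = 0 → S.Eg L a p (Q p)) ∧ ∀ p, S.h p f = 0 → S.Eg L f p (Q p) := by
  have f1 := K.h1
  have f1' := Y.sm f a ▸ f1
  choose β hβ using fun y => K.pp (y + S.h y f • a + S.h y a • f) (by simp [Y.alt, f1, CharTwo.add_self_eq_zero])
    (by simp [Y.alt, f1', CharTwo.add_self_eq_zero])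
  have un : ∀ {p b b'}, S.Eg L a p b → S.Eg L a p b' → b = b' := fun e e' => CharTwo.add_eq_zero.1 (K.ta _ (Y.df e e'))
  obtain ⟨Q, hQ⟩ : ∃ Q : V → F, Q = fun y => S.h y a * S.h y f + β y := ⟨_, rfl⟩
  have q1 : ∀ (s : F) y, Q (s • y) = s * s * Q y := fun s y => by
    have := un (hβ (s • y) 1).1 ((hβ y s).1.congr rfl (by simp; module) rfl)
    simp at this
    simp [hQ, this]; ring
  have q2 : ∀ x y, Q (x + y) = Q x + Q y + S.h x y := fun x y => by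
    have := un (hβ (x + y) 1).1 ((Y.ad (hβ x 1).1 (hβ y 1).1).congr rfl (by simp; module) rfl)
    simp [Y.σ, Y.alt, f1, f1', Y.sm y a, Y.sm y f] at this
    simp [hQ, this]; grind
  have qa : ∀ p, S.h p a = 0 → S.Eg L a p (Q p) := fun p h =>
    (Y.md (hβ p 1).1 (S.h p f) (by simp [h]; match_scalars <;> grind)).congr rfl rfl (by simp [hQ, h])
  have qf : ∀ p, S.h p f = 0 → S.Eg L f p (Q p) := fun p h =>
    (Y.md (hβ p 1).2 (S.h p a) (by simp [h]; match_scalars <;> grind)).congr rfl rfl (by simp [hQ, h])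
  have q3 : Q a = 0 := K.ta _ (Y.md (qa a (Y.alt _)) 1 (by match_scalars; grind))
  have q4 : Q f = 0 := K.tf _ (Y.md (qf f (Y.alt _)) 1 (by match_scalars; grind))
  obtain ⟨u, u1, u2, u3⟩ : ∃ u, S.h u a = 0 ∧ S.h u f = 0 ∧ Q u ≠ 0 := by
    by_contra h
    push Not at h
    obtain ⟨v, hv⟩ := d a f
    obtain ⟨p, p1, p2, p3⟩ := Y.sep2 hv
    obtain ⟨x, x1, x2, x3⟩ := Y.sep2 (z := p) (r := a) (y := f) fun h => by
      obtain ⟨c, d, rfl⟩ := Submodule.mem_span_pair.1 h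
      simp [Y.alt, f1, f1'] at p1 p2
      simp [p1, p2] at p3
    simpa [q2, h x x1 x2, h p p1 p2, x3] using h (x + p) (by simp [x1, p1]) (by simp [x2, p2])
  have T : ∀ c : F, S.Om L (f + c • a) → c = 0 := fun c o => by
    obtain ⟨s, hs⟩ := sq (c / Q u)
    have e : Q (s • u) = c := by rw [q1, hs]; field_simp
    by_cases s0 : s • u = 0
    · exact K.ta _ (s0 ▸ e ▸ qa _ (by simp [u1]))
    refine Z _ f 1 c (Y.third o f1 (e ▸ qa _ (by simp [u1])) (by simp [u2])) K.of (by simp [Y.alt, S.sym u2]) (fun h => ?_)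
      (Y.md (e ▸ qf _ (by simp [u2])) 1 (by module))
    obtain ⟨d, hd⟩ := Submodule.mem_span_singleton.1 h
    have h6 := congrArg (S.h · a) hd
    simp [f1, u1] at h6
    exact s0 (by simpa [h6] using hd)
  have q5 : ∀ z, S.Om L z → Q z = 0 := fun z o => by
    by_cases h : S.h z a = 0
    · by_cases n : a ∈ F ∙ z
      · obtain ⟨c, rfl⟩ := Submodule.mem_span_singleton.1 n
        exact (mul_eq_zero.1 (q1 c z ▸ q3)).resolve_left fun e => K.oa.1 (by simp [mul_self_eq_zero.1 e])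
      · exact Z z a 1 _ o K.oa (S.sym h) n (by simpa using qa z h)
    · have o' := Y.om_smul o (inv_ne_zero h)
      have h1 : S.h ((S.h z a)⁻¹ • z) a = 1 := by simp [h]
      suffices Q ((S.h z a)⁻¹ • z) = 0 by simpa [q1, h] using this
      generalize (S.h z a)⁻¹ • z = x at *
      obtain ⟨-, g, m, e⟩ := (hβ x 1).1
      refine T _ ?_
      convert o'.conj m using 1
      rw [e]; simp [hQ, h1, Y.alt, Y.σ]; match_scalars <;> grind
  let W : Submodule F V :=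
    { carrier := {y | ∀ g ∈ L, Q (S.ρ g y) = Q y}
      add_mem' := fun h1 h2 g m => by rw [map_add, q2, q2, h1 g m, h2 g m, S.inv]
      zero_mem' := fun g m => by simp
      smul_mem' := fun c x h1 g m => by rw [map_smul, q1, q1, h1 g m] }
  refine ⟨Q, q1, q2, fun g m y => ?_, q3, q4, qa, qf⟩
  exact ((I W fun g m w h k m' => by rw [← ρ_mul, h _ (mul_mem m' m), h g m]).resolve_left fun e =>
    K.oa.1 (e.le (show a ∈ W from fun g m => by rw [q5 _ (K.oa.conj m), q3]))).ge (Submodule.mem_top (x := y)) g m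

/-- the trichotomy -/
theorem tri (I : S.Irr L) (oa : S.Om L a) (d : ∀ x y : V, ∃ v, v ∉ Submodule.span F {x, y}) :
    (∀ y c, S.Eg L y 0 c) ∨ (∃ a f : V, ∃ Q : V → F, S.h f a = 1 ∧ (∀ (s : F) y, Q (s • y) = s * s * Q y) ∧
      (∀ x y, Q (x + y) = Q x + Q y + S.h x y) ∧ (∀ g ∈ L, ∀ y, Q (S.ρ g y) = Q y) ∧
      Q a = 0 ∧ Q f = 0 ∧ (∀ p, S.h p a = 0 → S.Eg L a p (Q p)) ∧ ∀ p, S.h p f = 0 → S.Eg L f p (Q p)) ∨
    ((∀ c : F, c = 0 ∨ c = 1) ∧ (¬ ∀ x y x' y' : V, ∃ v, v ∉ Submodule.span F {x, y, x', y'}) ∧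
      ∃ r f, ∀ x y, S.h y x = 1 → ∃ g ∈ L, S.ρ g r = x ∧ S.ρ g f = y) := by
  by_cases hA : ∀ r, S.Om L r → ¬ ∀ c, S.Eg L r 0 c
  swap
  · push Not at hA
    obtain ⟨r, o, h⟩ := hA
    exact .inl (Y.all_tv I o h)
  by_cases Z : S.ZZ L
  · obtain ⟨a, f, K⟩ : ∃ a f, S.Gp L a f := by
      by_cases N : ∀ r z, S.Om L r → S.Om L z → S.h z r = 0 → z ∈ F ∙ r
      · exact ⟨a, Y.caseN I N oa d⟩
      · push Not at N
        obtain ⟨r, z, o, o', h, n⟩ := N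
        exact ⟨r, Y.caseP I Z o o' h n⟩
    obtain ⟨Q, h⟩ := Y.quad I Z K d
    exact .inr (.inl ⟨a, f, Q, K.h1, h⟩)
  simp only [ZZ, not_forall] at Z
  obtain ⟨r, z, s, κ, o, o', h, n, e, κ0⟩ := Z
  obtain ⟨h2, e1⟩ := Y.kap hA o o' h n e κ0
  have n' := (Y.nsym o' n).resolve_right o.1
  refine .inr (.inr ⟨h2, fun d' => hA r o fun c => ?_, z, (Y.trans I h2 o' (S.sym h) n' n e1).imp fun _ h => h.2⟩)
  rcases h2 c with rfl | rfl
  exacts [Eg.one (Y.alt r), by simpa using Y.df e1 (Y.big o o' h n d')]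
end Sy
end Sk
end H09
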