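import Mathlib
import Cfsg.Agent.H09.TwB
import Cfsg.Agent.H24.Wall3
/-! Normal 2-subgroups of point stabilisers in `Sp`; overgroups of the Siegel group; large subgroups of `S₆`. -/
namespace H09
open Module
namespace Sk
variable {F V H : Type*} [Field F] [AddCommGroup V] [Module F V] [Group H] {S : Sk F V H} {L : Subgroup H} {a : V}
namespace Sy
variable [CharP F 2] (Y : S.Sy)
include Y
theorem unip {N : Subgroup H} (a0 : a ≠ 0) (h1 : ∀ g ∈ N, S.ρ g a = a) (h2 : ∀ g ∈ N, ∃ k, g ^ 2 ^ k = 1)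
    (h3 : ∀ g ∈ N, ∀ t, S.ρ t a = a → t * g * t⁻¹ ∈ N) {g} (m : g ∈ N) : ∃ p b, S.h p a = 0 ∧ S.IsE g a p b := by
  have k0 : ∀ g ∈ N, ∀ u c, S.h u a = 0 → ∃ x ∈ N, ∀ y, S.ρ x y =
      y + (c * S.h y u) • u + (c * S.h (y + (c * S.h y u) • u) (S.ρ g u)) • S.ρ g u := fun g m u c hu => by
    obtain ⟨-, t, -, e⟩ := S.eg_top (Y.ok (r := u) (p := 0) (b := c) (by simp))
    refine ⟨g * (t * g⁻¹ * t⁻¹), mul_mem m (h3 _ (inv_mem m) t (by rw [e]; simp [S.sym hu])), fun y => ?_⟩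
    rw [show g * (t * g⁻¹ * t⁻¹) = g * t * g⁻¹ * t⁻¹ by group, ρ_mul, e.conj g, e.inv (Y.ok (by simp))]
    simp [CharTwo.neg_eq]
  have k1 : ∀ g ∈ N, ∀ u, S.h u a = 0 → S.h u (S.ρ g u) = 0 := fun g m u hu => by
    by_contra n
    obtain ⟨x, m', e⟩ := k0 g m u (S.h u (S.ρ g u))⁻¹ hu
    generalize S.ρ g u = w at *
    have e1 : S.ρ x u = u + w := by rw [e]; simp [Y.alt, n]
    have e2 : S.ρ x w = u := by rw [e]; simp [Y.alt, n, Y.sm u w]; exact veq (F := F) (by match_scalars <;> grind)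
    have : ∀ k : ℕ, S.ρ (x ^ 2 ^ k) u = u + w ∧ S.ρ (x ^ 2 ^ k) w = u ∨ S.ρ (x ^ 2 ^ k) u = w ∧ S.ρ (x ^ 2 ^ k) w = u + w := fun k => by
      induction k with
      | zero => simp [e1, e2]
      | succ k ih =>
        rw [pow_succ, pow_mul, pow_two, ρ_mul, ρ_mul]
        rcases ih with ⟨i1, i2⟩ | ⟨i1, i2⟩
        · exact .inr ⟨by rw [i1, map_add, i1, i2]; exact veq (F := F) (by match_scalars <;> grind), by rw [i2, i1]⟩
        · exact .inl ⟨by rw [i1, i2], by rw [i2, map_add, i1, i2]; exact veq (F := F) (by match_scalars <;> grind)⟩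
    obtain ⟨k, hk⟩ := h2 x m'
    rcases this k with ⟨i, -⟩ | ⟨i, -⟩ <;> simp [hk] at i <;> simp [i, Y.alt] at n
  have k2 : ∀ u, S.h u a = 0 → u + S.ρ g u ∈ F ∙ a := fun u hu => by
    by_contra n
    obtain ⟨v, v1, v2⟩ := Y.sep1 n 1
    obtain ⟨x, m', e⟩ := k0 g m u 1 hu
    have := k1 x m' v v1
    simp [e, Y.alt, Y.σ, k1 g m u hu] at this v2
    grind
  obtain ⟨f, -, f1⟩ := Y.sep ⊥ a (by simpa)
  have f2 : S.h (S.ρ g f) a = 1 := by rw [← h1 g m, S.inv, f1]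
  refine ⟨S.ρ g f + f, S.h f (S.ρ g f), by simp [f1, f2, CharTwo.add_self_eq_zero], fun y => ?_⟩
  obtain ⟨c, hc⟩ := Submodule.mem_span_singleton.1 (k2 (y + S.h y a • f) (by simp [f1, CharTwo.add_self_eq_zero]))
  have e1 : S.ρ g y = c • a + y + S.h y a • f + S.h y a • S.ρ g f := by rw [hc]; simp; match_scalars <;> grind
  have e2 := S.inv g y f
  rw [e1] at e2 ⊢
  simp [Y.alt, Y.sm (S.ρ g f) a, f2] at e2 ⊢
  match_scalars <;> grind

theorem om_of [Finite V] {X : Subgroup H} (a0 : a ≠ 0) (hX : X ≤ L) (h1 : ∀ g ∈ X, ∃ p b, S.h p a = 0 ∧ S.IsE g a p b)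
    (h2 : ∀ g ∈ X, ∀ c, S.IsE g a 0 c → c = 0) (h3 : Nat.card X * (Nat.card F * Nat.card F) = Nat.card V) : S.Om L a := by
  obtain ⟨f, -, f1⟩ := Y.sep ⊥ a (by simpa)
  choose π β h4 h5 using fun g : X => h1 g g.2
  have h6 : ∀ g : X, S.Eg X a (π g) (β g) := fun g => ⟨Y.ok (h4 g), g, g.2, h5 g⟩
  let Φ : X × F × F → V := fun x => π x.1 + x.2.1 • a + x.2.2 • f
  have : Function.Bijective Φ := (Function.Injective.bijective_of_nat_card_le · (by simp [h3])) fun ⟨g, s, t⟩ ⟨k, s', t'⟩ e => by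
    have e1 := congrArg (S.h · a) e
    simp [Φ, h4, Y.alt, f1] at e1 e
    subst e1
    have e2 : π k = π g + (s + s') • a := by
      rw [← sub_eq_iff_eq_add.2 (add_right_cancel e)]; match_scalars <;> grind
    have e3 : S.IsE (g * k : H) a 0 (β g + β k) := fun y => by
      rw [(h5 g).mul (h5 k) (h6 g).1 (h6 k).1, e2]; simp [Y.alt, Y.σ, S.sym (h4 g)]; match_scalars <;> grind
    have e4 := h2 _ (mul_mem g.2 k.2) _ e3
    obtain rfl : g = k := Subtype.ext (S.inj (LinearMap.ext fun y => by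
      rw [h5 g, h5 k, e2, CharTwo.add_eq_zero.1 e4]; simp [Y.σ]; match_scalars <;> grind))
    simp [CharTwo.add_eq_zero.1 (show s + s' = 0 by simpa [a0] using e2)]
  refine ⟨a0, fun p hp => ?_⟩
  obtain ⟨⟨g, s, t⟩, rfl⟩ := this.2 p
  obtain rfl : t = 0 := by simpa [Φ, h4, Y.alt, f1] using hp
  obtain ⟨o, x, m, e⟩ := Y.md (h6 g) s (p' := Φ (g, s, 0)) (by simp [Φ])
  exact ⟨_, o, x, hX m, e⟩
end Sy
end Sk

section orth
open H10 H10.Form H24.Wall
variable {F V : Type*} [Field F] [AddCommGroup V] [Module F V] {φ : Form F V} [φ.Nondeg] [FiniteDimensional F V] (hQ : φ.IsQuad)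
include hQ
theorem alt_mem_E (n : ℕ) : ∀ g : φ.Isom, finrank F (W g) = n → Alt g → g ∈ φ.E := by
  induction n using Nat.strong_induction_on with | _ n ih => ?_
  intro g hn hg
  by_cases g1 : g = 1
  · exact g1 ▸ one_mem _
  obtain ⟨x, hx⟩ : ∃ x, N g x ≠ 0 := by
    by_contra h
    push Not at h
    exact g1 ((eq_one_iff g).2 (LinearMap.range_eq_bot.2 (LinearMap.ext h)))
  obtain ⟨y, hy⟩ : ∃ y, φ.B x (N g y) = 1 := by
    obtain ⟨y, hy⟩ := not_forall.1 (mt (N_eq_zero_iff g x).2 hx)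
    exact ⟨(φ.B x (N g y))⁻¹ • y, by simp [hy]⟩
  have ts := Alt.ts g hQ hg
  have b : ∀ u v, φ.B (N g u) (N g v) = 0 := fun u v => ts.B _ ⟨u, rfl⟩ _ ⟨v, rfl⟩
  have q : ∀ u, φ.Q (N g u) = 0 := fun u => ts.Q _ ⟨u, rfl⟩
  have q0 : φ.T 0 = φ.Q (N g y) := by simp [q]
  have m := φ.siegel_mem_E (q x) (b x y) q0
  have e := φ.siegel_apply (q x) (b x y) q0
  have e' := φ.siegel_apply (q x) (w := -N g y) (s := φ.ε * φ.σ 0) (by simp [b]) (by simp [q])
  rw [← siegel_inv (q x) (b x y) q0] at e'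
  generalize φ.siegel (N g x) (N g y) 0 = s at *
  have hN : ∀ z, N (s⁻¹ * g) z = N g (z - φ.B (N g y) z • x + φ.B (N g x) z • y) := fun z => by
    rw [N_apply, Isom.mul_apply, e', apply_eq g z]; simp [b, hQ.ε_eq]; abel
  have hle : W (s⁻¹ * g) ≤ W g := by rintro _ ⟨z, rfl⟩; exact ⟨_, (hN z).symm⟩
  have hlt : finrank F (W (s⁻¹ * g)) < finrank F (W g) := by
    have h1 := rank_add_ker g
    have h2 := rank_add_ker (s⁻¹ * g)
    have h3 : LinearMap.ker (N g) < LinearMap.ker (N (s⁻¹ * g)) := by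
      refine lt_of_le_of_ne (fun z hz => ?_) fun h => hx (h.ge (show N (s⁻¹ * g) x = 0 by
        rw [hN, hQ.B_comm, hy, hQ.B_comm, hg x]; simp))
      have := (N_eq_zero_iff g z).1 hz
      rw [LinearMap.mem_ker, hN, hQ.B_comm, this, hQ.B_comm, this]; simpa using hz
    have := Submodule.finrank_lt_finrank_of_lt h3
    omega
  exact (mul_mem_cancel_left (inv_mem m)).1 (ih _ (hn ▸ hlt) _ rfl ((alt_iff_Q hQ _).2 fun z => by rw [hN, q]))

variable [Finite F] [CharP F 2] (hn : 4 ≤ finrank F V)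
include hn
theorem refl_mul_mem_E {u v : V} (hu : φ.Q u ≠ 0) (hv : φ.Q v ≠ 0) : φ.refl u * φ.refl v ∈ φ.E := by
  obtain ⟨e, f, hyp⟩ := hQ.exists_hyp_of_three_le (by omega)
  obtain ⟨c, hc⟩ := Sk.Sy.sq (φ.Q u / φ.Q v)
  have c0 : c ≠ 0 := by rintro rfl; exact div_ne_zero hu hv (by simpa using hc.symm)
  obtain ⟨g, m, e⟩ := (hQ.big hn).exists_E_map hyp (y := c • v) (z := u) (smul_ne_zero c0 (by rintro rfl; simp at hv))
    (by rintro rfl; simp at hu) (by rw [φ.Q_smul, hQ.σ_eq, hc]; field_simp)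
  rw [← e, ← hQ.refl_conj, hQ.refl_smul c0]
  simpa [mul_assoc, hQ.refl_inv] using mul_mem m (E_normal.conj_mem _ (inv_mem m) (φ.refl v))

theorem rank_E (n : ℕ) : ∀ g : φ.Isom, finrank F (W g) = n →
    (Even n → g ∈ φ.E) ∧ (¬ Even n → ∀ v, φ.Q v ≠ 0 → φ.refl v * g ∈ φ.E) := by
  induction n using Nat.strong_induction_on with | _ n ih => ?_
  intro g hg
  by_cases h : Alt g
  · exact ⟨fun _ => alt_mem_E hQ _ g rfl h, fun h' => (h' (hg ▸ h.even hQ.σ_eq)).elim⟩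
  obtain ⟨x, hx⟩ := not_forall.1 (mt (alt_iff_Q hQ g).2 h)
  have h1 := rank_refl_mul_of_mem hQ hx ⟨x, rfl⟩
  have h2 := ih _ (by omega) _ (rfl : finrank F (W (φ.refl (N g x) * g)) = _)
  refine ⟨fun h' => ?_, fun h' v hv => ?_⟩
  · simpa [← mul_assoc, hQ.refl_mul_self] using h2.2 (by grind) _ hx
  · simpa [mul_assoc, ← mul_assoc (φ.refl (N g x)), hQ.refl_mul_self] using mul_mem (refl_mul_mem_E hQ hn hv hx) (h2.1 (by grind))

theorem over_E {M : Subgroup φ.Isom} (h : φ.E ≤ M) : M = ⊤ ∨ ∀ g, g ∈ M ↔ Even (finrank F (W g)) := by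
  by_cases h1 : ∀ g ∈ M, Even (finrank F (W g))
  · exact .inr fun g => ⟨h1 g, fun e => h ((rank_E hQ hn _ g rfl).1 e)⟩
  push Not at h1
  obtain ⟨g, m, h1⟩ := h1
  obtain ⟨x, hx⟩ := not_forall.1 (mt (alt_iff_Q hQ g).2 fun h => h1 (h.even hQ.σ_eq))
  have h2 : φ.refl (N g x) ∈ M := by simpa using mul_mem (h ((rank_E hQ hn _ g rfl).2 h1 _ hx)) (inv_mem m)
  refine .inl (eq_top_iff.2 fun k _ => ?_)
  by_cases e : Even (finrank F (W k))
  exacts [h ((rank_E hQ hn _ k rfl).1 e), (mul_mem_cancel_left h2).1 (h ((rank_E hQ hn _ k rfl).2 e _ hx))]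
end orth

open Equiv in
theorem sub_S6 (K : Subgroup (Perm (Fin 6))) (h : 120 ≤ Nat.card K) :
    K = ⊤ ∨ K = alternatingGroup (Fin 6) ∨ Nonempty (K ≃* Perm (Fin 5)) := by
  have h0 := K.card_mul_index
  rw [Nat.card_perm] at h0
  simp only [Nat.card_eq_fintype_card (α := Fin 6), Fintype.card_fin, show Nat.factorial 6 = 720 from rfl] at h0
  by_cases hc : K.normalCore = ⊥
  swap
  · have h1 := (Perm.alternatingGroup_le_of_normal (α := Fin 6) (by simp) (N := K.normalCore)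
      ((Subgroup.nontrivial_iff_ne_bot _).2 hc)).trans K.normalCore_le
    have h2 := Nat.le_of_dvd two_pos (alternatingGroup.index_eq_two (α := Fin 6) ▸ Subgroup.index_dvd_of_le h1)
    have h3 := K.index_ne_zero_of_finite
    rcases (by omega : K.index = 1 ∨ K.index = 2) with h | h
    exacts [.inl (Subgroup.index_eq_one.1 h), .inr (.inl (Perm.eq_alternatingGroup_of_index_eq_two h))]
  classical
  have inj : Function.Injective (MulAction.toPermHom (Perm (Fin 6)) (Perm (Fin 6) ⧸ K)) :=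
    (MonoidHom.ker_eq_bot_iff _).1 (K.normalCore_eq_ker ▸ hc)
  have h1 := Nat.card_le_card_of_injective _ inj
  rw [Nat.card_perm (α := _ ⧸ K), Nat.card_perm, ← K.index_eq_card] at h1
  simp only [Nat.card_eq_fintype_card (α := Fin 6), Fintype.card_fin, show Nat.factorial 6 = 720 from rfl] at h1
  have h2 : K.index = 6 := by
    have : K.index ≤ 6 := by nlinarith
    generalize K.index = i at *
    interval_cases i <;> simp [Nat.factorial] at h1 ⊢
  have h3 : Nat.card {x : Perm (Fin 6) ⧸ K // x ≠ ((1 : Perm (Fin 6)) : _ ⧸ K)} = 5 := by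
    rw [Nat.card_eq_fintype_card, Fintype.card_subtype_compl, Fintype.card_subtype_eq, ← Nat.card_eq_fintype_card, ← K.index_eq_card, h2]
  have h4 : ∀ g : K, (g : Perm (Fin 6)) • ((1 : Perm (Fin 6)) : _ ⧸ K) = ((1 : Perm (Fin 6)) : _ ⧸ K) := fun g =>
    (MulAction.stabilizer_quotient K).ge g.2
  let ψ : K →* Perm {x : Perm (Fin 6) ⧸ K // x ≠ ((1 : Perm (Fin 6)) : _ ⧸ K)} := MonoidHom.mk' (fun g =>
    (MulAction.toPerm (g : Perm (Fin 6))).subtypePerm fun x => by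
      rw [MulAction.toPerm_apply, ← h4 g, Ne, smul_left_cancel_iff, h4 g]) fun g k => Perm.ext fun x => Subtype.ext (mul_smul (g : Perm (Fin 6)) (k : Perm (Fin 6)) x.1)
  have h5 : Function.Injective ψ := (injective_iff_map_eq_one ψ).2 fun g e => Subtype.ext <| (injective_iff_map_eq_one _).1 inj _ <|
    Perm.ext fun x => by
      by_cases hx : x = ((1 : Perm (Fin 6)) : _ ⧸ K)
      · exact hx ▸ h4 g
      · exact congrArg (fun σ : Perm {x // x ≠ _} => (σ ⟨x, hx⟩).1) e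
  exact .inr (.inr ⟨(MulEquiv.ofBijective ψ (h5.bijective_of_nat_card_le (by rw [Nat.card_perm, h3]; exact h))).trans
    (Finite.equivFinOfCardEq h3).permCongrHom⟩)
end H09
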