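import Mathlib
import Cfsg.Agent.H09.TwC
import Cfsg.Agent.H09.RuE
import Cfsg.Agent.H10.Small
import Cfsg.Agent.H02.PCore
/-! Irreducible subgroups of `Sp₂ₙ(2^k)` containing a large subgroup of a long root radical. -/
namespace H09
open Module Matrix Sum H10 H10.Form H24.Wall
variable {F : Type*} [Field F] {n : ℕ}

theorem spSk_sy : (spSk F n).Sy := ⟨fun _ => rfl, spB_alt.self_eq_zero, fun W z h => by
  obtain ⟨φ, h1, h2⟩ := W.exists_dual_map_eq_bot_of_notMem h inferInstance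
  obtain ⟨p, rfl⟩ := ((spB (Fin n) F).toDual spB_nondeg).surjective φ
  refine ⟨(spB _ F p z)⁻¹ • p, fun w m => ?_, ?_⟩ <;> rw [spSk_h, map_smul, LinearMap.smul_apply, smul_eq_mul]
  exacts [mul_eq_zero_of_right _ (h2.le (Submodule.mem_map_of_mem m)), inv_mul_cancel₀ h1]⟩

theorem ex_notMem_span {V : Type*} [AddCommGroup V] [Module F V] (s : Finset V) (h : s.card < finrank F V) :
    ∃ v, v ∉ Submodule.span F (s : Set V) := by
  by_contra e
  push Not at e
  have := finrank_span_finset_le_card (R := F) s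
  rw [Set.finrank, Submodule.eq_top_iff'.2 e, finrank_top] at this
  omega

theorem card_hyp16 : Fintype.card {p : (Fin 2 ⊕ Fin 2 → ZMod 2) × (Fin 2 ⊕ Fin 2 → ZMod 2) //
    ∑ i : Fin 2, (p.2 (inr i) * p.1 (inl i) - p.2 (inl i) * p.1 (inr i)) = 1} = 120 := by decide +kernel

variable [Fintype F] [CharP F 2]
theorem sp4_exc (h2 : ∀ c : F, c = 0 ∨ c = 1) (L : Subgroup (symplecticGroup (Fin 2) F)) {r f : Fin 2 ⊕ Fin 2 → F}
    (h : ∀ x y, spB _ F y x = 1 → ∃ g ∈ L, g • r = x ∧ g • f = y) : Fintype.card F = 2 ∧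
    (L = ⊤ ∨ Nonempty (L ≃* alternatingGroup (Fin 6)) ∨ Nonempty (L ≃* Equiv.Perm (Fin 5))) := by
  classical
  have hF : Fintype.card F = 2 := by
    rw [← Finset.card_univ, show (Finset.univ : Finset F) = {0, 1} from (Finset.eq_univ_of_forall (by simpa using h2)).symm]; simp
  obtain ⟨e⟩ := sp4_two hF
  let j := ZMod.ringEquiv F hF
  choose γ m e1 e2 using fun p : {p : (Fin 2 ⊕ Fin 2 → ZMod 2) × (Fin 2 ⊕ Fin 2 → ZMod 2) //
    ∑ i : Fin 2, (p.2 (inr i) * p.1 (inl i) - p.2 (inl i) * p.1 (inr i)) = 1} => h (j ∘ p.1.1) (j ∘ p.1.2) (by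
      simpa [spB_apply'] using congrArg j p.2)
  have := Nat.card_le_card_of_injective (fun p => (⟨γ p, m p⟩ : L)) fun p q e => Subtype.ext (by
    have e : γ p = γ q := congrArg Subtype.val e
    exact Prod.ext (j.injective.comp_left ((e1 p).symm.trans (e ▸ e1 q))) (j.injective.comp_left ((e2 p).symm.trans (e ▸ e2 q))))
  rw [Nat.card_eq_fintype_card, card_hyp16, Nat.card_congr (e.subgroupMap L).toEquiv] at this
  refine ⟨hF, (sub_S6 _ this).imp (fun h => ?_) (.imp (fun h => ⟨(e.subgroupMap L).trans (MulEquiv.subgroupCongr h)⟩)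
    fun ⟨k⟩ => ⟨(e.subgroupMap L).trans k⟩)⟩
  exact eq_top_iff.2 fun g _ => by simpa using h.ge (Subgroup.mem_top (e g))

theorem sp_tri (hn : 2 ≤ n) (L : Subgroup (symplecticGroup (Fin n) F)) (I : (spSk F n).Irr L) {a} (o : (spSk F n).Om L a) :
    L = ⊤ ∨ (∃ Q : QuadraticForm F (Fin n ⊕ Fin n → F), (∀ u v, QuadraticMap.polar Q u v = spB _ F u v) ∧
      (L.map spToGL = Cfsg.isometryGroup F Q ∨ ∀ g, g ∈ L.map spToGL ↔ g ∈ Cfsg.isometryGroup F Q ∧ Even (g.1 - 1).rank)) ∨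
    Fintype.card F = 2 ∧ n = 2 ∧ (Nonempty (L ≃* alternatingGroup (Fin 6)) ∨ Nonempty (L ≃* Equiv.Perm (Fin 5))) := by
  classical
  have hd : finrank F (Fin n ⊕ Fin n → F) = n + n := by simp
  rcases spSk_sy.tri I o (fun x y => by simpa using ex_notMem_span (F := F) {x, y} (by have := Finset.card_le_two (a := x) (b := y); omega))
    with h | ⟨a, f, q, h1, q1, q2, q3, q4, q5, q6, q7⟩ | ⟨h1, h2, r, f, h⟩
  · refine .inl (sp_eq_top_of_tv_mem _ fun v c => ?_)
    obtain ⟨-, g, m, e⟩ := h v c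
    rwa [show spTv v c = g from sp_ext fun y => by rw [spTv_smul]; simpa [spSk_h, spSk_ρ] using (e y).symm]
  · let Q : QuadraticForm F (Fin n ⊕ Fin n → F) := ⟨q, q1, spB _ F, q2⟩
    have hp : ∀ u v, QuadraticMap.polar Q u v = spB _ F u v := fun u v => by
      rw [QuadraticMap.polar]; exact (congrArg (· - q u - q v) (q2 u v)).trans (by rw [spSk_h]; ring)
    have : (ofQuad Q).Nondeg := ⟨fun x h => spB_nondeg.1 x fun y => hp x y ▸ h y⟩
    have hL : L.map spToGL ≤ Cfsg.isometryGroup F Q := by rintro _ ⟨g, m, rfl⟩ u _; exact q3 g m u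
    let M := ((L.map spToGL).subgroupOf (Cfsg.isometryGroup F Q)).map (isometryEquiv Q).toMonoidHom
    have hM : ∀ g : Cfsg.isometryGroup F Q, isometryEquiv Q g ∈ M ↔ g.1 ∈ L.map spToGL := fun g =>
      Subgroup.mem_map_iff_mem (isometryEquiv Q).injective
    have full : ∀ a, q a = 0 → (∀ p, (spSk F n).h p a = 0 → (spSk F n).Eg L a p (q p)) → (ofQuad Q).Full M a := fun a a0 h w s h1 h2 => by
      obtain ⟨-, g, m, e⟩ := h w (spSk_sy.sm a w ▸ hp a w ▸ h1)
      convert (hM ⟨_, hL ⟨g, m, rfl⟩⟩).2 ⟨g, m, rfl⟩ using 1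
      refine Isom.ext fun y => ((ofQuad Q).siegel_apply a0 h1 h2 y).trans (.trans ?_ (e y).symm)
      rw [spSk_sy.sm a y, spSk_sy.sm w y, show q w = s from h2.symm]
      simp only [ofQuad_B, hp, spSk_h, show (ofQuad Q).ε = 1 from rfl]
      match_scalars <;> grind
    refine .inr (.inl ⟨Q, hp, (over_E (isQuad_ofQuad Q) (by omega) (E_le_of_full (full f q5 q7) q5 (full a q4 q6) q4
      (by rw [ofQuad_B, hp, ← spSk_h, h1]; simp))).imp (fun h => le_antisymm hL fun g m => (hM ⟨g, m⟩).1 (h.ge trivial)) fun h g => ?_⟩)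
    exact ⟨fun m => ⟨hL m, rank_eq (isometryEquiv_apply Q ⟨g, hL m⟩) ▸ (h _).1 ((hM _).2 m)⟩,
      fun ⟨m, e⟩ => (hM ⟨g, m⟩).1 ((h _).2 (rank_eq (isometryEquiv_apply Q ⟨g, m⟩) ▸ e))⟩
  · obtain rfl : n = 2 := by
      by_contra e
      exact h2 fun x y x' y' => by
        simpa using ex_notMem_span (F := F) {x, y, x', y'} (by have := Finset.card_le_four (a := x) (b := y) (c := x') (d := y'); omega)
    obtain ⟨h3, h4 | h4⟩ := sp4_exc h1 L h
    exacts [.inl h4, .inr (.inr ⟨h3, rfl, h4⟩)]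

theorem sp_om {a : Fin n ⊕ Fin n → F} (ha : a ≠ 0) (hn : 1 ≤ n) {X L : Subgroup (GL (Fin n ⊕ Fin n) F)} (hXL : X ≤ L)
    (hX : X ≤ spToGL.range) (hO : X ≤ (Cfsg.pCore 2 ((MulAction.stabilizer (symplecticGroup (Fin n) F) a).map spToGL)).map (Subgroup.subtype _))
    (hc : Nat.card X = Fintype.card F ^ (2 * n - 2)) (ht : ∀ x ∈ X, (x.1 - 1).rank ≠ 1) : (spSk F n).Om (L.comap spToGL) a := by
  refine spSk_sy.om_of (X := X.comap spToGL) ha (Subgroup.comap_mono hXL) (fun g m => spSk_sy.unip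
    (N := ((Cfsg.pCore 2 ((MulAction.stabilizer (symplecticGroup (Fin n) F) a).map spToGL)).map (Subgroup.subtype _)).comap spToGL)
    ha ?_ ?_ ?_ (hO m)) (fun g m c e => ?_) ?_
  · rintro g ⟨⟨_, k, m, rfl⟩, -, e⟩
    exact spToGL_injective e ▸ m
  · rintro g ⟨k, m, e⟩
    obtain ⟨j, h⟩ := H02.pCore_isPGroup 2 _ ⟨k, m⟩
    exact ⟨j, spToGL_injective (by rw [map_pow, ← e, map_one]; exact congrArg (·.1.1) h)⟩
  · rintro g ⟨k, m, e⟩ t h
    exact ⟨_, (Cfsg.pCore_normal 2 _).conj_mem k m ⟨_, t, h, rfl⟩, by simp [← e]⟩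
  · by_contra c0
    refine ht _ m ?_
    obtain ⟨f, -, f1⟩ := spSk_sy.sep ⊥ a (by simpa)
    have : ∀ y, (g.1 - 1) *ᵥ y = (c * (spSk F n).h y a) • a := fun y => by
      rw [sub_mulVec, one_mulVec, sub_eq_iff_eq_add']; exact (e y).trans (by simp)
    rw [Matrix.rank, ← finrank_span_singleton (K := F) ha]
    refine congrArg (fun W : Submodule F _ => finrank F W) (le_antisymm ?_ ((Submodule.span_singleton_le_iff_mem _ _).2 ⟨c⁻¹ • f, (this _).trans (by simp [f1, c0])⟩))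
    rintro _ ⟨y, rfl⟩
    exact Submodule.mem_span_singleton.2 ⟨_, (this y).symm⟩
  · rw [← Subgroup.card_map_of_injective spToGL_injective, Subgroup.map_comap_eq_self hX, hc]
    simp only [Nat.card_eq_fintype_card, Fintype.card_fun, Fintype.card_sum, Fintype.card_fin, ← pow_two, ← pow_add]
    congr 1; omega
end H09
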